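import Cfsg.Agent.H363.IFO.Rgd
import Cfsg.Agent.H744.FC.Par
import Cfsg.Agent.H548.CosetMod
import Cfsg.Agent.S1025
import Cfsg.Agent.S1026
import Cfsg.Agent.S1032
import Cfsg.Agent.H122.Pw.FiveFour_m3
import Cfsg.Agent.H27.Psl.Irr
import Mathlib.LinearAlgebra.Matrix.SpecialLinearGroup
import Cfsg.Agent.H122.Pw.EightThree
import Cfsg.Agent.H137.G24.Fin_mg
import Cfsg.Agent.H122.TC.Real_m3
import Mathlib
import Cfsg.Agent.H98.F43.BlockE_mg
import Cfsg.Agent.H750.F43.UTwo_mg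
import Cfsg.Agent.S0765
import Cfsg.Agent.H538.TC.SLThreeC_m3
import Cfsg.Agent.KFacts.RgdAutFacts
import Cfsg.Agent.Lib.GoldschmidtFusion
import Cfsg.Agent.H296.FFourPar
import Cfsg.Agent.OddHalf.Quat.KTwoOf_m3
import Cfsg.Agent.H701.F43.Cent
import Cfsg.Agent.PRankPar.Inst
import Cfsg.Agent.FastGrp
import Cfsg.Agent.Prune
set_option linter.all false

section
prune_inst 0x7ffca8f8abac39dfdf7d7e3fa698cdfc31800fffa4dff943ffe061bf0b9f038209c5238109e010fe0e16401410287843f97ecfffea6bd87ffffd1ff41ffbee0fe5f6b508519488340fb40ff603f0678a6f3fffffffffffffffffffffffffffbeffbffbfeffff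

-- part: H520/FC/CB_mg
section
prune_inst 0x5703045086202082004058651201c879f0005b000688001a82400440080cf228d82e1408400111e1a0a220d003100600200005000400000040004000119018010881006a108000000009e000184410000000000000000000000000000000004004010000
set_option linter.all false
open scoped Cfsg.Agent.FastGrp

-- part: H520/FC/Lead
section
/-!
# Leading root element of a unipotent element; `|C(u)| (q - 1) p ≤ |P|` (helper520, S2464)

* `exists_lead` : `u ∈ U`, `u ≠ 1`: `u = x * n`, `1 ≠ x ∈ X b`, `n ∈ ⟨X (S \ {b})⟩`, `S` closed upwards, `b` of least height in `S`;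
* `card_cent_le` : the torus and `U` move `u` through `(|F| - 1) p` elements if `u` is not central in `U`.
-/

set_option autoImplicit false
set_option linter.unusedSectionVars false

namespace Cfsg.Agent.H520.FC

open Subgroup CoxeterSystem Cfsg.Agent.ChevalleyStructure.CoxeterGeom Cfsg.Agent.Tits.Core
  Cfsg.Agent.Nodes.Reps Cfsg.Agent.Nodes.BNOf Cfsg.Agent.Nodes
  Cfsg.Agent.KFacts.RgdFilt Cfsg.Agent.KFacts.RgdBorelTits Cfsg.Agent.OddHalf.D4.StarLoc Cfsg.Agent.H363.IFO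
open Cfsg.Agent.Tits.Roots hiding ht
open Cfsg.Agent.OddHalf.D4.LineRgd (ht)
open scoped commutatorElement

universe v

/-- counting the conjugates of `u` by the elements `f i` -/
theorem count {ι Y : Type*} [Group Y] [Finite Y] (P : Subgroup Y) (u : Y) (hC : centralizer {u} ≤ P) (f : ι → Y)
    (hf : ∀ i, f i ∈ P) (hinj : ∀ i j, f i * u * (f i)⁻¹ = f j * u * (f j)⁻¹ → i = j) :
    Nat.card ι * Nat.card (centralizer {u}) ≤ Nat.card P := by
  rw [← Nat.card_prod]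
  refine Nat.card_le_card_of_injective (fun x : ι × centralizer {u} => (⟨f x.1 * x.2, P.mul_mem (hf _) (hC x.2.2)⟩ : P)) ?_
  rintro ⟨c, x⟩ ⟨c', x'⟩ h
  have h2 : f c * (x : Y) = f c' * (x' : Y) := congrArg Subtype.val h
  have hx : (x : Y) * u = u * x := (mem_centralizer_singleton_iff.1 x.2).symm ▸ rfl
  have hx' : (x' : Y) * u = u * x' := (mem_centralizer_singleton_iff.1 x'.2).symm ▸ rfl
  have key : ∀ (a b : Y), b * u = u * b → (a * b) * u * (a * b)⁻¹ = a * u * a⁻¹ := by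
    intro a b hb
    have : a * b * u = a * u * b := by rw [mul_assoc, hb, mul_assoc]
    rw [this]
    group
  have h3 := key (f c) x hx
  have h4 := key (f c') x' hx'
  rw [h2, h4] at h3
  obtain rfl := hinj _ _ h3.symm
  have h7 := mul_left_cancel h2
  rw [Subtype.ext h7]

variable {I W : Type*} {Y : Type v} [Fintype I] [DecidableEq I] [Group W] [Group Y] {M : CoxeterMatrix I}
  {cs : CoxeterSystem M W} {A : I → I → ℤ} {h : IsCartan M A} {p : ℕ} {T : Subgroup Y} {n : I → Y}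
  {X : (I → ℤ) → Subgroup Y}

/-- **The leading root element.** -/
theorem exists_lead [Finite W] (hI : IntComm cs h X) {u : Y} (hu : u ∈ RGD.Sup X (RGD.Pos cs h)) (hu1 : u ≠ 1) :
    ∃ (S : Set (I → ℤ)) (b : I → ℤ), Up cs h S ∧ b ∈ S ∧ (∀ y ∈ S, ht b ≤ ht y) ∧
      ∃ x ∈ X b, x ≠ 1 ∧ ∃ m ∈ RGD.Sup X (S \ {b}), u = x * m := by
  classical
  have hfin : (RGD.Pos cs h).Finite := (RGD.finite_roots (cs := cs) (h := h)).subset fun _ hx => hx.1
  have hex : ∃ k : ℕ, ∃ S : Set (I → ℤ), Up cs h S ∧ u ∈ RGD.Sup X S ∧ S.ncard = k := ⟨_, _, up_pos, hu, rfl⟩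
  obtain ⟨S, hS, huS, hk⟩ := Nat.find_spec hex
  have hSf : S.Finite := hfin.subset hS.1
  have hne : S.Nonempty := by
    by_contra hcon
    rw [Set.not_nonempty_iff_eq_empty] at hcon
    apply hu1
    rw [hcon] at huS
    have : RGD.Sup X (∅ : Set (I → ℤ)) ≤ ⊥ := RGD.Sup_le fun z hz => absurd hz (Set.notMem_empty z)
    exact Subgroup.mem_bot.1 (this huS)
  obtain ⟨b, hb, hmin⟩ := Set.exists_min_image S (fun y => ht y) hSf hne
  have hS' : Up cs h (S \ {b}) := up_diff hS (by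
    intro o ho y hy
    rw [Set.mem_singleton_iff.1 ho]
    exact hmin y hy)
  have hnot : u ∉ RGD.Sup X (S \ {b}) := by
    intro hcon
    have h1 : (S \ {b}).ncard < Nat.find hex := by
      rw [← hk]
      exact Set.ncard_sdiff_singleton_lt_of_mem hb hSf
    exact Nat.find_min hex h1 ⟨_, hS', hcon, rfl⟩
  have hnorm : X b ≤ Subgroup.normalizer (RGD.Sup X (S \ {b}) : Set Y) := by
    intro a ha
    rw [Subgroup.mem_normalizer_iff]
    intro w
    refine ⟨fun hw => hS'.conj hI (hS.1 hb) ha hw, fun hw => ?_⟩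
    have h1 := hS'.conj hI (hS.1 hb) (inv_mem ha) hw
    have e : a⁻¹ * (a * w * a⁻¹) * a⁻¹⁻¹ = w := by group
    rwa [e] at h1
  have h2 : u ∈ ((X b ⊔ RGD.Sup X (S \ {b}) : Subgroup Y) : Set Y) := by
    have h3 : RGD.Sup X S ≤ X b ⊔ RGD.Sup X (S \ {b}) := RGD.Sup_le fun z hz => by
      by_cases hzb : z = b
      · rw [hzb]; exact le_sup_left
      · exact le_trans (RGD.le_Sup (S := S \ {b}) ⟨hz, hzb⟩) le_sup_right
    exact h3 huS
  rw [Subgroup.coe_mul_of_left_le_normalizer_right _ _ hnorm, Set.mem_mul] at h2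
  obtain ⟨x, hx, m, hm, e⟩ := h2
  refine ⟨S, b, hS, hb, hmin, x, hx, ?_, m, hm, e.symm⟩
  rintro rfl
  rw [one_mul] at e
  exact hnot (e ▸ hm)

/-- **`(|F| - 1) p |C(u)| ≤ |P|`.** -/
theorem card_cent_le [Finite W] [Finite Y] [Fact p.Prime] (R : RGD cs h p T n X) (hI : IntComm cs h X)
    (hab : ∀ x ∈ RGD.Pos cs h, ∀ a ∈ X x, ∀ b ∈ X x, a * b = b * a) {F : Type*} [Finite F] (k : F → Y)
    (hkT : ∀ c, k c ∈ T) {u : Y} (hu : u ∈ RGD.Sup X (RGD.Pos cs h)) {S : Set (I → ℤ)} {b : I → ℤ} (hS : Up cs h S)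
    (hb : b ∈ S) (hmin : ∀ y ∈ S, ht b ≤ ht y) {x m : Y} (hx : x ∈ X b) (hm : m ∈ RGD.Sup X (S \ {b})) (he : u = x * m)
    (hk : ∀ c c', k c * x * (k c)⁻¹ = k c' * x * (k c')⁻¹ → c = c') {v : Y} (hv : v ∈ RGD.Sup X (RGD.Pos cs h))
    (hvu : v * u ≠ u * v) {P : Subgroup Y} (hTP : T ≤ P) (hUP : RGD.Sup X (RGD.Pos cs h) ≤ P)
    (hC : centralizer {u} ≤ P) : Nat.card F * p * Nat.card (centralizer {u}) ≤ Nat.card P := by
  have hS' : Up cs h (S \ {b}) := up_diff hS (by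
    intro o ho y hy
    rw [Set.mem_singleton_iff.1 ho]
    exact hmin y hy)
  have hbp : b ∈ RGD.Pos cs h := hS.1 hb
  have hxU : x ∈ RGD.Sup X (RGD.Pos cs h) := RGD.le_Sup hbp hx
  have hmU : ∀ {w}, w ∈ RGD.Sup X (S \ {b}) → w ∈ RGD.Sup X (RGD.Pos cs h) := fun hw => RGD.Sup_mono hS'.1 hw
  have huS : u ∈ RGD.Sup X S := by
    rw [he]
    exact mul_mem (RGD.le_Sup hb hx) (RGD.Sup_mono Set.sdiff_subset hm)
  -- conjugation by `U` does not change `x` modulo `N`
  have h1 : ∀ w ∈ RGD.Sup X (RGD.Pos cs h), ∃ m' ∈ RGD.Sup X (S \ {b}), w * u * w⁻¹ = x * m' := by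
    intro w hw
    have h2 : ⁅w, u⁆ ∈ RGD.Sup X (S \ {b}) := comm_U hI hab hS (O := {b}) (by
      intro o ho y hy
      rw [Set.mem_singleton_iff.1 ho]
      exact hmin y hy) w hw u huS
    have h3 : x⁻¹ * ⁅w, u⁆ * x⁻¹⁻¹ ∈ RGD.Sup X (S \ {b}) := conj_Sup hI hS' (inv_mem hxU) h2
    refine ⟨x⁻¹ * ⁅w, u⁆ * x⁻¹⁻¹ * m, mul_mem h3 hm, ?_⟩
    have e : w * u * w⁻¹ = ⁅w, u⁆ * u := by rw [commutatorElement_def]; group
    rw [e]
    nth_rw 2 [he]
    group
  -- the torus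
  have hT : ∀ t ∈ T, ∀ w ∈ RGD.Sup X (S \ {b}), t * w * t⁻¹ ∈ RGD.Sup X (S \ {b}) := fun t ht w hw =>
    (Subgroup.mem_normalizer_iff.1 (R.T_le_normalizer (S := S \ {b}) (fun y hy => (hS.1 hy.1).1) ht) w).1 hw
  have hTX : ∀ t ∈ T, t * x * t⁻¹ ∈ X b := fun t ht => by
    have h2 := R.tor b hbp.1 t ht
    have h3 : t * x * t⁻¹ ∈ cj t (X b) := ⟨x, hx, rfl⟩
    rwa [h2] at h3
  -- `v ^ j` centralises `u` only for `p ∣ j`
  have hvp : ∃ e : ℕ, v ^ p ^ e = 1 := by
    obtain ⟨e, he⟩ := R.isPGroup_Upos ⟨v, hv⟩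
    exact ⟨e, congrArg Subtype.val he⟩
  have hvj : ∀ j : ℤ, v ^ j * u = u * v ^ j → (p : ℤ) ∣ j := by
    intro j hj
    by_contra hcon
    obtain ⟨e, he⟩ := hvp
    have hcop : IsCoprime j ((p : ℤ) ^ e) := by
      apply IsCoprime.pow_right
      exact ((Nat.prime_iff_prime_int.1 (Fact.out : p.Prime)).coprime_iff_not_dvd.2 hcon).symm
    obtain ⟨a, c, hac⟩ := hcop
    apply hvu
    have h2 : v = (v ^ j) ^ a := by
      have h3 : v ^ (p ^ e : ℤ) = 1 := by exact_mod_cast he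
      calc v = v ^ (a * j + c * (p : ℤ) ^ e) := by rw [hac, zpow_one]
        _ = (v ^ j) ^ a * (v ^ ((p : ℤ) ^ e)) ^ c := by rw [zpow_add, mul_comm a j, zpow_mul, mul_comm c, zpow_mul]
        _ = (v ^ j) ^ a := by rw [h3, one_zpow, mul_one]
    have h4 : Commute (v ^ j) u := hj
    have h5 := h4.zpow_left a
    rw [← h2] at h5
    exact h5
  have key := count P u hC (fun i : F × Fin p => k i.1 * v ^ ((i.2 : ℕ) : ℤ))
    (fun i => mul_mem (hTP (hkT _)) (hUP (zpow_mem hv _))) (by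
    rintro ⟨c, j⟩ ⟨c', j'⟩ hcj
    have hcj' : k c * v ^ ((j : ℕ) : ℤ) * u * (k c * v ^ ((j : ℕ) : ℤ))⁻¹ =
      k c' * v ^ ((j' : ℕ) : ℤ) * u * (k c' * v ^ ((j' : ℕ) : ℤ))⁻¹ := hcj
    obtain ⟨m1, hm1, e1⟩ := h1 _ (zpow_mem hv ((j : ℕ) : ℤ))
    obtain ⟨m2, hm2, e2⟩ := h1 _ (zpow_mem hv ((j' : ℕ) : ℤ))
    have e3 : ∀ a w : Y, a * w * u * (a * w)⁻¹ = a * (w * u * w⁻¹) * a⁻¹ := fun a w => by group
    rw [e3, e3, e1, e2] at hcj'
    have e4 : ∀ a y w : Y, a * (y * w) * a⁻¹ = (a * y * a⁻¹) * (a * w * a⁻¹) := fun a y w => by group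
    rw [e4, e4] at hcj'
    have h6 : (k c' * x * (k c')⁻¹)⁻¹ * (k c * x * (k c)⁻¹) =
        (k c' * m2 * (k c')⁻¹) * (k c * m1 * (k c)⁻¹)⁻¹ := by
      rw [inv_mul_eq_iff_eq_mul, ← mul_assoc, ← hcj', mul_inv_cancel_right]
    have h7 : (k c' * x * (k c')⁻¹)⁻¹ * (k c * x * (k c)⁻¹) = 1 := by
      refine inf_eq_one R hI hS' hbp (fun h => h.2 rfl) (mul_mem (inv_mem (hTX _ (hkT c'))) (hTX _ (hkT c))) ?_
      rw [h6]
      exact mul_mem (hT _ (hkT c') _ hm2) (inv_mem (hT _ (hkT c) _ hm1))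
    have h8 : c = c' := hk c c' (inv_mul_eq_one.1 h7).symm
    subst h8
    rw [← e4, ← e4] at hcj'
    have h9 : x * m1 = x * m2 := mul_left_cancel (mul_right_cancel hcj')
    rw [← e1, ← e2] at h9
    have h10 : v ^ (((j : ℕ) : ℤ) - ((j' : ℕ) : ℤ)) * u = u * v ^ (((j : ℕ) : ℤ) - ((j' : ℕ) : ℤ)) := by
      have h11 : v ^ (((j : ℕ) : ℤ) - ((j' : ℕ) : ℤ)) = (v ^ ((j' : ℕ) : ℤ))⁻¹ * v ^ ((j : ℕ) : ℤ) := by
        rw [← zpow_neg, ← zpow_add]
        congr 1
        ring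
      rw [h11]
      calc (v ^ ((j' : ℕ) : ℤ))⁻¹ * v ^ ((j : ℕ) : ℤ) * u
          = (v ^ ((j' : ℕ) : ℤ))⁻¹ * (v ^ ((j : ℕ) : ℤ) * u * (v ^ ((j : ℕ) : ℤ))⁻¹) * v ^ ((j : ℕ) : ℤ) := by group
        _ = u * ((v ^ ((j' : ℕ) : ℤ))⁻¹ * v ^ ((j : ℕ) : ℤ)) := by rw [h9]; group
    have h12 := hvj _ h10
    have h13 : (j : ℕ) = j' := by
      have hj := j.2
      have hj' := j'.2
      by_contra hne
      have h14 : (p : ℤ) ≤ |((j : ℕ) : ℤ) - ((j' : ℕ) : ℤ)| :=
        Int.le_of_dvd (abs_pos.2 (by omega)) ((dvd_abs _ _).2 h12)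
      rw [le_abs] at h14
      omega
    rw [Fin.ext h13])

  rw [Nat.card_prod, Nat.card_eq_fintype_card (α := Fin p), Fintype.card_fin] at key
  exact key

end Cfsg.Agent.H520.FC
end

-- part: H520/FC/CB
section
/-!
# S2464, `F₄(q)`, `q = 5, 7, 17`: `2 |C(g)| < d2²` for `p`-singular `g`, not a long root element (helper520)

* `cb_unip` : `g` of order a power of `p`, from `OC3`, `OB3` and `Z(U) = X_θ`;
* `cb_of` : all `g`, from `Mixed`.
-/

set_option autoImplicit false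
set_option linter.unusedSectionVars false

namespace Cfsg.Agent.H520.FC

open Subgroup CoxeterSystem Cfsg.Agent.ChevalleyStructure.CoxeterGeom Cfsg.Agent.Tits.Core
  Cfsg.Agent.Tits.Exchange Cfsg.Agent.Nodes.Reps Cfsg.Agent.Nodes.BNOf Cfsg.Agent.Nodes.StabComb
  Cfsg.Agent.Nodes.Bruhat Cfsg.Agent.Nodes.OppDec Cfsg.Agent.Nodes.LeviDec Cfsg.Agent.Nodes.NormX
  Cfsg.Agent.Nodes.Coroot Cfsg.Agent.Nodes.RGDChev Cfsg.Agent.KFacts.RgdPar Cfsg.Agent.KFacts.RgdTI
  Cfsg.Agent.KFacts.RgdCent Cfsg.Agent.KFacts.RgdChevCoord Cfsg.Agent.Nodes.ChevCls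
  Cfsg.Agent.OddHalf.NI.ModelChev Cfsg.Agent.H225.PPow
open Cfsg.Agent.Tits.Roots hiding ht
open Cfsg.Agent.OddHalf.D4.LineRgd (ht)
open Cfsg.Lie Cfsg.Agent.ChevalleyStructure Cfsg.Agent.ChevalleyStructure.Elts
  Cfsg.Agent.ChevalleyStructure.RootVec Cfsg.Agent.ChevalleyStructure.NPerm
  Cfsg.Agent.ChevalleyStructure.CoxeterGeomTypes
open Cfsg.Agent.H701.F43.Cent (hF cF nroots finW)
open Cfsg.Agent.KFacts.RgdBorelTits Cfsg.Agent.KFacts.RgdFilt

universe u

/-- orbit and stabiliser -/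
theorem cls_mul_le {Y : Type*} [Group Y] [Finite Y] {P : Subgroup Y} {u : Y} (hC : centralizer {u} ≤ P) :
    Nat.card ↥(cls P u) * Nat.card (centralizer {u}) ≤ Nat.card P := by
  have hex : ∀ x : ↥(cls P u), ∃ g ∈ P, g * u * g⁻¹ = x := fun x => x.2
  choose f hf hfx using hex
  refine count P u hC f hf fun i j hij => ?_
  rw [hfx, hfx] at hij
  exact Subtype.ext hij

section

variable {K : Type u} [Field K]

theorem tab_cartan : ∀ r < 48, ∃ i : Fin 4, chevF4.cartan i r = 1 ∨ chevF4.cartan i r = -1 := by decide +kernel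

/-- the torus on a root group -/
theorem exists_torus {b : Fin 4 → ℤ} (hb : IsRoot cF hF.isCartan b) {x : ↥(chevF4.group K)} (p : ℕ)
    [Fact p.Prime] [CharP K p] [Finite K] (hx : x ∈ XX chevF4 4 K b) (hx1 : x ≠ 1) :
    ∃ k : Kˣ → ↥(chevF4.group K), (∀ c, k c ∈ TT chevF4 K) ∧
      ∀ c c', k c * x * (k c)⁻¹ = k c' * x * (k c')⁻¹ → c = c' := by
  obtain ⟨r, hr, rfl⟩ := (isRoot_iff hF cF b).1 hb
  have C := (coords (K := K) hF cF p).coord _ hb
  obtain ⟨a, rfl⟩ := (C.mem x).1 hx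
  have ha : a ≠ 0 := by
    rintro rfl
    exact hx1 C.zero
  obtain ⟨i, hi⟩ := tab_cartan r (by rw [← nroots]; exact hr)
  refine ⟨fun c => hc hF i (c : K), fun c => hc_mem hF i c.ne_zero, fun c c' hcc => ?_⟩
  have h1 : ∀ c : Kˣ, hc hF i (c : K) * xc hF (vec chevF4 4 r) a * (hc hF i (c : K))⁻¹ =
      xc hF (vec chevF4 4 r) ((c : K) ^ chevF4.cartan i r * a) := by
    intro c
    have h2 := (_root_.Cfsg.Agent.KFacts.RgdChevCoord.act hF hr (hc_mem hF i c.ne_zero)).2 a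
    rw [ch_hc hF i c.ne_zero hr] at h2
    exact h2
  have hcc' : hc hF i (c : K) * xc hF (vec chevF4 4 r) a * (hc hF i (c : K))⁻¹ =
    hc hF i (c' : K) * xc hF (vec chevF4 4 r) a * (hc hF i (c' : K))⁻¹ := hcc
  rw [h1, h1] at hcc'
  have h3 := xc_inj hF hr hcc'
  have h4 : (c : K) ^ chevF4.cartan i r = (c' : K) ^ chevF4.cartan i r := mul_right_cancel₀ ha h3
  apply Units.ext
  rcases hi with hi | hi
  · rwa [hi, zpow_one, zpow_one] at h4
  · rw [hi, zpow_neg_one, zpow_neg_one] at h4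
    exact inv_injective h4

theorem Lng.conj {u : ↥(chevF4.group K)} (g : ↥(chevF4.group K)) (h : Lng (g⁻¹ * u * g)) : Lng u := by
  obtain ⟨a, ha⟩ := h
  refine ⟨a * g⁻¹, ?_⟩
  have e : a * g⁻¹ * u * (a * g⁻¹)⁻¹ = a * (g⁻¹ * u * g) * a⁻¹ := by group
  rw [e]
  exact ha

theorem card_cent_conj {Y : Type*} [Group Y] [Finite Y] (g u : Y) :
    Nat.card (centralizer ({g⁻¹ * u * g} : Set Y)) = Nat.card (centralizer ({u} : Set Y)) := by
  refine Nat.card_congr ((MulAut.conj g).toEquiv.subtypeEquiv fun x => ?_)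
  show x ∈ centralizer _ ↔ g * x * g⁻¹ ∈ centralizer _
  rw [mem_centralizer_singleton_iff, mem_centralizer_singleton_iff]
  constructor
  · intro hx
    calc g * x * g⁻¹ * u = g * (x * (g⁻¹ * u * g)) * g⁻¹ := by group
      _ = g * ((g⁻¹ * u * g) * x) * g⁻¹ := by rw [hx]
      _ = u * (g * x * g⁻¹) := by group
  · intro hx
    calc x * (g⁻¹ * u * g) = g⁻¹ * (g * x * g⁻¹ * u) * g := by group
      _ = g⁻¹ * (u * (g * x * g⁻¹)) * g := by rw [hx]
      _ = g⁻¹ * u * g * x := by group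

/-- the commutators -/
theorem intComm : IntComm cF hF.isCartan (XX chevF4 4 K) := by
  have h0 := KFacts.RgdFiltChev.intComm_GL (K := K) hF cF
  intro x y hx hy hxy hxy' a ha b hb
  have h2 := h0 x y hx hy hxy hxy' a ha b hb
  have h3 : FS (XX chevF4 4 K) {z | IB cF hF.isCartan x y z} =
      (FS (XV chevF4 4 K) {z | IB cF hF.isCartan x y z}).subgroupOf (chevF4.group K) := by
    unfold FS
    rw [Nodes.RGDLib.iSup_subgroupOf]
    rintro ⟨z, hz⟩
    exact XV_le_group hF z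
  rw [h3, Subgroup.mem_subgroupOf]
  exact h2

/-- the root groups are abelian -/
theorem xab [Finite K] (p : ℕ) [Fact p.Prime] [CharP K p] : ∀ x ∈ RGD.Pos cF hF.isCartan,
    ∀ a ∈ XX chevF4 4 K x, ∀ b ∈ XX chevF4 4 K x, a * b = b * a := by
  intro x hx a ha b hb
  have C := (coords (K := K) hF cF p).coord x hx.1
  obtain ⟨s, rfl⟩ := (C.mem a).1 ha
  obtain ⟨t, rfl⟩ := (C.mem b).1 hb
  rw [← C.add, ← C.add, add_comm]

/-- **`(q - 1) q |C(v)| ≤ |P|`**, `v ∈ U` not central in `U`. -/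
theorem card_gen [Finite K] (p : ℕ) [Fact p.Prime] [CharP K p] {v : ↥(chevF4.group K)}
    (hv : v ∈ RGD.Sup (XX chevF4 4 K) (RGD.Pos cF hF.isCartan)) (hv1 : v ≠ 1)
    {w : ↥(chevF4.group K)} (hw : w ∈ RGD.Sup (XX chevF4 4 K) (RGD.Pos cF hF.isCartan)) (hwv : w * v ≠ v * w)
    {J : Set (Fin 4)} (hC : centralizer {v} ≤ PK K J) :
    (Nat.card K - 1) * p * Nat.card ↥(centralizer ({v} : Set ↥(chevF4.group K))) ≤ Nat.card ↥(PK K J) := by
  have hW := finite_W hF cF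
  have hfin : Finite ↥(chevF4.group K) := inferInstance
  have R := rgd (K := K) hF cF p
  obtain ⟨S, b, hS, hb, hmin, x, hx, hx1, m, hm, he⟩ := exists_lead intComm hv hv1
  obtain ⟨k, hkT, hk⟩ := exists_torus (hS.1 hb).1 p hx hx1
  have hB : RGD.B cF hF.isCartan (TT chevF4 K) (XX chevF4 4 K) ≤ PK K J := B_le_PJ
  have key := card_cent_le (P := PK K J) R intComm (xab p) k hkT hv hS hb hmin hx hm he hk hw hwv
    (le_trans RGD.T_le_B hB) (le_trans RGD.U_le_B hB) hC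
  have h1 : Nat.card Kˣ = Nat.card K - 1 := Nat.card_units K
  rw [h1] at key
  exact key

/-- `K` is the prime field -/
theorem p_eq [Finite K] (p : ℕ) [hp : Fact p.Prime] [CharP K p]
    (hq : Nat.card K = 5 ∨ Nat.card K = 7 ∨ Nat.card K = 17) : p = Nat.card K := by
  have := Fintype.ofFinite K
  obtain ⟨n, hn, hcard⟩ := FiniteField.card K p
  have h1 : p ∣ Nat.card K := by
    rw [Nat.card_eq_fintype_card, hcard]
    exact dvd_pow_self p n.ne_zero
  rcases hq with h | h | h <;> rw [h] at h1 ⊢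
  · exact (Nat.prime_dvd_prime_iff_eq hp.out (by norm_num)).1 h1
  · exact (Nat.prime_dvd_prime_iff_eq hp.out (by norm_num)).1 h1
  · exact (Nat.prime_dvd_prime_iff_eq hp.out (by norm_num)).1 h1

/-- **The unipotent elements.** -/
theorem cb_unip [Finite K] {p : ℕ} [Fact p.Prime] [CharP K p] (hq : Nat.card K = 5 ∨ Nat.card K = 7 ∨ Nat.card K = 17)
    (h3 : OC3 K) (h0 : OB3 K)
    (hZ : ∀ u ∈ RGD.Sup (XX chevF4 4 K) (RGD.Pos cF hF.isCartan),
      (∀ v ∈ RGD.Sup (XX chevF4 4 K) (RGD.Pos cF hF.isCartan), u * v = v * u) → u ∈ XT K)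
    {c : ℕ} (hc : c = 2 ∨ c = 10 ∧ Nat.card K = 17)
    {u : ↥(chevF4.group K)} (hu1 : u ≠ 1) {e : ℕ} (hue : u ^ p ^ e = 1) (hl : ¬ Lng u) :
    c * Nat.card ↥(centralizer ({u} : Set ↥(chevF4.group K))) < d2 (Nat.card K) ^ 2 := by
  have hW := finite_W hF cF
  have hfin : Finite ↥(chevF4.group K) := inferInstance
  have hFil := KFacts.RgdFiltChev.filt (K := K) hF cF p
  have hG := KFacts.RgdFilt.GG_eq_top (T := TT chevF4 K) (G1_eq_top hF (K := K) cF)
  have R := rgd (K := K) hF cF p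
  have hpq : p = Nat.card K := p_eq p hq
  have hK : IsPGroup p (zpowers u) := by
    rintro ⟨y, n, rfl⟩
    refine ⟨e, Subtype.ext ?_⟩
    show (u ^ n) ^ p ^ e = 1
    rw [← zpow_natCast, ← zpow_mul, mul_comm, zpow_mul, zpow_natCast, hue, one_zpow]
  obtain ⟨g, J, hJ, hle, hN⟩ := borel_tits hFil hG hK (by rw [Ne, zpowers_eq_bot]; exact hu1)
  obtain ⟨v, hv, hvu⟩ : ∃ v ∈ VK K J, g * v * g⁻¹ = u := by
    obtain ⟨v, hv, hvu⟩ := hle (mem_zpowers u)
    exact ⟨v, hv, hvu⟩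
  have hvu' : v = g⁻¹ * u * g := by rw [← hvu]; group
  have hlv : ¬ Lng v := fun hcon => hl (Lng.conj g (hvu' ▸ hcon))
  have hv1 : v ≠ 1 := by
    rintro rfl
    apply hu1
    rw [← hvu]
    group
  have hCv : centralizer {v} ≤ PK K J := by
    intro x hx
    have h1 : g * x * g⁻¹ ∈ cj g (PK K J) := by
      apply hN
      refine centralizer_le_normalizer _ ?_
      rw [mem_centralizer_iff]
      rintro y ⟨n, rfl⟩
      have h2 : Commute u (g * x * g⁻¹) := by
        have h3 := mem_centralizer_singleton_iff.1 hx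
        show u * (g * x * g⁻¹) = g * x * g⁻¹ * u
        rw [← hvu]
        calc g * v * g⁻¹ * (g * x * g⁻¹) = g * (v * x) * g⁻¹ := by group
          _ = g * (x * v) * g⁻¹ := by rw [h3]
          _ = g * x * g⁻¹ * (g * v * g⁻¹) := by group
      exact h2.zpow_left n
    obtain ⟨y, hy, hyx⟩ := h1
    have h2 : y = x := (MulAut.conj g).injective hyx
    exact h2 ▸ hy
  have hcard : Nat.card ↥(centralizer ({u} : Set ↥(chevF4.group K))) = Nat.card ↥(centralizer ({v} : Set ↥(chevF4.group K))) := by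
    rw [hvu', card_cent_conj]
  rw [hcard]
  have hvU : v ∈ RGD.Sup (XX chevF4 4 K) (RGD.Pos cF hF.isCartan) := VJ_le_U J hv
  have hgen : ∀ J' : Set (Fin 4), J ⊆ J' →
      (Nat.card K - 1) * Nat.card K * Nat.card ↥(centralizer ({v} : Set ↥(chevF4.group K))) ≤ Nat.card ↥(PK K J') := by
    intro J' hJJ
    have hnc : ∃ w ∈ RGD.Sup (XX chevF4 4 K) (RGD.Pos cF hF.isCartan), w * v ≠ v * w := by
      by_contra hcon
      push Not at hcon
      refine hlv ⟨1, ?_⟩
      rw [one_mul, inv_one, mul_one]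
      exact hZ v hvU fun w hw => (hcon w hw).symm
    obtain ⟨w, hw, hwv⟩ := hnc
    have h1 := card_gen p hvU hv1 hw hwv hCv
    rw [hpq] at h1
    exact le_trans h1 (H744.FC.card_le_of_subset hJJ)
  have e3 : ({0, 1, 2} : Set (Fin 4)) = {k | k ≠ 3} := by
    ext j
    simp only [Set.mem_insert_iff, Set.mem_singleton_iff, Set.mem_ofPred_eq]
    revert j
    decide
  have e0 : ({1, 2, 3} : Set (Fin 4)) = {k | k ≠ 0} := by
    ext j
    simp only [Set.mem_insert_iff, Set.mem_singleton_iff, Set.mem_ofPred_eq]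
    revert j
    decide
  have hd : ∀ q, q = 5 ∨ q = 7 ∨ q = 17 → (c = 2 ∨ c = 10 ∧ q = 17) → ∀ N : ℕ,
      ((q - 1) * q * N ≤ ((1 + q) * (1 + q + q ^ 2) * (1 + q)) * (q ^ 24 * (q - 1) ^ 4) ∨
        (q - 1) * q * N ≤ ((1 + q) * (1 + q) * (1 + q ^ 2)) * (q ^ 24 * (q - 1) ^ 4) ∨
        q ^ 7 * N ≤ ((1 + q) * ((1 + q) * (1 + q ^ 2)) * ((1 + q + q ^ 2) * (1 + q ^ 3))) * (q ^ 24 * (q - 1) ^ 4) ∨
        (q - 1) ^ 2 * q ^ 5 * N ≤
          2 * (((1 + q) * ((1 + q) * (1 + q ^ 2)) * ((1 + q + q ^ 2) * (1 + q ^ 3))) * (q ^ 24 * (q - 1) ^ 4))) →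
      c * N < d2 q ^ 2 := by
    intro q hq' hc' N hN
    have h2 : c ≤ 10 ∧ (q ≠ 17 → c = 2) := by (clear * - hc'; omega)
    clear hc hc'
    rcases hq' with rfl | rfl | rfl
    · obtain rfl : c = 2 := h2.2 (by norm_num)
      rw [d2]; norm_num only [_root_.gt_iff_lt] at hN ⊢; omega
    · obtain rfl : c = 2 := h2.2 (by norm_num)
      rw [d2]; norm_num only [_root_.gt_iff_lt] at hN ⊢; omega
    · refine lt_of_le_of_lt (Nat.mul_le_mul_right _ h2.1) ?_
      rw [d2]; norm_num only [] at hN ⊢; omega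
  have hd' := hd _ hq hc (Nat.card ↥(centralizer ({v} : Set ↥(chevF4.group K))))
  rcases H744.FC.sub_cases hJ with rfl | rfl | h1 | h1 | h1
  · rw [e3] at hv hCv
    apply hd'
    right; right; left
    rw [← H744.FC.card_ne3]
    refine le_trans ?_ (cls_mul_le hCv)
    exact Nat.mul_le_mul_right _ (h3 v hv fun hcon => hlv ⟨1, by rwa [one_mul, inv_one, mul_one]⟩)
  · rw [e0] at hv hCv
    apply hd'
    right; right; right
    rw [← H744.FC.card_ne0]
    calc (Nat.card K - 1) ^ 2 * Nat.card K ^ 5 * Nat.card ↥(centralizer ({v} : Set ↥(chevF4.group K)))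
        ≤ 2 * Nat.card ↥(cls (PK K {k | k ≠ 0}) v) * Nat.card ↥(centralizer ({v} : Set ↥(chevF4.group K))) :=
          Nat.mul_le_mul_right _ (h0 v hv hlv)
      _ = 2 * (Nat.card ↥(cls (PK K {k | k ≠ 0}) v) * Nat.card ↥(centralizer ({v} : Set ↥(chevF4.group K)))) := by ring
      _ ≤ _ := Nat.mul_le_mul_left _ (cls_mul_le hCv)
  · apply hd'
    left
    rw [← H744.FC.card_013 (J := {0, 1, 3}) (by simp)]
    exact hgen _ h1
  · apply hd'
    left
    rw [← H744.FC.card_023 (J := {0, 2, 3}) (by simp)]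
    exact hgen _ h1
  · apply hd'
    right; left
    rw [← H744.FC.card_12 (J := {1, 2}) (by simp)]
    exact hgen _ h1

/-- **The bound**, from its parts, with the factor `c`. -/
theorem cbc_of [Finite K] {p : ℕ} [Fact p.Prime] [CharP K p] (hq : Nat.card K = 5 ∨ Nat.card K = 7 ∨ Nat.card K = 17)
    (h3 : OC3 K) (h0 : OB3 K)
    (hZ : ∀ u ∈ RGD.Sup (XX chevF4 4 K) (RGD.Pos cF hF.isCartan),
      (∀ v ∈ RGD.Sup (XX chevF4 4 K) (RGD.Pos cF hF.isCartan), u * v = v * u) → u ∈ XT K)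
    {c : ℕ} (hc : c = 2 ∨ c = 10 ∧ Nat.card K = 17)
    (hM : ∀ u s : ↥(chevF4.group K), u * s = s * u → u ≠ 1 → u ∈ XT K → s ≠ 1 → (orderOf s).Coprime p →
      c * Nat.card ↥(Subgroup.centralizer ({u * s} : Set ↥(chevF4.group K))) < d2 (Nat.card K) ^ 2)
    {g : ↥(chevF4.group K)} (hg : p ∣ orderOf g) (hl : ¬ Lng g) :
    c * Nat.card ↥(Subgroup.centralizer ({g} : Set ↥(chevF4.group K))) < d2 (Nat.card K) ^ 2 := by
  have hfin : Finite ↥(chevF4.group K) := inferInstance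
  obtain ⟨i, j, k, m, hij, hi, hj, hm⟩ := Cfsg.Agent.H548.CosetMod.exists_parts p g
  set u := g ^ i with hu
  set s := g ^ j with hs
  have hus : u * s = s * u := by rw [hu, hs, ← pow_add, ← pow_add, add_comm]
  have hu1 : u ≠ 1 := by
    intro hcon
    rw [hcon, one_mul] at hij
    rw [hij] at hg
    have h1 : p ∣ m := hg.trans (orderOf_dvd_of_pow_eq_one hj)
    exact (Nat.Prime.coprime_iff_not_dvd Fact.out).1 hm h1
  by_cases hlu : Lng u
  · obtain ⟨a, ha⟩ := hlu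
    have hs1 : s ≠ 1 := by
      intro hcon
      rw [hcon, mul_one] at hij
      exact hl ⟨a, by rwa [hij]⟩
    have h1 := hM (a * u * a⁻¹) (a * s * a⁻¹) (by
        calc a * u * a⁻¹ * (a * s * a⁻¹) = a * (u * s) * a⁻¹ := by group
          _ = a * (s * u) * a⁻¹ := by rw [hus]
          _ = a * s * a⁻¹ * (a * u * a⁻¹) := by group) (by
        intro hcon
        apply hu1
        have : u = a⁻¹ * (a * u * a⁻¹) * a := by group
        rw [this, hcon]
        group) ha (by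
        intro hcon
        apply hs1
        have : s = a⁻¹ * (a * s * a⁻¹) * a := by group
        rw [this, hcon]
        group) (by
        have h2 : orderOf (a * s * a⁻¹) ∣ m := by
          apply orderOf_dvd_of_pow_eq_one
          rw [conj_pow, hj]
          group
        exact Nat.Coprime.coprime_dvd_left h2 hm.symm)
    have h2 : a * u * a⁻¹ * (a * s * a⁻¹) = a⁻¹⁻¹ * g * a⁻¹ := by
      rw [hij]
      group
    rw [h2, card_cent_conj] at h1
    exact h1
  · refine lt_of_le_of_lt ?_ (cb_unip (p := p) hq h3 h0 hZ hc hu1 hi hlu)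
    refine Nat.mul_le_mul_left _ (Nat.card_le_card_of_injective (Subgroup.inclusion ?_) (Subgroup.inclusion_injective _))
    intro y hy
    rw [mem_centralizer_singleton_iff] at hy ⊢
    have h1 : Commute y g := hy
    exact h1.pow_right i

end

end Cfsg.Agent.H520.FC
end

-- part: H446/FC/V7
section
/-!
# `F₄(q)`, `q` odd: classes of the parabolic of type `B₃` in the 7-dimensional layer (helper446)

`ob3_v7`: `u` in the group `⟨X_x : x₀ = 2⟩` of order `q⁷`, `u` not conjugate into the root group of the highest root: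
the class of `u` under `P_{B₃}` has at least `(q - 1)² q⁵ / 2` elements.
-/

set_option autoImplicit false
set_option linter.unusedSectionVars false
set_option linter.unusedSimpArgs false
set_option linter.unnecessarySeqFocus false

namespace Cfsg.Agent.H446.FC

open CoxeterSystem Cfsg.Agent.ChevalleyStructure.CoxeterGeom Cfsg.Agent.Tits.Roots Cfsg.Agent.Tits.Core
  Cfsg.Agent.Tits.Exchange Cfsg.Agent.Nodes.Reps Cfsg.Agent.Nodes.BNOf Cfsg.Agent.Nodes.StabComb
  Cfsg.Agent.Nodes.Bruhat Cfsg.Agent.Nodes.OppDec Cfsg.Agent.Nodes.LeviDec Cfsg.Agent.Nodes.NormX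
  Cfsg.Agent.Nodes.Coroot Cfsg.Agent.Nodes.RGDChev Cfsg.Agent.KFacts.RgdPar Cfsg.Agent.KFacts.RgdTI
  Cfsg.Agent.KFacts.RgdCent Cfsg.Agent.KFacts.RgdChevCoord Cfsg.Agent.Nodes.ChevCls
  Cfsg.Agent.OddHalf.NI.ModelChev Cfsg.Agent.H225.PPow
open Cfsg.Lie Cfsg.Agent.ChevalleyStructure Cfsg.Agent.ChevalleyStructure.Elts
  Cfsg.Agent.ChevalleyStructure.RootVec Cfsg.Agent.ChevalleyStructure.NPerm
  Cfsg.Agent.ChevalleyStructure.CoxeterGeomTypes
open Cfsg.Agent.H701.F43.Cent (hF cF)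
open Cfsg.Agent.H520.FC

universe u

variable {K : Type u} [Field K]

/-! ### root elements -/

theorem inF4 : InList chevF4 := by simp

/-- root elements -/
noncomputable def X (r : ℕ) (t : K) : ↥(chevF4.group K) := ⟨xG inF4 r t, xG_mem_group inF4 r t⟩

theorem X_add (r : ℕ) (t u : K) : X r (t + u) = X r t * X r u := Subtype.ext (xG_add inF4 r t u).symm

theorem X_zero (r : ℕ) : X r (0 : K) = 1 := Subtype.ext (xG_zero inF4 r)

theorem X_neg (r : ℕ) (t : K) : X r (-t) = (X r t)⁻¹ := by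
  rw [eq_inv_iff_mul_eq_one, ← X_add, neg_add_cancel, X_zero]

/-- the commutator relation in conjugation form -/
theorem rel {s r : ℕ} (hs : s < 48) (hr : r < 48) (h1 : r ≠ s) (h2 : r ≠ chevF4.neg s) (u t : K) :
    (X s u)⁻¹ * X r t * X s u =
      X r t * ((chevF4.commTerms s r).map fun p => X p.1 ((p.2.1 : K) * (-u) ^ p.2.2.1 * t ^ p.2.2.2)).prod := by
  have e1 : X r t * X s u = X s u * (X r t *
      ((chevF4.commTerms s r).map fun p => X p.1 ((p.2.1 : K) * (-u) ^ p.2.2.1 * t ^ p.2.2.2)).prod) := by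
    apply Subtype.ext
    refine Units.ext ?_
    have h := S1025.result (F := K) chevF4 inF4 s r hs hr h1 h2 u t
    have e2 : (((((chevF4.commTerms s r).map fun p => X p.1 ((p.2.1 : K) * (-u) ^ p.2.2.1 * t ^ p.2.2.2)).prod :
        ↥(chevF4.group K)) : GL chevF4.Idx K) : Matrix chevF4.Idx chevF4.Idx K) =
        chevF4.wordMat K (chevF4.commWord K s r u t) := by
      rw [ChevalleyDatum.commWord]
      generalize chevF4.commTerms s r = l
      induction l with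
      | nil => rfl
      | cons p l ih =>
        rw [List.map_cons, List.prod_cons, List.map_cons, wordMat_cons, ← ih]
        rfl
    show chevF4.x K r t * chevF4.x K s u = chevF4.x K s u * (chevF4.x K r t * _)
    rw [e2, h, mul_assoc]
  rw [mul_assoc, e1, inv_mul_cancel_left]

/-- the elements of the torus -/
noncomputable def H (i : ℕ) (c : K) : ↥(chevF4.group K) :=
  ⟨hG inF4 (chevF4.simple i) c, hG_mem_group inF4 _ _⟩

theorem H_conj {i s : ℕ} (hi : i < 4) (hs : s < 48) {c : K} (hc : c ≠ 0) (t : K) :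
    H i c * X s t * (H i c)⁻¹ = X s (c ^ (chevF4.cartan i s) * t) := by
  rw [mul_inv_eq_iff_eq_mul]
  apply Subtype.ext
  refine Units.ext ?_
  show ((hG inF4 (chevF4.simple i) c * xG inF4 s t : GL chevF4.Idx K) : Matrix chevF4.Idx chevF4.Idx K) =
    ((xG inF4 s (c ^ (chevF4.cartan i s) * t) * hG inF4 (chevF4.simple i) c : GL chevF4.Idx K) :
      Matrix chevF4.Idx chevF4.Idx K)
  rw [Units.val_mul, Units.val_mul, coe_xG, coe_xG, coe_hG]
  exact S1032.result (F := K) chevF4 inF4 i s hi hs c hc t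

theorem H_mem {i : ℕ} (hi : i < 4) {c : K} (hc : c ≠ 0) : H i c ∈ TT chevF4 K := by
  show (H i c : GL chevF4.Idx K) ∈ chevF4.diagonalSubgroup K
  exact hG_mem_diagonal inF4 (by interval_cases i <;> decide) hc

/-! ### the elements of the layer -/

/-- the roots of the layer -/
def L7 : List ℕ := [41, 42, 43, 44, 45, 46, 47]

theorem lt_of_L7 {r : ℕ} (hr : r ∈ L7) : r < 48 := by
  simp only [L7, List.mem_cons, List.not_mem_nil, or_false] at hr
  omega

theorem comm_tab : ∀ s ∈ L7, ∀ r ∈ L7, chevF4.commTerms s r = [] ∧ r ≠ chevF4.neg s := by decide +kernel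

theorem X_comm {r s : ℕ} (hr : r ∈ L7) (hs : s ∈ L7) (t u : K) : Commute (X r t) (X s u) := by
  by_cases h : r = s
  · subst h
    show X r t * X r u = X r u * X r t
    rw [← X_add, ← X_add, add_comm]
  · have h1 := rel (lt_of_L7 hs) (lt_of_L7 hr) h (comm_tab s hs r hr).2 u t
    rw [(comm_tab s hs r hr).1, List.map_nil, List.prod_nil, mul_one] at h1
    show X r t * X s u = X s u * X r t
    rw [mul_assoc, inv_mul_eq_iff_eq_mul] at h1
    exact h1

/-- partial products -/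
noncomputable def EL (l : List ℕ) (t : ℕ → K) : ↥(chevF4.group K) := (l.map fun r => X r (t r)).prod

/-- the element of the layer with the coordinates `t` -/
noncomputable def E (t : ℕ → K) : ↥(chevF4.group K) := EL L7 t

theorem EL_add (l : List ℕ) (hl : ∀ r ∈ l, r ∈ L7) (t t' : ℕ → K) : EL l (t + t') = EL l t * EL l t' := by
  induction l with
  | nil => simp [EL]
  | cons r l ih =>
    have h1 := ih fun s hs => hl s (List.mem_cons_of_mem _ hs)
    have h2 : Commute (X r (t' r)) (EL l t) := by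
      refine Commute.list_prod_right _ _ fun x hx => ?_
      obtain ⟨s, hs, rfl⟩ := List.mem_map.1 hx
      exact X_comm (hl r List.mem_cons_self) (hl s (List.mem_cons_of_mem _ hs)) _ _
    have e : ∀ f : ℕ → K, EL (r :: l) f = X r (f r) * EL l f := fun f => by simp [EL]
    rw [e, e, e, h1, Pi.add_apply, X_add]
    calc X r (t r) * X r (t' r) * (EL l t * EL l t') = X r (t r) * (X r (t' r) * EL l t) * EL l t' := by group
      _ = X r (t r) * (EL l t * X r (t' r)) * EL l t' := by rw [h2.eq]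
      _ = X r (t r) * EL l t * (X r (t' r) * EL l t') := by group

theorem E_add (t t' : ℕ → K) : E (t + t') = E t * E t' := EL_add L7 (fun _ h => h) t t'

theorem E_congr {t t' : ℕ → K} (h : ∀ r ∈ L7, t r = t' r) : E t = E t' := by
  unfold E EL
  congr 1
  exact List.map_congr_left fun r hr => by rw [h r hr]

theorem E_zero : E (0 : ℕ → K) = 1 := by simp [E, EL, L7, X_zero]

theorem E_single {r : ℕ} (hr : r ∈ L7) (a : K) : E (Pi.single r a) = X r a := by
  simp only [L7, List.mem_cons, List.not_mem_nil, or_false] at hr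
  rcases hr with rfl | rfl | rfl | rfl | rfl | rfl | rfl <;>
  simp [E, EL, L7, X_zero, Pi.single_apply]

theorem E_inj {t t' : ℕ → K} (h : E t = E t') : ∀ r ∈ L7, t r = t' r := by
  have key : ∀ t : ℕ → K, (E t : GL chevF4.Idx K) =
      wordG inF4 (chevF4.posRoots.map fun r => (r, if r ∈ L7 then t r else 0)) := by
    intro t
    have e : chevF4.posRoots = [24, 25, 26, 27, 28, 29, 30, 31, 32, 33, 34, 35, 36, 37, 38, 39, 40] ++ L7 := by
      decide +kernel
    rw [e, List.map_append, wordG_append]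
    have h1 : wordG inF4 (([24, 25, 26, 27, 28, 29, 30, 31, 32, 33, 34, 35, 36, 37, 38, 39, 40] : List ℕ).map
        fun r => (r, if r ∈ L7 then t r else (0 : K))) = 1 := by
      simp only [wordG, L7, xG_zero, _root_.List.mem_cons, _root_.List.not_mem_nil, _root_.or_false, _root_.List.map_cons, _root_.Nat.reduceEqDiff, _root_.or_self, ↓ _root_.reduceIte, _root_.List.map_nil, _root_.List.prod_cons, _root_.List.prod_nil, _root_.mul_one]
    rw [h1, one_mul]
    simp [E, EL, wordG, L7, X]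
  have hmem : (E t : GL chevF4.Idx K) ∈ chevF4.posUnipotent K := by
    rw [key]
    refine mem_of_xG_mem inF4 fun p hp => ?_
    obtain ⟨r, hr, rfl⟩ := List.mem_map.1 hp
    refine xG_mem_posUnipotent inF4 ?_ _
    rw [ChevalleyDatum.posRoots, List.mem_filter] at hr
    exact of_decide_eq_true hr.2
  have hpos : ∀ r ∈ L7, chevF4.IsPosRoot r := by decide +kernel
  obtain ⟨v, -, hv⟩ := (Cfsg.Agent.S1026.result chevF4 (by simp)).1 _ hmem
  have h3 := hv (fun r => if r ∈ L7 then t r else 0)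
    ⟨fun r hr => if_neg fun hr' => hr (hpos r hr'), (eq_wordG_iff inF4 _ _).1 (key t)⟩
  have h4 := hv (fun r => if r ∈ L7 then t' r else 0)
    ⟨fun r hr => if_neg fun hr' => hr (hpos r hr'), (eq_wordG_iff inF4 _ _).1 (by rw [h]; exact key t')⟩
  intro r hr
  have h5 := congrFun (h3.trans h4.symm) r
  simpa [hr] using h5

/-! ### the action of the root groups of `B₃` -/

/-- the roots of `B₃` used below -/
def S10 : List ℕ := [15, 16, 18, 21, 23, 24, 26, 29, 31, 32]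

/-- the image of `X r a` under `(X s u)⁻¹` -/
noncomputable def Mat (s : ℕ) (u : K) (r : ℕ) (a : K) : ℕ → K :=
  Pi.single r a + ((chevF4.commTerms s r).map fun p =>
    (Pi.single p.1 ((p.2.1 : K) * (-u) ^ p.2.2.1 * a ^ p.2.2.2) : ℕ → K)).sum

theorem S10_tab : ∀ s ∈ S10, ∀ r ∈ L7, s < 48 ∧ r ≠ s ∧ r ≠ chevF4.neg s ∧ ∀ p ∈ chevF4.commTerms s r, p.1 ∈ L7 := by
  decide +kernel

theorem E_sum {α : Type*} (l : List α) (n : α → ℕ) (c : α → K) (hl : ∀ p ∈ l, n p ∈ L7) :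
    E ((l.map fun p => (Pi.single (n p) (c p) : ℕ → K)).sum) = (l.map fun p => X (n p) (c p)).prod := by
  induction l with
  | nil => simp [E_zero]
  | cons p l ih =>
    rw [List.map_cons, List.map_cons, List.sum_cons, List.prod_cons, E_add, E_single (hl p List.mem_cons_self),
      ih fun q hq => hl q (List.mem_cons_of_mem _ hq)]

theorem conj_X {s r : ℕ} (hs : s ∈ S10) (hr : r ∈ L7) (u a : K) : (X s u)⁻¹ * X r a * X s u = E (Mat s u r a) := by
  obtain ⟨h0, h1, h2, h3⟩ := S10_tab s hs r hr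
  rw [rel h0 (lt_of_L7 hr) h1 h2, Mat, E_add, E_single hr,
    E_sum _ (fun p : ℕ × ℤ × ℕ × ℕ => p.1) (fun p => (p.2.1 : K) * (-u) ^ p.2.2.1 * a ^ p.2.2.2) h3]

theorem conj_EL {s : ℕ} (hs : s ∈ S10) (u : K) (t : ℕ → K) (l : List ℕ) (hl : ∀ r ∈ l, r ∈ L7) :
    (X s u)⁻¹ * EL l t * X s u = E ((l.map fun r => Mat s u r (t r)).sum) := by
  induction l with
  | nil => simp [EL, E_zero]
  | cons r l ih =>
    have e : EL (r :: l) t = X r (t r) * EL l t := by simp [EL]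
    rw [e, List.map_cons, List.sum_cons, E_add, ← ih fun q hq => hl q (List.mem_cons_of_mem _ hq),
      ← conj_X hs (hl r List.mem_cons_self)]
    group

/-- coordinates as a tuple -/
def v7 (a b c d e f g : K) : ℕ → K := fun j =>
  if j = 41 then a else if j = 42 then b else if j = 43 then c else if j = 44 then d else if j = 45 then e else
  if j = 46 then f else if j = 47 then g else 0

/-- the element with the coordinates `a, …, g` -/
noncomputable def E7 (a b c d e f g : K) : ↥(chevF4.group K) := E (v7 a b c d e f g)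

theorem E_eq (t : ℕ → K) : E t = E7 (t 41) (t 42) (t 43) (t 44) (t 45) (t 46) (t 47) := by
  refine E_congr fun r hr => ?_
  simp only [L7, List.mem_cons, List.not_mem_nil, or_false] at hr
  rcases hr with rfl | rfl | rfl | rfl | rfl | rfl | rfl <;> simp [v7]

theorem E7_inj {a b c d e f g a' b' c' d' e' f' g' : K} (h : E7 a b c d e f g = E7 a' b' c' d' e' f' g') :
    a = a' ∧ b = b' ∧ c = c' ∧ d = d' ∧ e = e' ∧ f = f' ∧ g = g' := by
  have h1 := E_inj h
  refine ⟨h1 41 (by decide), h1 42 (by decide), h1 43 (by decide), h1 44 (by decide), h1 45 (by decide),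
    h1 46 (by decide), h1 47 (by decide)⟩

theorem conj_E7 {s : ℕ} (hs : s ∈ S10) (u a b c d e f g a' b' c' d' e' f' g' : K)
    (h : ∀ j ∈ L7, Mat s u 41 a j + (Mat s u 42 b j + (Mat s u 43 c j + (Mat s u 44 d j + (Mat s u 45 e j +
      (Mat s u 46 f j + Mat s u 47 g j))))) = v7 a' b' c' d' e' f' g' j) :
    (X s u)⁻¹ * E7 a b c d e f g * X s u = E7 a' b' c' d' e' f' g' := by
  rw [E7, E, conj_EL hs u _ L7 (fun _ h => h)]
  refine E_congr fun r hr => ?_
  rw [← h r hr]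
  simp [L7, v7]

theorem t15 : chevF4.commTerms 15 41 = [] ∧ chevF4.commTerms 15 42 = [] ∧ chevF4.commTerms 15 43 = [] ∧
    chevF4.commTerms 15 44 = [] ∧ chevF4.commTerms 15 45 = [] ∧ chevF4.commTerms 15 46 = [(41, 1, 1, 1)] ∧
    chevF4.commTerms 15 47 = [(42, 1, 1, 1)] := by decide +kernel

theorem t16 : chevF4.commTerms 16 41 = [] ∧ chevF4.commTerms 16 42 = [] ∧ chevF4.commTerms 16 43 = [] ∧
    chevF4.commTerms 16 44 = [] ∧ chevF4.commTerms 16 45 = [(41, 1, 1, 1)] ∧ chevF4.commTerms 16 46 = [] ∧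
    chevF4.commTerms 16 47 = [(43, -1, 1, 1)] := by decide +kernel

theorem t18 : chevF4.commTerms 18 41 = [] ∧ chevF4.commTerms 18 42 = [] ∧ chevF4.commTerms 18 43 = [] ∧
    chevF4.commTerms 18 44 = [(41, 2, 1, 1)] ∧ chevF4.commTerms 18 45 = [] ∧ chevF4.commTerms 18 46 = [] ∧
    chevF4.commTerms 18 47 = [(44, 1, 1, 1), (41, 1, 2, 1)] := by decide +kernel

theorem t21 : chevF4.commTerms 21 41 = [] ∧ chevF4.commTerms 21 42 = [] ∧ chevF4.commTerms 21 43 = [(41, -1, 1, 1)] ∧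
    chevF4.commTerms 21 44 = [] ∧ chevF4.commTerms 21 45 = [] ∧ chevF4.commTerms 21 46 = [] ∧
    chevF4.commTerms 21 47 = [(45, 1, 1, 1)] := by decide +kernel

theorem t23 : chevF4.commTerms 23 41 = [] ∧ chevF4.commTerms 23 42 = [(41, 1, 1, 1)] ∧ chevF4.commTerms 23 43 = [] ∧
    chevF4.commTerms 23 44 = [] ∧ chevF4.commTerms 23 45 = [] ∧ chevF4.commTerms 23 46 = [] ∧
    chevF4.commTerms 23 47 = [(46, 1, 1, 1)] := by decide +kernel

theorem t24 : chevF4.commTerms 24 41 = [(42, 1, 1, 1)] ∧ chevF4.commTerms 24 42 = [] ∧ chevF4.commTerms 24 43 = [] ∧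
    chevF4.commTerms 24 44 = [] ∧ chevF4.commTerms 24 45 = [] ∧ chevF4.commTerms 24 46 = [(47, 1, 1, 1)] ∧
    chevF4.commTerms 24 47 = [] := by decide +kernel

theorem t26 : chevF4.commTerms 26 41 = [(43, -1, 1, 1)] ∧ chevF4.commTerms 26 42 = [] ∧ chevF4.commTerms 26 43 = [] ∧
    chevF4.commTerms 26 44 = [] ∧ chevF4.commTerms 26 45 = [(47, 1, 1, 1)] ∧ chevF4.commTerms 26 46 = [] ∧
    chevF4.commTerms 26 47 = [] := by decide +kernel

theorem t29 : chevF4.commTerms 29 41 = [(44, 1, 1, 1), (47, 1, 2, 1)] ∧ chevF4.commTerms 29 42 = [] ∧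
    chevF4.commTerms 29 43 = [] ∧ chevF4.commTerms 29 44 = [(47, 2, 1, 1)] ∧ chevF4.commTerms 29 45 = [] ∧
    chevF4.commTerms 29 46 = [] ∧ chevF4.commTerms 29 47 = [] := by decide +kernel

theorem t31 : chevF4.commTerms 31 41 = [(45, 1, 1, 1)] ∧ chevF4.commTerms 31 42 = [] ∧
    chevF4.commTerms 31 43 = [(47, -1, 1, 1)] ∧ chevF4.commTerms 31 44 = [] ∧ chevF4.commTerms 31 45 = [] ∧
    chevF4.commTerms 31 46 = [] ∧ chevF4.commTerms 31 47 = [] := by decide +kernel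

theorem t32 : chevF4.commTerms 32 41 = [(46, 1, 1, 1)] ∧ chevF4.commTerms 32 42 = [(47, 1, 1, 1)] ∧
    chevF4.commTerms 32 43 = [] ∧ chevF4.commTerms 32 44 = [] ∧ chevF4.commTerms 32 45 = [] ∧
    chevF4.commTerms 32 46 = [] ∧ chevF4.commTerms 32 47 = [] := by decide +kernel

theorem c15 (u a b c d e f g : K) : (X 15 u)⁻¹ * E7 a b c d e f g * X 15 u = E7 (a - u * f) (b - u * g) c d e f g :=
  conj_E7 (by decide) u a b c d e f g _ _ _ _ _ _ _ (by
    obtain ⟨h1, h2, h3, h4, h5, h6, h7⟩ := t15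
    intro j hj
    simp only [Mat, h1, h2, h3, h4, h5, h6, h7]
    simp only [L7, List.mem_cons, List.not_mem_nil, or_false] at hj
    rcases hj with rfl | rfl | rfl | rfl | rfl | rfl | rfl <;> simp only [v7, Pi.single_apply, _root_.List.map_nil, _root_.List.sum_nil, _root_.Pi.add_apply, _root_.Pi.single_eq_same, _root_.Pi.zero_apply, _root_.add_zero, _root_.ne_eq, _root_.Nat.reduceEqDiff, _root_.not_false_eq_true, _root_.Pi.single_eq_of_ne, _root_.List.map_cons, _root_.Int.cast_one, _root_.pow_one, _root_.mul_neg, _root_.one_mul, _root_.neg_mul, _root_.List.sum_cons, _root_.zero_add, ↓ _root_.reduceIte, _root_.Nat.succ_ne_self] <;> ring)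

theorem c16 (u a b c d e f g : K) : (X 16 u)⁻¹ * E7 a b c d e f g * X 16 u = E7 (a - u * e) b (c + u * g) d e f g :=
  conj_E7 (by decide) u a b c d e f g _ _ _ _ _ _ _ (by
    obtain ⟨h1, h2, h3, h4, h5, h6, h7⟩ := t16
    intro j hj
    simp only [Mat, h1, h2, h3, h4, h5, h6, h7]
    simp only [L7, List.mem_cons, List.not_mem_nil, or_false] at hj
    rcases hj with rfl | rfl | rfl | rfl | rfl | rfl | rfl <;> simp only [v7, Pi.single_apply, _root_.List.map_nil, _root_.List.sum_nil, _root_.Pi.add_apply, _root_.Pi.single_eq_same, _root_.Pi.zero_apply, _root_.add_zero, _root_.ne_eq, _root_.Nat.reduceEqDiff, _root_.not_false_eq_true, _root_.Pi.single_eq_of_ne, _root_.List.map_cons, _root_.Int.cast_one, _root_.pow_one, _root_.mul_neg, _root_.one_mul, _root_.neg_mul, _root_.List.sum_cons, _root_.zero_add, _root_.Int.reduceNeg, _root_.Int.cast_neg, _root_.neg_neg, ↓ _root_.reduceIte, _root_.Nat.succ_ne_self] <;> ring)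

theorem c18 (u a b c d e f g : K) : (X 18 u)⁻¹ * E7 a b c d e f g * X 18 u =
    E7 (a - 2 * u * d + u ^ 2 * g) b c (d - u * g) e f g :=
  conj_E7 (by decide) u a b c d e f g _ _ _ _ _ _ _ (by
    obtain ⟨h1, h2, h3, h4, h5, h6, h7⟩ := t18
    intro j hj
    simp only [Mat, h1, h2, h3, h4, h5, h6, h7]
    simp only [L7, List.mem_cons, List.not_mem_nil, or_false] at hj
    rcases hj with rfl | rfl | rfl | rfl | rfl | rfl | rfl <;> simp only [v7, Pi.single_apply, _root_.List.map_nil, _root_.List.sum_nil, _root_.Pi.add_apply, _root_.Pi.single_eq_same, _root_.Pi.zero_apply, _root_.add_zero, _root_.ne_eq, _root_.Nat.reduceEqDiff, _root_.not_false_eq_true, _root_.Pi.single_eq_of_ne, _root_.List.map_cons, _root_.Int.cast_ofNat, _root_.pow_one, _root_.mul_neg, _root_.neg_mul, _root_.List.sum_cons, _root_.zero_add, _root_.Int.cast_one, _root_.one_mul, _root_.even_two, _root_.Even.neg_pow, ↓ _root_.reduceIte, _root_.Nat.succ_ne_self]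 <;> ring)

theorem c21 (u a b c d e f g : K) : (X 21 u)⁻¹ * E7 a b c d e f g * X 21 u = E7 (a + u * c) b c d (e - u * g) f g :=
  conj_E7 (by decide) u a b c d e f g _ _ _ _ _ _ _ (by
    obtain ⟨h1, h2, h3, h4, h5, h6, h7⟩ := t21
    intro j hj
    simp only [Mat, h1, h2, h3, h4, h5, h6, h7]
    simp only [L7, List.mem_cons, List.not_mem_nil, or_false] at hj
    rcases hj with rfl | rfl | rfl | rfl | rfl | rfl | rfl <;> simp only [v7, Pi.single_apply, _root_.List.map_nil, _root_.List.sum_nil, _root_.Pi.add_apply, _root_.Pi.single_eq_same, _root_.Pi.zero_apply, _root_.add_zero, _root_.ne_eq, _root_.Nat.reduceEqDiff, _root_.not_false_eq_true, _root_.Pi.single_eq_of_ne, _root_.Int.reduceNeg, _root_.List.map_cons, _root_.Int.cast_neg, _root_.Int.cast_one, _root_.pow_one, _root_.mul_neg, _root_.neg_mul, _root_.one_mul, _root_.neg_neg, _root_.List.sum_cons, _root_.zero_add, ↓ _root_.reduceIte, _root_.Nat.succ_ne_self] <;> ring)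

theorem c23 (u a b c d e f g : K) : (X 23 u)⁻¹ * E7 a b c d e f g * X 23 u = E7 (a - u * b) b c d e (f - u * g) g :=
  conj_E7 (by decide) u a b c d e f g _ _ _ _ _ _ _ (by
    obtain ⟨h1, h2, h3, h4, h5, h6, h7⟩ := t23
    intro j hj
    simp only [Mat, h1, h2, h3, h4, h5, h6, h7]
    simp only [L7, List.mem_cons, List.not_mem_nil, or_false] at hj
    rcases hj with rfl | rfl | rfl | rfl | rfl | rfl | rfl <;> simp only [v7, Pi.single_apply, _root_.List.map_nil, _root_.List.sum_nil, _root_.Pi.add_apply, _root_.Pi.single_eq_same, _root_.Pi.zero_apply, _root_.add_zero, _root_.List.map_cons, _root_.Int.cast_one, _root_.pow_one, _root_.mul_neg, _root_.one_mul, _root_.neg_mul, _root_.List.sum_cons, _root_.ne_eq, _root_.Nat.reduceEqDiff, _root_.not_false_eq_true, _root_.Pi.single_eq_of_ne, _root_.zero_add, ↓ _root_.reduceIte, _root_.Nat.succ_ne_self] <;> ring)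

theorem c24 (u a b c d e f g : K) : (X 24 u)⁻¹ * E7 a b c d e f g * X 24 u = E7 a (b - u * a) c d e f (g - u * f) :=
  conj_E7 (by decide) u a b c d e f g _ _ _ _ _ _ _ (by
    obtain ⟨h1, h2, h3, h4, h5, h6, h7⟩ := t24
    intro j hj
    simp only [Mat, h1, h2, h3, h4, h5, h6, h7]
    simp only [L7, List.mem_cons, List.not_mem_nil, or_false] at hj
    rcases hj with rfl | rfl | rfl | rfl | rfl | rfl | rfl <;> simp only [v7, Pi.single_apply, _root_.List.map_cons, _root_.Int.cast_one, _root_.pow_one, _root_.mul_neg, _root_.one_mul, _root_.neg_mul, _root_.List.map_nil, _root_.List.sum_cons, _root_.List.sum_nil, _root_.add_zero, _root_.Pi.add_apply, _root_.Pi.single_eq_same, _root_.ne_eq, _root_.Nat.reduceEqDiff, _root_.not_false_eq_true, _root_.Pi.single_eq_of_ne, _root_.Pi.zero_apply, ↓ _root_.reduceIte, _root_.Nat.succ_ne_self, _root_.zero_add] <;> ring)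

theorem c26 (u a b c d e f g : K) : (X 26 u)⁻¹ * E7 a b c d e f g * X 26 u = E7 a b (c + u * a) d e f (g - u * e) :=
  conj_E7 (by decide) u a b c d e f g _ _ _ _ _ _ _ (by
    obtain ⟨h1, h2, h3, h4, h5, h6, h7⟩ := t26
    intro j hj
    simp only [Mat, h1, h2, h3, h4, h5, h6, h7]
    simp only [L7, List.mem_cons, List.not_mem_nil, or_false] at hj
    rcases hj with rfl | rfl | rfl | rfl | rfl | rfl | rfl <;> simp only [v7, Pi.single_apply, _root_.Int.reduceNeg, _root_.List.map_cons, _root_.Int.cast_neg, _root_.Int.cast_one, _root_.pow_one, _root_.mul_neg, _root_.neg_mul, _root_.one_mul, _root_.neg_neg, _root_.List.map_nil, _root_.List.sum_cons, _root_.List.sum_nil, _root_.add_zero, _root_.Pi.add_apply, _root_.Pi.single_eq_same, _root_.ne_eq, _root_.Nat.reduceEqDiff, _root_.not_false_eq_true, _root_.Pi.single_eq_of_ne, _root_.Pi.zero_apply, ↓ _root_.reduceIte, _root_.Nat.succ_ne_self, _root_.zero_add] <;> ring)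

theorem c29 (u a b c d e f g : K) : (X 29 u)⁻¹ * E7 a b c d e f g * X 29 u =
    E7 a b c (d - u * a) e f (g - 2 * u * d + u ^ 2 * a) :=
  conj_E7 (by decide) u a b c d e f g _ _ _ _ _ _ _ (by
    obtain ⟨h1, h2, h3, h4, h5, h6, h7⟩ := t29
    intro j hj
    simp only [Mat, h1, h2, h3, h4, h5, h6, h7]
    simp only [L7, List.mem_cons, List.not_mem_nil, or_false] at hj
    rcases hj with rfl | rfl | rfl | rfl | rfl | rfl | rfl <;> simp only [v7, Pi.single_apply, _root_.List.map_cons, _root_.Int.cast_one, _root_.pow_one, _root_.mul_neg, _root_.one_mul, _root_.neg_mul, _root_.even_two, _root_.Even.neg_pow, _root_.List.map_nil, _root_.List.sum_cons, _root_.List.sum_nil, _root_.add_zero, _root_.Pi.add_apply, _root_.Pi.single_eq_same, _root_.ne_eq, _root_.Nat.reduceEqDiff, _root_.not_false_eq_true, _root_.Pi.single_eq_of_ne, _root_.Pi.zero_apply, _root_.Int.cast_ofNat, ↓ _root_.reduceIte, _root_.Nat.succ_ne_self, _root_.zero_add]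 <;> ring)

theorem c31 (u a b c d e f g : K) : (X 31 u)⁻¹ * E7 a b c d e f g * X 31 u = E7 a b c d (e - u * a) f (g + u * c) :=
  conj_E7 (by decide) u a b c d e f g _ _ _ _ _ _ _ (by
    obtain ⟨h1, h2, h3, h4, h5, h6, h7⟩ := t31
    intro j hj
    simp only [Mat, h1, h2, h3, h4, h5, h6, h7]
    simp only [L7, List.mem_cons, List.not_mem_nil, or_false] at hj
    rcases hj with rfl | rfl | rfl | rfl | rfl | rfl | rfl <;> simp only [v7, Pi.single_apply, _root_.List.map_cons, _root_.Int.cast_one, _root_.pow_one, _root_.mul_neg, _root_.one_mul, _root_.neg_mul, _root_.List.map_nil, _root_.List.sum_cons, _root_.List.sum_nil, _root_.add_zero, _root_.Pi.add_apply, _root_.Pi.single_eq_same, _root_.ne_eq, _root_.Nat.reduceEqDiff, _root_.not_false_eq_true, _root_.Pi.single_eq_of_ne, _root_.Pi.zero_apply, _root_.Int.reduceNeg, _root_.Int.cast_neg, _root_.neg_neg, ↓ _root_.reduceIte, _root_.Nat.succ_ne_self, _root_.zero_add] <;> ring)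

theorem c32 (u a b c d e f g : K) : (X 32 u)⁻¹ * E7 a b c d e f g * X 32 u = E7 a b c d e (f - u * a) (g - u * b) :=
  conj_E7 (by decide) u a b c d e f g _ _ _ _ _ _ _ (by
    obtain ⟨h1, h2, h3, h4, h5, h6, h7⟩ := t32
    intro j hj
    simp only [Mat, h1, h2, h3, h4, h5, h6, h7]
    simp only [L7, List.mem_cons, List.not_mem_nil, or_false] at hj
    rcases hj with rfl | rfl | rfl | rfl | rfl | rfl | rfl <;> simp only [v7, Pi.single_apply, _root_.List.map_cons, _root_.Int.cast_one, _root_.pow_one, _root_.mul_neg, _root_.one_mul, _root_.neg_mul, _root_.List.map_nil, _root_.List.sum_cons, _root_.List.sum_nil, _root_.add_zero, _root_.Pi.add_apply, _root_.Pi.single_eq_same, _root_.ne_eq, _root_.Nat.reduceEqDiff, _root_.not_false_eq_true, _root_.Pi.single_eq_of_ne, _root_.Pi.zero_apply, ↓ _root_.reduceIte, _root_.Nat.succ_ne_self, _root_.zero_add] <;> ring)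

/-! ### the classes -/

/-- the nodes of `B₃` -/
abbrev J0 : Set (Fin 4) := {k | k ≠ 0}

theorem S10_zero : ∀ s ∈ S10, s < chevF4.nroots ∧ vec chevF4 4 s 0 = 0 := by decide +kernel

theorem X_mem_XX {r : ℕ} (hr : r < chevF4.nroots) (t : K) : X r t ∈ XX chevF4 4 K (vec chevF4 4 r) := by
  rw [Subgroup.mem_subgroupOf, XV_vec hF K hr]
  exact xG_mem_rootSubgroup inF4 r t

theorem X_mem_PK {s : ℕ} (hs : s ∈ S10) (t : K) : X s t ∈ PK K J0 := by
  obtain ⟨h1, h2⟩ := S10_zero s hs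
  refine LJ_le_PJ (X_le_LJ (x := vec chevF4 4 s) ⟨isRoot_vec hF cF h1, fun k hk => ?_⟩ (X_mem_XX h1 t))
  have : k = 0 := by simpa using hk
  rw [this, h2]

theorem H_mem_PK {i : ℕ} (hi : i < 4) {c : K} (hc : c ≠ 0) : H i c ∈ PK K J0 :=
  B_le_PJ (RGD.T_le_B (H_mem hi hc))

theorem cls_conj {Y : Type*} [Group Y] (P : Subgroup Y) {g : Y} (hg : g ∈ P) (u : Y) : _root_.Cfsg.Agent.H520.FC.cls P (g * u * g⁻¹) = _root_.Cfsg.Agent.H520.FC.cls P u := by
  ext x
  constructor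
  · rintro ⟨h, hh, rfl⟩
    exact ⟨h * g, P.mul_mem hh hg, by group⟩
  · rintro ⟨h, hh, rfl⟩
    exact ⟨h * g⁻¹, P.mul_mem hh (P.inv_mem hg), by group⟩

theorem lng_conj {g u : ↥(chevF4.group K)} : Lng (g * u * g⁻¹) ↔ Lng u := by
  constructor
  · rintro ⟨h, hh⟩
    exact ⟨h * g, by rwa [show h * g * u * (h * g)⁻¹ = h * (g * u * g⁻¹) * h⁻¹ by group]⟩
  · rintro ⟨h, hh⟩
    exact ⟨h * g⁻¹, by rwa [show h * g⁻¹ * (g * u * g⁻¹) * (h * g⁻¹)⁻¹ = h * u * h⁻¹ by group]⟩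

/-- `u` is replaced by a conjugate under `P` -/
theorem step {u u' : ↥(chevF4.group K)} {s : ℕ} (hs : s ∈ S10) {c : K} (h : (X s c)⁻¹ * u * X s c = u') :
    _root_.Cfsg.Agent.H520.FC.cls (PK K J0) u' = _root_.Cfsg.Agent.H520.FC.cls (PK K J0) u ∧ (Lng u' ↔ Lng u) := by
  have e : u' = (X s c)⁻¹ * u * ((X s c)⁻¹)⁻¹ := by rw [inv_inv, h]
  rw [e]
  exact ⟨cls_conj _ ((PK K J0).inv_mem (X_mem_PK hs c)) u, lng_conj⟩

/-- the group of the layer -/
theorem mem_layer {u : ↥(chevF4.group K)}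
    (hu : u ∈ RGD.Sup (XX chevF4 4 K) {x | x ∈ NotJ cF hF.isCartan {k | k ≠ 0} ∧ 2 ≤ x 0}) :
    ∃ a b c d e f g : K, u = E7 a b c d e f g := by
  have tab : ∀ r < chevF4.nroots, 2 ≤ vec chevF4 4 r 0 → r ∈ L7 := by decide +kernel
  let A : Subgroup ↥(chevF4.group K) :=
    { carrier := {u | ∃ t : ℕ → K, u = E t}
      one_mem' := ⟨0, E_zero.symm⟩
      mul_mem' := by
        rintro _ _ ⟨t, rfl⟩ ⟨t', rfl⟩
        exact ⟨t + t', (E_add t t').symm⟩
      inv_mem' := by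
        rintro _ ⟨t, rfl⟩
        refine ⟨-t, ?_⟩
        rw [inv_eq_iff_mul_eq_one, ← E_add, add_neg_cancel, E_zero] }
  have hle : RGD.Sup (XX chevF4 4 K) {x | x ∈ NotJ cF hF.isCartan {k | k ≠ 0} ∧ 2 ≤ x 0} ≤ A := by
    refine RGD.Sup_le ?_
    rintro x ⟨⟨hx, -, -⟩, h2⟩ y hy
    obtain ⟨r, hr, rfl⟩ := (isRoot_iff hF cF x).1 hx
    rw [Subgroup.mem_subgroupOf, XV_vec hF K hr] at hy
    obtain ⟨t, ht⟩ := (mem_rootSubgroup_iff inF4 r _).1 hy
    refine ⟨Pi.single r t, ?_⟩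
    rw [E_single (tab r hr h2)]
    exact Subtype.ext ht
  obtain ⟨t, rfl⟩ := hle hu
  exact ⟨_, _, _, _, _, _, _, E_eq t⟩

/-- `a ≠ 0` after a conjugation -/
theorem norm_one (h2 : (2 : K) ≠ 0) {a b c d e f g : K} (h : E7 a b c d e f g ≠ 1) :
    ∃ a' b' c' d' e' f' g' : K, a' ≠ 0 ∧ _root_.Cfsg.Agent.H520.FC.cls (PK K J0) (E7 a' b' c' d' e' f' g') = _root_.Cfsg.Agent.H520.FC.cls (PK K J0) (E7 a b c d e f g) ∧
      (Lng (E7 a' b' c' d' e' f' g') ↔ Lng (E7 a b c d e f g)) := by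
  by_cases ha : a = 0
  swap
  · exact ⟨a, b, c, d, e, f, g, ha, rfl, Iff.rfl⟩
  subst ha
  by_cases hb : b = 0
  swap
  · obtain ⟨h1, h3⟩ := step (by decide) (c23 1 0 b c d e f g)
    exact ⟨_, _, _, _, _, _, _, by simpa using hb, h1, h3⟩
  by_cases hc : c = 0
  swap
  · obtain ⟨h1, h3⟩ := step (by decide) (c21 1 0 b c d e f g)
    exact ⟨_, _, _, _, _, _, _, by simpa using hc, h1, h3⟩
  by_cases he : e = 0
  swap
  · obtain ⟨h1, h3⟩ := step (by decide) (c16 1 0 b c d e f g)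
    exact ⟨_, _, _, _, _, _, _, by simpa using he, h1, h3⟩
  by_cases hf : f = 0
  swap
  · obtain ⟨h1, h3⟩ := step (by decide) (c15 1 0 b c d e f g)
    exact ⟨_, _, _, _, _, _, _, by simpa using hf, h1, h3⟩
  subst hb hc he hf
  by_cases hg : g = 0
  · subst hg
    by_cases hd : d = 0
    · exfalso
      apply h
      subst hd
      have : (v7 0 0 0 0 0 0 0 : ℕ → K) = 0 := by
        funext j
        simp [v7]
      rw [E7, this, E_zero]
    · obtain ⟨h1, h3⟩ := step (by decide) (c18 1 0 0 0 d 0 0 0)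
      refine ⟨_, _, _, _, _, _, _, ?_, h1, h3⟩
      simpa [h2] using hd
  · obtain ⟨h1, h3⟩ := step (by decide) (c23 1 0 0 0 d 0 0 g)
    obtain ⟨h4, h5⟩ := step (by decide) (c15 1 (0 - 1 * 0) 0 0 d 0 (0 - 1 * g) g)
    refine ⟨_, _, _, _, _, _, _, ?_, h4.trans h1, h5.trans h3⟩
    simpa using hg

/-- the normal form -/
theorem norm_two {a : K} (ha : a ≠ 0) (b c d e f g : K) :
    ∃ g' : K, _root_.Cfsg.Agent.H520.FC.cls (PK K J0) (E7 a 0 0 0 0 0 g') = _root_.Cfsg.Agent.H520.FC.cls (PK K J0) (E7 a b c d e f g) ∧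
      (Lng (E7 a 0 0 0 0 0 g') ↔ Lng (E7 a b c d e f g)) := by
  obtain ⟨h1, k1⟩ := step (by decide) (c24 (b / a) a b c d e f g)
  rw [div_mul_cancel₀ _ ha, sub_self] at h1 k1
  generalize g - b / a * f = g1 at h1 k1
  obtain ⟨h2, k2⟩ := step (by decide) (c26 (-c / a) a 0 c d e f g1)
  rw [div_mul_cancel₀ _ ha, add_neg_cancel] at h2 k2
  generalize g1 - -c / a * e = g2 at h2 k2
  obtain ⟨h3, k3⟩ := step (by decide) (c29 (d / a) a 0 0 d e f g2)
  rw [div_mul_cancel₀ _ ha, sub_self] at h3 k3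
  generalize g2 - 2 * (d / a) * d + (d / a) ^ 2 * a = g3 at h3 k3
  obtain ⟨h4, k4⟩ := step (by decide) (c31 (e / a) a 0 0 0 e f g3)
  rw [div_mul_cancel₀ _ ha, sub_self] at h4 k4
  generalize g3 + e / a * 0 = g4 at h4 k4
  obtain ⟨h5, k5⟩ := step (by decide) (c32 (f / a) a 0 0 0 0 f g4)
  rw [div_mul_cancel₀ _ ha, sub_self] at h5 k5
  exact ⟨_, h5.trans (h4.trans (h3.trans (h2.trans h1))), k5.trans (k4.trans (k3.trans (k2.trans k1)))⟩

theorem E7_last (g : K) : E7 0 0 0 0 0 0 g = X 47 g := by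
  rw [← E_single (by decide), E7]
  refine E_congr fun r hr => ?_
  simp only [L7, List.mem_cons, List.not_mem_nil, or_false] at hr
  rcases hr with rfl | rfl | rfl | rfl | rfl | rfl | rfl <;> simp [v7, Pi.single_apply]

/-- `X 41 a` is a long root element -/
theorem lng_first (a : K) : Lng (E7 a 0 0 0 0 0 0) := by
  obtain ⟨-, k1⟩ := step (by decide) (c29 1 a 0 0 0 0 0 0)
  obtain ⟨-, k2⟩ := step (by decide) (c18 (-1) a 0 0 (0 - 1 * a) 0 0 (0 - 2 * 1 * 0 + 1 ^ 2 * a))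
  rw [← k1, ← k2]
  have e1 : a - 2 * -1 * (0 - 1 * a) + (-1) ^ 2 * (0 - 2 * 1 * 0 + 1 ^ 2 * a) = 0 := by ring
  have e2 : 0 - 1 * a - -1 * (0 - 2 * 1 * 0 + 1 ^ 2 * a) = 0 := by ring
  rw [e1, e2, E7_last]
  exact ⟨1, by simpa using X_mem_XX (by decide +kernel) _⟩

/-! ### counting -/

theorem H_EL {i : ℕ} (hi : i < 4) {c : K} (hc : c ≠ 0) (t : ℕ → K) (l : List ℕ) (hl : ∀ r ∈ l, r ∈ L7) :
    H i c * EL l t * (H i c)⁻¹ = EL l (fun r => c ^ (chevF4.cartan i r) * t r) := by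
  induction l with
  | nil => simp [EL]
  | cons r l ih =>
    have e : ∀ f : ℕ → K, EL (r :: l) f = X r (f r) * EL l f := fun f => by simp [EL]
    rw [e, e, ← ih fun q hq => hl q (List.mem_cons_of_mem _ hq), ← H_conj hi (lt_of_L7 (hl r List.mem_cons_self)) hc]
    group

theorem H_E7 {i : ℕ} (hi : i < 4) {c : K} (hc : c ≠ 0) (a b : K) :
    H i c * E7 a 0 0 0 0 0 b * (H i c)⁻¹ = E7 (c ^ (chevF4.cartan i 41) * a) 0 0 0 0 0 (c ^ (chevF4.cartan i 47) * b) := by
  rw [E7, E, H_EL hi hc _ L7 fun _ h => h]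
  refine E_congr fun r hr => ?_
  simp only [L7, List.mem_cons, List.not_mem_nil, or_false] at hr
  rcases hr with rfl | rfl | rfl | rfl | rfl | rfl | rfl <;> simp [v7]

theorem cls_torus (a b : K) {c d : K} (hc : c ≠ 0) (hd : d ≠ 0) :
    _root_.Cfsg.Agent.H520.FC.cls (PK K J0) (E7 (c ^ 2 * (d⁻¹ * a)) 0 0 0 0 0 (d * b)) = _root_.Cfsg.Agent.H520.FC.cls (PK K J0) (E7 a 0 0 0 0 0 b) := by
  have h1 := H_E7 (i := 3) (by norm_num) hd a b
  rw [show chevF4.cartan 3 41 = -1 by decide +kernel, show chevF4.cartan 3 47 = 1 by decide +kernel, zpow_neg_one,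
    zpow_one] at h1
  have h2 := H_E7 (i := 0) (by norm_num) hc (d⁻¹ * a) (d * b)
  rw [show chevF4.cartan 0 41 = 2 by decide +kernel, show chevF4.cartan 0 47 = 0 by decide +kernel, zpow_ofNat,
    zpow_zero, one_mul] at h2
  rw [← h2, cls_conj _ (H_mem_PK (by norm_num) hc), ← h1, cls_conj _ (H_mem_PK (by norm_num) hd)]

theorem cls_unip (A B x1 x2 x3 x4 x5 : K) :
    _root_.Cfsg.Agent.H520.FC.cls (PK K J0) (E7 A (0 - x1 * A) (0 + x2 * A) (0 - x3 * A) (0 - x4 * A) (0 - x5 * A)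
      (B + A * (x3 ^ 2 + x2 * x4 + x1 * x5))) = _root_.Cfsg.Agent.H520.FC.cls (PK K J0) (E7 A 0 0 0 0 0 B) := by
  obtain ⟨h1, -⟩ := step (by decide) (c24 x1 A 0 0 0 0 0 B)
  obtain ⟨h2, -⟩ := step (by decide) (c26 x2 A (0 - x1 * A) 0 0 0 0 (B - x1 * 0))
  obtain ⟨h3, -⟩ := step (by decide) (c29 x3 A (0 - x1 * A) (0 + x2 * A) 0 0 0 (B - x1 * 0 - x2 * 0))
  obtain ⟨h4, -⟩ := step (by decide) (c31 x4 A (0 - x1 * A) (0 + x2 * A) (0 - x3 * A) 0 0
    (B - x1 * 0 - x2 * 0 - 2 * x3 * 0 + x3 ^ 2 * A))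
  obtain ⟨h5, -⟩ := step (by decide) (c32 x5 A (0 - x1 * A) (0 + x2 * A) (0 - x3 * A) (0 - x4 * A) 0
    (B - x1 * 0 - x2 * 0 - 2 * x3 * 0 + x3 ^ 2 * A + x4 * (0 + x2 * A)))
  rw [← h1, ← h2, ← h3, ← h4, ← h5]
  congr 2
  ring

theorem card_bound [Finite K] {a b : K} (ha : a ≠ 0) (hb : b ≠ 0) :
    (Nat.card K - 1) ^ 2 * Nat.card K ^ 5 ≤ 2 * Nat.card ↥(_root_.Cfsg.Agent.H520.FC.cls (PK K J0) (E7 a 0 0 0 0 0 b)) := by
  classical
  have := Fintype.ofFinite K
  have hfin : Finite ↥(chevF4.group K) := inferInstance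
  have : Finite ↥(_root_.Cfsg.Agent.H520.FC.cls (PK K J0) (E7 a 0 0 0 0 0 b)) := Finite.of_injective _ Subtype.val_injective
  have := Fintype.ofFinite ↥(_root_.Cfsg.Agent.H520.FC.cls (PK K J0) (E7 a 0 0 0 0 0 b))
  have hself : ∀ u : ↥(chevF4.group K), u ∈ _root_.Cfsg.Agent.H520.FC.cls (PK K J0) u := fun u => ⟨1, one_mem _, by group⟩
  have hmem : ∀ x : Kˣ × Kˣ × K × K × K × K × K,
      E7 ((x.1 : K) ^ 2 * ((x.2.1 : K)⁻¹ * a)) (0 - x.2.2.1 * ((x.1 : K) ^ 2 * ((x.2.1 : K)⁻¹ * a)))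
        (0 + x.2.2.2.1 * ((x.1 : K) ^ 2 * ((x.2.1 : K)⁻¹ * a)))
        (0 - x.2.2.2.2.1 * ((x.1 : K) ^ 2 * ((x.2.1 : K)⁻¹ * a)))
        (0 - x.2.2.2.2.2.1 * ((x.1 : K) ^ 2 * ((x.2.1 : K)⁻¹ * a)))
        (0 - x.2.2.2.2.2.2 * ((x.1 : K) ^ 2 * ((x.2.1 : K)⁻¹ * a)))
        ((x.2.1 : K) * b + ((x.1 : K) ^ 2 * ((x.2.1 : K)⁻¹ * a)) *
          (x.2.2.2.2.1 ^ 2 + x.2.2.2.1 * x.2.2.2.2.2.1 + x.2.2.1 * x.2.2.2.2.2.2)) ∈
      _root_.Cfsg.Agent.H520.FC.cls (PK K J0) (E7 a 0 0 0 0 0 b) := by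
    intro x
    rw [← cls_torus a b x.1.ne_zero x.2.1.ne_zero, ← cls_unip _ _ x.2.2.1 x.2.2.2.1 x.2.2.2.2.1 x.2.2.2.2.2.1
      x.2.2.2.2.2.2]
    exact hself _
  let f : Kˣ × Kˣ × K × K × K × K × K → ↥(_root_.Cfsg.Agent.H520.FC.cls (PK K J0) (E7 a 0 0 0 0 0 b)) := fun x => ⟨_, hmem x⟩
  have key : ∀ x y, f x = f y → y = x ∨ y = (-x.1, x.2) := by
    rintro ⟨c, d, x1, x2, x3, x4, x5⟩ ⟨c', d', y1, y2, y3, y4, y5⟩ h
    obtain ⟨e1, e2, e3, e4, e5, e6, e7⟩ := E7_inj (congrArg Subtype.val h)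
    simp only at e1 e2 e3 e4 e5 e6 e7
    have hA : (c : K) ^ 2 * ((d : K)⁻¹ * a) ≠ 0 :=
      mul_ne_zero (pow_ne_zero _ c.ne_zero) (mul_ne_zero (inv_ne_zero d.ne_zero) ha)
    rw [← e1] at e2 e3 e4 e5 e6 e7
    have f1 : x1 = y1 := mul_right_cancel₀ hA (sub_right_injective e2)
    have f2 : x2 = y2 := mul_right_cancel₀ hA (add_right_injective 0 e3)
    have f3 : x3 = y3 := mul_right_cancel₀ hA (sub_right_injective e4)
    have f4 : x4 = y4 := mul_right_cancel₀ hA (sub_right_injective e5)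
    have f5 : x5 = y5 := mul_right_cancel₀ hA (sub_right_injective e6)
    subst f1 f2 f3 f4 f5
    have f6 : (d : K) = d' := mul_right_cancel₀ hb (add_right_cancel e7)
    have f7 : d = d' := Units.ext f6
    subst f7
    have f8 : (c : K) ^ 2 = (c' : K) ^ 2 := mul_right_cancel₀ (mul_ne_zero (inv_ne_zero d.ne_zero) ha) e1
    rcases sq_eq_sq_iff_eq_or_eq_neg.1 f8 with h9 | h9
    · left
      rw [Units.ext h9]
    · right
      have : c' = -c := Units.ext (by rw [Units.val_neg, h9, _root_.neg_neg])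
      rw [this]
  have h1 : Fintype.card (Kˣ × Kˣ × K × K × K × K × K) ≤ 2 * Fintype.card ↥(_root_.Cfsg.Agent.H520.FC.cls (PK K J0) (E7 a 0 0 0 0 0 b)) := by
    refine Finset.card_le_mul_card_image_of_maps_to (s := Finset.univ) (t := Finset.univ) (f := f)
      (fun _ _ => Finset.mem_univ _) 2 fun y _ => ?_
    by_cases hy : ∃ x, f x = y
    · obtain ⟨x, rfl⟩ := hy
      refine (Finset.card_le_card (t := {x, (-x.1, x.2)}) fun z hz => ?_).trans Finset.card_le_two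
      rw [Finset.mem_filter] at hz
      rcases key x z hz.2.symm with h | h
      · simp [h]
      · simp [h]
    · push Not at hy
      rw [Finset.filter_false_of_mem fun x _ => hy x]
      simp
  rw [← Nat.card_eq_fintype_card, ← Nat.card_eq_fintype_card] at h1
  refine le_trans (le_of_eq ?_) h1
  have h3 : Nat.card Kˣ = Nat.card K - 1 := by
    rw [Nat.card_eq_fintype_card, Fintype.card_units, Nat.card_eq_fintype_card]
  simp only [Nat.card_prod, h3]
  ring

/-- **The 7-dimensional layer of the parabolic of type `B₃`.** -/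
theorem ob3_v7 {K : Type u} [Field K] [Finite K] (h2 : (2 : K) ≠ 0) {u : ↥(chevF4.group K)}
    (hu : u ∈ RGD.Sup (XX chevF4 4 K) {x | x ∈ NotJ cF hF.isCartan {k | k ≠ 0} ∧ 2 ≤ x 0}) (hl : ¬ Lng u) :
    (Nat.card K - 1) ^ 2 * Nat.card K ^ 5 ≤ 2 * Nat.card ↥(_root_.Cfsg.Agent.H520.FC.cls (PK K {k | k ≠ 0}) u) := by
  obtain ⟨a, b, c, d, e, f, g, rfl⟩ := mem_layer hu
  have h1 : E7 a b c d e f g ≠ 1 := by
    intro h
    apply hl
    rw [h]
    exact ⟨1, by simp⟩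
  obtain ⟨a', b', c', d', e', f', g', ha, h3, k3⟩ := norm_one h2 h1
  obtain ⟨g'', h4, k4⟩ := norm_two ha b' c' d' e' f' g'
  have hg : g'' ≠ 0 := by
    rintro rfl
    exact hl (k3.1 (k4.1 (lng_first a')))
  have h5 := card_bound ha hg
  rw [h4, h3] at h5
  exact h5

end Cfsg.Agent.H446.FC
end

private theorem dce_8f4ec9425499 : _root_.True := by
  try have : _root_.True := by simp only [_root_.Cfsg.Agent.H446.FC.L7.eq_1]
  try have : _root_.True := by simp only [_root_.Cfsg.Agent.H446.FC.Mat.eq_1]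
  try have : _root_.True := by simp only [_root_.Cfsg.Lie.ChevalleyDatum.posRoots.eq_1]
  try have : _root_.True := by simp only [_root_.Cfsg.Agent.H446.FC.E7.eq_1]
  try have : _root_.True := by simp only [_root_.Cfsg.Agent.H446.FC.EL.eq_1]
  try have : _root_.True := by simp only [_root_.Cfsg.Agent.H446.FC.E.eq_1]
  try have : _root_.True := by simp only [_root_.Cfsg.Agent.H446.FC.v7.eq_1]
  try have : _root_.True := by simp only [_root_.Cfsg.Lie.ChevalleyDatum.commWord.eq_1]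
  try have : _root_.True := by simp only [_root_.Cfsg.Agent.H520.FC.d2.eq_1]
  try have : _root_.True := by simp only [_root_.Cfsg.Agent.H446.FC.X.eq_1]
  exact _root_.True.intro
end

-- part: H46/TL/Ord
section
prune_inst 0x301015013c2200000004001462001ce3fb0000020048800000a40b0207c18c020842c820aab0051810a0000c0830006813000000024000000e000000011d01801000000080000000820080000000410000000000000000000000000000000000004010000
set_option linter.all false
open scoped Cfsg.Agent.FastGrp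

-- part: H46/TL/Scale
section
/-!
# Fixed pairs of irreducible characteristic polynomials: the slices with two scaling parameters

* `cyc_sc` : a cyclic element;
* `two_sc` : two blocks.
-/

set_option autoImplicit false

namespace Cfsg.Agent.H46.TL

open Polynomial Cfsg.Agent.H962.PP

universe u v

variable {F : Type u} [Field F] {V : Type v} [AddCommGroup V] [Module F V] [FiniteDimensional F V]

/-- undo the scaling -/
theorem unscale {T : Module.End F V} {a : F} (ha : a ≠ 0) {f : F[X]} (hfd : f.natDegree = Module.finrank F V)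
    (h : LinearMap.charpoly T = scl a f) : LinearMap.charpoly (a⁻¹ • T) = f := by
  rw [Cfsg.Agent.H130.War.charpoly_smul (inv_ne_zero ha), h, scl, mul_comp, C_comp, comp_assoc, mul_comp, C_comp, X_comp,
    ← mul_assoc, ← mul_assoc, ← C_mul, ← C_mul, hfd, ← mul_pow, inv_mul_cancel₀ ha, one_pow, inv_inv,
    inv_mul_cancel₀ ha, C_1, one_mul, one_mul, comp_X]

/-- the conclusion -/
def Dec (A : Module.End F V) (f g : F[X]) : Prop :=
  ∃ X Y : Module.End F V, Y * X = A ∧ LinearMap.charpoly X = f ∧ LinearMap.charpoly Y = g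

theorem dec_of {A : Module.End F V} {f g : F[X]} (hfd : f.natDegree = Module.finrank F V)
    (hgd : g.natDegree = Module.finrank F V) {a b : F} (ha : a ≠ 0) (hb : b ≠ 0)
    (h : Dec ((a * b) • A) (scl a f) (scl b g)) : Dec A f g := by
  obtain ⟨X, Y, hYX, hX, hY⟩ := h
  refine ⟨a⁻¹ • X, b⁻¹ • Y, ?_, unscale ha hfd hX, unscale hb hgd hY⟩
  rw [smul_mul_smul_comm, hYX, smul_smul, show b⁻¹ * a⁻¹ * (a * b) = 1 by field_simp, one_smul]

/-- a cyclic element -/
theorem cyc_sc {k : ℕ} (hV : Module.finrank F V = k + 2) (A : Module.End F V) {v : V}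
    {G : F[X]} (hG : G.Monic) (hGd : G.natDegree = k + 2)
    (hs : ⊤ ≤ Submodule.span F (Set.range fun i : Fin (k + 2) => (A ^ (i : ℕ)) v)) (h0 : aeval A G v = 0)
    {f g : F[X]} (hf : f.Monic) (hfi : Irreducible f) (hfd : f.natDegree = k + 2)
    (hg : g.Monic) (hgi : Irreducible g) (hgd : g.natDegree = k + 2)
    (hdet : (-1) ^ (k + 2) * G.coeff 0 = f.coeff 0 * g.coeff 0) {a b Y : F} (ha : a ≠ 0) (hb : b ≠ 0) (hY : Y ≠ 1)
    (heq : Y * (2 - ((k + 2 : ℕ) : F) + a * f.coeff (k + 1) - a * b * G.coeff (k + 1) - Y) =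
      a ^ (k + 2) * f.coeff 0 * (scl b g).eval 1) : Dec A f g := by
  have hL : a * b ≠ 0 := mul_ne_zero ha hb
  have hs1 : ⊤ ≤ Submodule.span F (Set.range (fun i : Fin 0 => (A ^ (i : ℕ)) v) ∪
      Set.range fun i : Fin (k + 2) => (A ^ (i : ℕ)) v) :=
    hs.trans (Submodule.span_mono Set.subset_union_right)
  have hs' := span_shift hL A v v hs1
  have h0' := shf_aeval hL A h0
  have hd := shf_monic hL hG
  have hdd : (shf (a * b) G).natDegree = k + 2 := (shf_natDegree hL G).trans hGd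
  refine dec_of (hfd.trans hV.symm) (hgd.trans hV.symm) ha hb ?_
  refine slice_cyc (k := k) hV ((a * b) • A) (v0 := v) (d := shf (a * b) G) (f := scl a f) (g := scl b g) (c := Y - 1) (by
    refine hs'.trans (Submodule.span_mono ?_)
    refine Set.union_subset ?_ ?_
    · rintro _ ⟨i, rfl⟩; exact i.elim0
    · rintro _ ⟨i, rfl⟩; exact ⟨i, rfl⟩) hd hdd h0' (scl_monic ha hf) (scl_irr ha hfi) ((scl_natDegree ha f).trans hfd)
    (scl_monic hb hg) (scl_irr hb hgi) ((scl_natDegree hb g).trans hgd) (sub_ne_zero.2 hY) ?_ ?_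
  · have e1 := alt_sum hd (m := k + 1) hdd
    rw [shf_eval hL, hGd, Finset.sum_range_succ, Nat.sub_self, pow_zero, mul_one] at e1
    rw [scl_coeff ha f (Nat.zero_le _), scl_coeff hb g (Nat.zero_le _), hfd, hgd, Nat.sub_zero]
    have e2 : ∑ i ∈ Finset.range (k + 1), (shf (a * b) G).coeff i * (-1) ^ (k + 1 - i) =
        - ∑ i ∈ Finset.range (k + 1), (shf (a * b) G).coeff i * (-1) ^ (k - i) := by
      rw [← Finset.sum_neg_distrib]
      refine Finset.sum_congr rfl fun i hi => ?_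
      have := Finset.mem_range.1 hi
      rw [show k + 1 - i = (k - i) + 1 by (clear * - this; omega), pow_succ]
      ring
    rw [e2] at e1
    rw [show (1 - (shf (a * b) G).coeff (k + 1) + ∑ i ∈ Finset.range (k + 1), (shf (a * b) G).coeff i * (-1) ^ (k - i)) =
      1 - (-∑ i ∈ Finset.range (k + 1), (shf (a * b) G).coeff i * (-1) ^ (k - i) + (shf (a * b) G).coeff (k + 1)) by ring,
      e1, mul_pow]
    linear_combination (a ^ (k + 2) * b ^ (k + 2)) * hdet
  · rw [scl_coeff ha f (Nat.zero_le _), scl_coeff ha f (by omega), hfd, shf_coeff hL hG (m := k + 1) hGd, Nat.sub_zero,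
      show k + 2 - (k + 1) = 1 by omega, pow_one]
    rw [← heq]
    push_cast
    ring

/-- two blocks -/
theorem two_sc {ρ σ : ℕ} (hV : Module.finrank F V = ρ + 1 + (σ + 1) + 2) (A : Module.End F V) {v w : V}
    {G H : F[X]} (hG : G.Monic) (hGd : G.natDegree = σ + 3) (hH : H.Monic) (hHd : H.natDegree = ρ + 1)
    (hs : ⊤ ≤ Submodule.span F (Set.range (fun i : Fin (ρ + 1) => (A ^ (i : ℕ)) w) ∪
      Set.range fun i : Fin (σ + 3) => (A ^ (i : ℕ)) v)) (h0 : aeval A G v = 0) (h1 : aeval A H w = 0)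
    {f g : F[X]} (hf : f.Monic) (hfi : Irreducible f) (hfd : f.natDegree = ρ + 1 + (σ + 1) + 2)
    (hg : g.Monic) (hgi : Irreducible g) (hgd : g.natDegree = ρ + 1 + (σ + 1) + 2)
    (hH0 : H.coeff 0 ≠ 0)
    (hdet : (-1) ^ (ρ + 1 + (σ + 3)) * (H.coeff 0 * G.coeff 0) = f.coeff 0 * g.coeff 0) {a b Y : F} (ha : a ≠ 0)
    (hb : b ≠ 0) (hY : Y ≠ 1) (hl : -(ρ : F) - a * b * H.coeff ρ ≠ 0) (hYl : Y ≠ -(ρ : F) - a * b * H.coeff ρ)
    (heq : (-(ρ : F) - a * b * H.coeff ρ) * (Y * (2 - ((σ + 3 : ℕ) : F) + a * f.coeff (ρ + 1 + (σ + 1) + 1) -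
      a * b * G.coeff (σ + 2) - Y)) = a ^ (ρ + 1 + (σ + 1) + 2) * f.coeff 0 * (scl b g).eval 1) : Dec A f g := by
  have hL : a * b ≠ 0 := mul_ne_zero ha hb
  have hs' := span_shift hL A w v hs
  have hd := shf_monic hL hG
  have hdd : (shf (a * b) G).natDegree = σ + 3 := (shf_natDegree hL G).trans hGd
  have hp := shf_monic hL hH
  have hpd : (shf (a * b) H).natDegree = ρ + 1 := (shf_natDegree hL H).trans hHd
  have hp1 : 1 - (shf (a * b) H).coeff ρ = -(ρ : F) - a * b * H.coeff ρ := by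
    rw [shf_coeff hL hH (m := ρ) hHd]; push_cast; ring
  have hd1 : (shf (a * b) G).coeff (σ + 2) = ((σ + 3 : ℕ) : F) + a * b * G.coeff (σ + 2) := by
    rw [shf_coeff hL hG (m := σ + 2) hGd]
  have e2 := alt_sum hp hpd
  rw [shf_eval hL, hHd] at e2
  have e3 : 1 - (shf (a * b) G).coeff (σ + 2) + ∑ i ∈ Finset.range (σ + 2), (shf (a * b) G).coeff i * (-1) ^ (σ + 1 - i) =
      (-1) ^ (σ + 3) * ((a * b) ^ (σ + 3) * G.coeff 0) := by
    have e1 := alt_sum hd (m := σ + 2) hdd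
    rw [shf_eval hL, hGd, Finset.sum_range_succ, Nat.sub_self, pow_zero, mul_one] at e1
    have e4 : ∑ i ∈ Finset.range (σ + 2), (shf (a * b) G).coeff i * (-1) ^ (σ + 2 - i) =
        - ∑ i ∈ Finset.range (σ + 2), (shf (a * b) G).coeff i * (-1) ^ (σ + 1 - i) := by
      rw [← Finset.sum_neg_distrib]
      refine Finset.sum_congr rfl fun i hi => ?_
      have := Finset.mem_range.1 hi
      rw [show σ + 2 - i = (σ + 1 - i) + 1 by (clear * - this; omega), pow_succ]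
      ring
    rw [e4] at e1
    rw [← e1]
    ring
  refine dec_of (hfd.trans hV.symm) (hgd.trans hV.symm) ha hb ?_
  refine slice_two (ρ := ρ) (σ := σ) hV ((a * b) • A) (v1 := w) (v2 := v) (p := shf (a * b) H) (d := shf (a * b) G)
    (f := scl a f) (g := scl b g) (c := Y - 1) hs' hp hpd (shf_aeval hL A h1) hd hdd (shf_aeval hL A h0)
    (scl_monic ha hf) (scl_irr ha hfi) ((scl_natDegree ha f).trans hfd)
    (scl_monic hb hg) (scl_irr hb hgi) ((scl_natDegree hb g).trans hgd) (sub_ne_zero.2 hY) ?_ ?_ ?_ ?_ ?_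
  · rw [hp1]; exact hl
  · rw [e2]
    exact mul_ne_zero (pow_ne_zero _ (by simp)) (mul_ne_zero (pow_ne_zero _ hL) hH0)
  · rw [hp1, add_sub_cancel]; exact hYl
  · rw [e2, e3, scl_coeff ha f (Nat.zero_le _), scl_coeff hb g (Nat.zero_le _), hfd, hgd, Nat.sub_zero, mul_pow, mul_pow]
    rw [pow_add (-1 : F)] at hdet
    have e5 : a ^ (ρ + 1 + (σ + 1) + 2) = a ^ (ρ + 1) * a ^ (σ + 3) := by rw [← pow_add]; congr 1
    have e6 : b ^ (ρ + 1 + (σ + 1) + 2) = b ^ (ρ + 1) * b ^ (σ + 3) := by rw [← pow_add]; congr 1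
    rw [e5, e6]
    linear_combination (a ^ (ρ + 1) * a ^ (σ + 3) * b ^ (ρ + 1) * b ^ (σ + 3)) * hdet
  · rw [hp1, hd1, scl_coeff ha f (Nat.zero_le _), scl_coeff ha f (by omega), hfd, Nat.sub_zero,
      show ρ + 1 + (σ + 1) + 2 - (ρ + 1 + (σ + 1) + 1) = 1 by omega, pow_one, ← heq]
    ring

end Cfsg.Agent.H46.TL
end

-- part: H46/TL/Five
section
/-!
# Fixed pairs in dimension 5
-/

set_option autoImplicit false

namespace Cfsg.Agent.H46.TL

open Polynomial Cfsg.Agent.H962.PP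

universe u v

/-- `b⁵ g(1/b)`, `g = X⁵ + p X⁴ + q X³ + r X² + s X - 1` -/
def G5 {F : Type u} [CommRing F] (p q r s b : F) : F := 1 + b * (p + b * (q + b * (r + b * (s - b))))

/-- the finite checks -/
structure Chk5 (F : Type u) [CommRing F] (f4 f3 f2 f1 g4 g3 g2 g1 : F) : Prop where
  cyc : ∀ t : F, ∃ a b Y : F, a ≠ 0 ∧ b ≠ 0 ∧ Y ≠ 1 ∧ Y * (a * f4 - 3 + a * b * t - Y) + a ^ 5 * G5 g4 g3 g2 g1 b = 0
  one : ∀ k t : F, k ≠ 0 → ∃ a b Y : F, a ≠ 0 ∧ b ≠ 0 ∧ Y ≠ 1 ∧ Y ≠ a * b * k ∧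
    (a * b * k) * (Y * (a * f4 - 2 + a * b * t - Y)) + a ^ 5 * G5 g4 g3 g2 g1 b = 0
  two : ∀ s t : F, ∃ a b Y : F, a ≠ 0 ∧ b ≠ 0 ∧ Y ≠ 1 ∧ a * b * s ≠ 1 ∧ Y ≠ a * b * s - 1 ∧
    (a * b * s - 1) * (Y * (a * f4 - 1 + a * b * t - Y)) + a ^ 5 * G5 g4 g3 g2 g1 b = 0
  exc : ∀ c : F, c ≠ 0 → ¬ (g4 = -(c * f1) ∧ g3 = -(c ^ 2 * f2) ∧ g2 = -(c ^ 3 * f3) ∧ g1 = -(c ^ 4 * f4) ∧ c ^ 5 = 1)

variable {F : Type u} [Field F]

theorem qt_coeff (a b c d e : F) : (qt a b c d e).coeff 3 = b ∧ (qt a b c d e).coeff 2 = c ∧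
    (qt a b c d e).coeff 1 = d := by
  rw [qt]
  refine ⟨?_, ?_, ?_⟩ <;> simp [coeff_X, coeff_one, coeff_C]

variable {V : Type v} [AddCommGroup V] [Module F V] [FiniteDimensional F V]

/-- from `Z` to `X = Z⁻¹` -/
theorem dec_of_inv5 (hV : Module.finrank F V = 5) {A : Module.End F V} (hdet : LinearMap.det A ≠ 0)
    {f4 f3 f2 f1 : F} {g : F[X]} (hfi : Irreducible (qt f4 f3 f2 f1 (-1)))
    (h : ∃ Z : Module.End F V, LinearMap.charpoly (A * Z) = g ∧
      LinearMap.charpoly Z = qt (-f1) (-f2) (-f3) (-f4) (-1)) : Dec A (qt f4 f3 f2 f1 (-1)) g := by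
  obtain ⟨Z, h1, h2⟩ := h
  have hZ : LinearMap.det Z ≠ 0 := by
    rw [LinearMap.det_eq_sign_charpoly_coeff, h2, qt_zero]
    simp only [_root_.mul_neg, _root_.mul_one, _root_.ne_eq, _root_.neg_eq_zero, _root_.pow_eq_zero_iff', _root_.one_ne_zero, _root_.false_and, _root_.not_false_eq_true]
  obtain ⟨E, hE⟩ : ∃ E : V ≃ₗ[F] V, E = LinearMap.equivOfDetNeZero Z hZ := ⟨_, rfl⟩
  have hEZ : ∀ v, Z v = E v := fun v => by rw [hE]; rfl
  obtain ⟨T, hT⟩ : ∃ T : Module.End F V, T = (E.symm : V →ₗ[F] V) := ⟨_, rfl⟩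
  have hZT : ∀ v, Z (T v) = v := fun v => by rw [hEZ, hT]; exact E.apply_symm_apply v
  refine ⟨T, A * Z, ?_, ?_, h1⟩
  · ext v
    rw [Module.End.mul_apply, Module.End.mul_apply, hZT]
  · have : Nontrivial V := Module.finrank_pos_iff.1 (by rw [hV]; norm_num)
    obtain ⟨v, hv⟩ := exists_ne (0 : V)
    refine charpoly_of_kill T (qt_monic ..) hfi ((qt_natDegree ..).trans hV.symm) hv ?_
    have h3 : aeval Z (qt (-f1) (-f2) (-f3) (-f4) (-1)) (T (T (T (T (T v))))) = 0 := by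
      rw [← h2, LinearMap.aeval_self_charpoly]; rfl
    rw [qt] at h3 ⊢
    simp only [map_add, map_mul, map_pow, aeval_X, aeval_C, map_neg, map_one, LinearMap.add_apply, Module.End.mul_apply,
      pow_succ, pow_zero, one_mul, Module.End.one_apply, hZT, LinearMap.neg_apply, Algebra.algebraMap_eq_smul_one,
      LinearMap.smul_apply] at h3 ⊢
    have h4 := congrArg Neg.neg h3
    rw [neg_zero] at h4
    rw [← h4]
    abel

/-- **dimension 5** -/
theorem five_dec [Finite F] {f4 f3 f2 f1 g4 g3 g2 g1 : F} (hc : Chk5 F f4 f3 f2 f1 g4 g3 g2 g1)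
    (hfi : Irreducible (qt f4 f3 f2 f1 (-1))) (hgi : Irreducible (qt g4 g3 g2 g1 (-1)))
    (hV : Module.finrank F V = 5) (A : Module.End F V) (hdet : LinearMap.det A = 1) (hns : ∀ c : F, A ≠ c • 1) :
    Dec A (qt f4 f3 f2 f1 (-1)) (qt g4 g3 g2 g1 (-1)) := by
  have hG : ∀ b : F, b ≠ 0 → (scl b (qt g4 g3 g2 g1 (-1))).eval 1 = G5 g4 g3 g2 g1 b := by
    intro b hb
    rw [scl_eval_one, qt_natDegree, qt_eval, G5]
    field_simp
    ring
  obtain ⟨hg3, hg2, hg1⟩ := qt_coeff g4 g3 g2 g1 (-1)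
  have hfm := qt_monic f4 f3 f2 f1 (-1)
  have hfd := qt_natDegree f4 f3 f2 f1 (-1)
  have hgm := qt_monic g4 g3 g2 g1 (-1)
  have hgd := qt_natDegree g4 g3 g2 g1 (-1)
  have hf4 := qt_four f4 f3 f2 f1 (-1)
  have hf0 := qt_zero f4 f3 f2 f1 (-1)
  have hg0 := qt_zero g4 g3 g2 g1 (-1)
  rcases dich A with ⟨q, hq, hqi, hq3, hqk⟩ | ⟨v1, v2, e1, e2, he1, he2, hle, hsum, hs, ha1, ha2, hd⟩
  · have hq1 : q.natDegree = 1 := by
      have := hqi.natDegree_pos
      omega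
    obtain ⟨c, hcq⟩ : ∃ c, q = X - C c := ⟨-q.coeff 0, by
      rw [C_neg, sub_neg_eq_add]
      exact hq.eq_X_add_C hq1⟩
    have hk := hqk c hcq
    have hrk := LinearMap.finrank_range_add_finrank_ker (A - c • (1 : Module.End F V))
    have hc0 : c ≠ 0 := by
      rintro rfl
      rw [zero_smul, sub_zero] at hk
      have h2 : LinearMap.ker A = ⊥ := LinearMap.ker_eq_bot.2
        (LinearMap.equivOfDetNeZero A (by rw [hdet]; exact one_ne_zero)).injective
      rw [h2, finrank_bot] at hk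
      omega
    refine dec_of_inv5 hV (by rw [hdet]; exact one_ne_zero) hfi ?_
    obtain ⟨k3, k2, k1⟩ := qt_coeff (-f1) (-f2) (-f3) (-f4) (-1)
    have k4 := qt_four (-f1) (-f2) (-f3) (-f4) (-1)
    have k0 := qt_zero (-f1) (-f2) (-f3) (-f4) (-1)
    have kd := qt_natDegree (-f1) (-f2) (-f3) (-f4) (-1)
    refine Cfsg.Agent.H130.War.exists_rank_le_two (m := 5) le_rfl hV hc0 (by omega) (hns c) hgm hgd
      (by rw [hg0]; simp) (qt_monic ..) kd (by rw [k0]; simp) (by rw [hdet, hg0, k0, one_mul]) ?_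
    intro h
    have h' : qt g4 g3 g2 g1 (-1) = scl c (qt (-f1) (-f2) (-f3) (-f4) (-1)) := by rw [scl, kd]; exact h
    have hco : ∀ i ≤ 5, (qt g4 g3 g2 g1 (-1)).coeff i = c ^ (5 - i) * (qt (-f1) (-f2) (-f3) (-f4) (-1)).coeff i := by
      intro i hi
      conv_lhs => rw [h']
      rw [scl_coeff hc0 _ (by omega), kd]
    have c4 := hco 4 (by norm_num)
    have c3 := hco 3 (by norm_num)
    have c2 := hco 2 (by norm_num)
    have c1 := hco 1 (by norm_num)
    have c0 := hco 0 (by norm_num)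
    rw [qt_four, k4] at c4
    rw [hg3, k3] at c3
    rw [hg2, k2] at c2
    rw [hg1, k1] at c1
    rw [hg0, k0] at c0
    norm_num at c4 c3 c2 c1 c0
    refine hc.exc c hc0 ⟨c4, c3, c2, c1, c0.symm⟩
  · have hdet' : e1.coeff 0 * e2.coeff 0 = -1 := by
      rw [hsum, hV, hdet] at hd
      linear_combination hd
    have hcase : e1.natDegree = 0 ∨ e1.natDegree = 1 ∨ e1.natDegree = 2 := by omega
    have h10 : e1.coeff 0 ≠ 0 := by
      intro h
      rw [h, zero_mul] at hdet'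
      exact one_ne_zero (neg_eq_zero.1 hdet'.symm)
    rcases hcase with h | h | h
    · have h2 : e2.natDegree = 5 := by omega
      have hg1' : e1 = 1 := he1.natDegree_eq_zero.1 h
      rw [h, h2] at hs
      rw [hg1', coeff_one_zero, one_mul] at hdet'
      obtain ⟨a, b, Y, ha, hb, hY, heq⟩ := hc.cyc (-e2.coeff 4)
      refine cyc_sc (k := 3) hV A (v := v2) he2 h2 (hs.trans (Submodule.span_mono ?_)) ha2 hfm hfi hfd hgm hgi hgd
        (by rw [hdet', hf0, hg0]; norm_num) ha hb hY ?_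
      · refine Set.union_subset ?_ ?_
        · rintro _ ⟨i, rfl⟩; exact i.elim0
        · rintro _ ⟨i, rfl⟩; exact ⟨i, rfl⟩
      · rw [hG b hb, hf4, hf0]
        push_cast
        linear_combination heq
    · have h2 : e2.natDegree = 4 := by omega
      rw [h, h2] at hs
      obtain ⟨a, b, Y, ha, hb, hY, hYk, heq⟩ := hc.one (-e1.coeff 0) (-e2.coeff 3) (neg_ne_zero.2 h10)
      refine two_sc (ρ := 0) (σ := 1) hV A (v := v2) (w := v1) he2 h2 he1 h hs ha2 ha1 hfm hfi hfd hgm hgi hgd h10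
        (by rw [hdet', hf0, hg0]; norm_num) ha hb hY ?_ ?_ ?_
      · intro h5
        apply mul_ne_zero (mul_ne_zero ha hb) (neg_ne_zero.2 h10)
        push_cast at h5
        linear_combination h5
      · intro h5
        apply hYk
        rw [h5]
        push_cast
        ring
      · rw [hG b hb, hf0]
        change _ * (Y * (_ + a * (qt f4 f3 f2 f1 (-1)).coeff 4 - _ - _)) = _
        rw [hf4]
        push_cast
        linear_combination heq
    · have h2 : e2.natDegree = 3 := by omega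
      rw [h, h2] at hs
      obtain ⟨a, b, Y, ha, hb, hY, hl, hYk, heq⟩ := hc.two (-e1.coeff 1) (-e2.coeff 2)
      refine two_sc (ρ := 1) (σ := 0) hV A (v := v2) (w := v1) he2 h2 he1 h hs ha2 ha1 hfm hfi hfd hgm hgi hgd h10
        (by rw [hdet', hf0, hg0]; norm_num) ha hb hY ?_ ?_ ?_
      · intro h5
        apply hl
        push_cast at h5
        linear_combination h5
      · intro h5
        apply hYk
        rw [h5]
        push_cast
        ring
      · rw [hG b hb, hf0]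
        change _ * (Y * (_ + a * (qt f4 f3 f2 f1 (-1)).coeff 4 - _ - _)) = _
        rw [hf4]
        push_cast
        linear_combination heq

end Cfsg.Agent.H46.TL
end

-- part: H46/TL/Four
section
/-!
# Fixed pairs in dimension 4
-/

set_option autoImplicit false
set_option linter.unusedSimpArgs false
set_option linter.unusedVariables false

namespace Cfsg.Agent.H46.TL

open Polynomial Cfsg.Agent.H962.PP Module

universe u v

/-- `b⁴ g(1/b)`, `g = X⁴ + p X³ + q X² + r X + 1` -/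
def G4 {F : Type u} [CommRing F] (p q r b : F) : F := 1 + b * (p + b * (q + b * (r + b)))

/-- the matrix of `C(x² - t x + d) ⊕ C(x² - t x + d)` -/
def BB {F : Type u} [CommRing F] (t d : F) : Matrix (Fin 4) (Fin 4) F :=
  !![0, -d, 0, 0; 1, t, 0, 0; 0, 0, 0, -d; 0, 0, 1, t]

/-- the finite checks -/
structure Chk4 (F : Type u) [CommRing F] (f3 f2 f1 g3 g2 g1 : F) : Prop where
  cyc : ∀ t : F, ∃ a b Y : F, a ≠ 0 ∧ b ≠ 0 ∧ Y ≠ 1 ∧ Y * (a * f3 - 2 + a * b * t - Y) = a ^ 4 * G4 g3 g2 g1 b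
  one : ∀ k t : F, k ≠ 0 → ∃ a b Y : F, a ≠ 0 ∧ b ≠ 0 ∧ Y ≠ 1 ∧ Y ≠ a * b * k ∧
    (a * b * k) * (Y * (a * f3 - 1 + a * b * t - Y)) = a ^ 4 * G4 g3 g2 g1 b
  two : ∀ t d : F, d ^ 2 = 1 → (∀ x : F, x ^ 2 - t * x + d ≠ 0) → ∃ X Y : Matrix (Fin 4) (Fin 4) F, Y * X = BB t d ∧
    (∀ j, (X ^ 4 + f3 • X ^ 3 + f2 • X ^ 2 + f1 • X + 1 : Matrix (Fin 4) (Fin 4) F) j 0 = 0) ∧
    (∀ j, (Y ^ 4 + g3 • Y ^ 3 + g2 • Y ^ 2 + g1 • Y + 1 : Matrix (Fin 4) (Fin 4) F) j 0 = 0)
  exc : ∀ c : F, c ≠ 0 → ¬ (g3 = c * f1 ∧ g2 = c ^ 2 * f2 ∧ g1 = c ^ 3 * f3 ∧ c ^ 4 = 1)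

variable {F : Type u} [Field F]

/-- `X⁴ + a X³ + b X² + c X + 1` -/
noncomputable def kt (a b c : F) : F[X] := X ^ 4 + C a * X ^ 3 + C b * X ^ 2 + C c * X + 1

theorem kt_monic (a b c : F) : (kt a b c).Monic := by
  rw [kt]; monicity!

theorem kt_natDegree (a b c : F) : (kt a b c).natDegree = 4 := by
  rw [kt]; compute_degree!

theorem kt_coeff (a b c : F) : (kt a b c).coeff 3 = a ∧ (kt a b c).coeff 2 = b ∧
    (kt a b c).coeff 1 = c ∧ (kt a b c).coeff 0 = 1 := by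
  rw [kt]
  refine ⟨?_, ?_, ?_, ?_⟩ <;> simp [coeff_X, coeff_one, coeff_C]

theorem kt_eval (a b c x : F) : (kt a b c).eval x = x ^ 4 + a * x ^ 3 + b * x ^ 2 + c * x + 1 := by
  rw [kt]
  simp

variable {V : Type v} [AddCommGroup V] [Module F V] [FiniteDimensional F V]

/-- from `Z` to `X = Z⁻¹` -/
theorem dec_of_inv4 (hV : Module.finrank F V = 4) {A : Module.End F V}
    {f3 f2 f1 : F} {g : F[X]} (hfi : Irreducible (kt f3 f2 f1))
    (h : ∃ Z : Module.End F V, LinearMap.charpoly (A * Z) = g ∧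
      LinearMap.charpoly Z = kt f1 f2 f3) : Dec A (kt f3 f2 f1) g := by
  obtain ⟨Z, h1, h2⟩ := h
  have hZ : LinearMap.det Z ≠ 0 := by
    rw [LinearMap.det_eq_sign_charpoly_coeff, h2, (kt_coeff f1 f2 f3).2.2.2]
    simp only [_root_.mul_one, _root_.ne_eq, _root_.pow_eq_zero_iff', _root_.neg_eq_zero, _root_.one_ne_zero, _root_.false_and, _root_.not_false_eq_true]
  obtain ⟨E, hE⟩ : ∃ E : V ≃ₗ[F] V, E = LinearMap.equivOfDetNeZero Z hZ := ⟨_, rfl⟩
  have hEZ : ∀ v, Z v = E v := fun v => by rw [hE]; rfl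
  obtain ⟨T, hT⟩ : ∃ T : Module.End F V, T = (E.symm : V →ₗ[F] V) := ⟨_, rfl⟩
  have hZT : ∀ v, Z (T v) = v := fun v => by rw [hEZ, hT]; exact E.apply_symm_apply v
  refine ⟨T, A * Z, ?_, ?_, h1⟩
  · ext v
    rw [Module.End.mul_apply, Module.End.mul_apply, hZT]
  · have : Nontrivial V := Module.finrank_pos_iff.1 (by rw [hV]; norm_num)
    obtain ⟨v, hv⟩ := exists_ne (0 : V)
    refine charpoly_of_kill T (kt_monic ..) hfi ((kt_natDegree ..).trans hV.symm) hv ?_
    have h3 : aeval Z (kt f1 f2 f3) (T (T (T (T v)))) = 0 := by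
      rw [← h2, LinearMap.aeval_self_charpoly]; rfl
    rw [kt] at h3 ⊢
    simp only [map_add, map_mul, map_pow, aeval_X, aeval_C, map_neg, map_one, LinearMap.add_apply, Module.End.mul_apply,
      pow_succ, pow_zero, one_mul, Module.End.one_apply, hZT, LinearMap.neg_apply, Algebra.algebraMap_eq_smul_one,
      LinearMap.smul_apply] at h3 ⊢
    rw [← h3]
    abel

omit [FiniteDimensional F V] in
theorem aeval_mod {A : Module.End F V} {G : F[X]} (hG : G.Monic) {v : V} (h0 : aeval A G v = 0) (p : F[X]) :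
    aeval A p v ∈ Submodule.span F (Set.range fun i : Fin G.natDegree => (A ^ (i : ℕ)) v) := by
  by_cases h1 : G = 1
  · rw [h1, map_one] at h0
    have : v = 0 := h0
    rw [this, map_zero]
    exact zero_mem _
  have hlt := natDegree_modByMonic_lt p hG h1
  have e1 : aeval A p v = aeval A (p %ₘ G) v := by
    conv_lhs => rw [← modByMonic_add_div p G, mul_comm G]
    rw [map_add, map_mul, LinearMap.add_apply, Module.End.mul_apply, h0, map_zero, add_zero]
  rw [e1, aeval_eq_sum_range' hlt, LinearMap.sum_apply]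
  refine Submodule.sum_mem _ fun i hi => ?_
  rw [LinearMap.smul_apply]
  exact Submodule.smul_mem _ _ (Submodule.subset_span ⟨⟨i, Finset.mem_range.1 hi⟩, rfl⟩)

omit [FiniteDimensional F V] in
/-- two coprime blocks make a cyclic element -/
theorem cyc_of_coprime {A : Module.End F V} {e1 e2 : F[X]} (he1 : e1.Monic) (he2 : e2.Monic)
    (hco : IsCoprime e1 e2) {v1 v2 : V} (h1 : aeval A e1 v1 = 0) (h2 : aeval A e2 v2 = 0)
    (hs : ⊤ ≤ Submodule.span F (Set.range (fun i : Fin e1.natDegree => (A ^ (i : ℕ)) v1) ∪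
        Set.range fun i : Fin e2.natDegree => (A ^ (i : ℕ)) v2)) :
    ⊤ ≤ Submodule.span F (Set.range fun i : Fin (e1 * e2).natDegree => (A ^ (i : ℕ)) (v1 + v2)) ∧
      aeval A (e1 * e2) (v1 + v2) = 0 := by
  have h0 : aeval A (e1 * e2) (v1 + v2) = 0 := by
    rw [map_add, map_mul, Module.End.mul_apply, Module.End.mul_apply, h2, map_zero, add_zero, ← Module.End.mul_apply,
      ← map_mul, mul_comm, map_mul, Module.End.mul_apply, h1, map_zero]
  refine ⟨?_, h0⟩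
  obtain ⟨a, b, hab⟩ := hco
  have k1 : aeval A (b * e2) v1 = v1 := by
    have : aeval A (a * e1 + b * e2) v1 = v1 := by rw [hab, map_one]; rfl
    rw [map_add, LinearMap.add_apply, map_mul (aeval A) a e1, Module.End.mul_apply _ _ v1, h1, map_zero, zero_add] at this
    exact this
  have k2 : aeval A (a * e1) v2 = v2 := by
    have : aeval A (a * e1 + b * e2) v2 = v2 := by rw [hab, map_one]; rfl
    rw [map_add, LinearMap.add_apply, map_mul (aeval A) b e2, Module.End.mul_apply _ _ v2, h2, map_zero, add_zero] at this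
    exact this
  have m1 : ∀ i : ℕ, (A ^ i) v1 = aeval A (X ^ i * (b * e2)) (v1 + v2) := by
    intro i
    rw [map_mul, map_pow, aeval_X, Module.End.mul_apply, map_add, k1, map_mul (aeval A) b e2, Module.End.mul_apply _ _ v2, h2,
      map_zero, add_zero]
  have m2 : ∀ i : ℕ, (A ^ i) v2 = aeval A (X ^ i * (a * e1)) (v1 + v2) := by
    intro i
    rw [map_mul, map_pow, aeval_X, Module.End.mul_apply, map_add, k2, map_mul (aeval A) a e1, Module.End.mul_apply _ _ v1, h1,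
      map_zero, zero_add]
  refine hs.trans (Submodule.span_le.2 (Set.union_subset ?_ ?_))
  · rintro _ ⟨i, rfl⟩
    change (A ^ (i : ℕ)) v1 ∈ _
    rw [m1]
    exact aeval_mod (he1.mul he2) h0 _
  · rintro _ ⟨i, rfl⟩
    change (A ^ (i : ℕ)) v2 ∈ _
    rw [m2]
    exact aeval_mod (he1.mul he2) h0 _

/-- two equal blocks `C(x² - t x + d)` -/
theorem two_eq (hV : Module.finrank F V = 4) {A : Module.End F V} {v1 v2 : V} {t d : F}
    (h1 : A (A v1) = t • A v1 - d • v1) (h2 : A (A v2) = t • A v2 - d • v2)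
    (hs : ⊤ ≤ Submodule.span F (Set.range ![v1, A v1, v2, A v2])) {f3 f2 f1 g3 g2 g1 : F}
    (hfi : Irreducible (kt f3 f2 f1)) (hgi : Irreducible (kt g3 g2 g1))
    (h : ∃ X Y : Matrix (Fin 4) (Fin 4) F, Y * X = BB t d ∧
      (∀ j, (X ^ 4 + f3 • X ^ 3 + f2 • X ^ 2 + f1 • X + 1 : Matrix (Fin 4) (Fin 4) F) j 0 = 0) ∧
      (∀ j, (Y ^ 4 + g3 • Y ^ 3 + g2 • Y ^ 2 + g1 • Y + 1 : Matrix (Fin 4) (Fin 4) F) j 0 = 0)) :
    Dec A (kt f3 f2 f1) (kt g3 g2 g1) := by
  obtain ⟨X, Y, hYX, hX, hY⟩ := h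
  let b := basisOfTopLeSpanOfCardEqFinrank (![v1, A v1, v2, A v2]) hs (by simp [hV])
  have hb : ∀ i : Fin 4, b i = ![v1, A v1, v2, A v2] i := fun i => by
    simp [b, coe_basisOfTopLeSpanOfCardEqFinrank]
  let φ := Matrix.toLinAlgEquiv b
  have hA : φ (BB t d) = A := by
    refine b.ext fun i => ?_
    rw [Matrix.toLinAlgEquiv_self, Fin.sum_univ_four]
    simp only [hb]
    (revert i; simp only [BB, h1, h2, sub_eq_neg_add, _root_.Fin.forall_fin_succ, _root_.Nat.succ_eq_add_one, Nat.reduceAdd, Fin.isValue, _root_.Matrix.of_apply, _root_.Matrix.cons_val', _root_.Matrix.cons_val_fin_one, _root_.Matrix.cons_val_zero, _root_.Matrix.cons_val_one, _root_.Matrix.cons_val, _root_.zero_smul, _root_.one_smul, _root_.zero_add, _root_.add_zero, _root_.Matrix.cons_val_succ, _root_.neg_smul, _root_.implies_true, _root_.and_self])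
  have key : ∀ (M : Matrix (Fin 4) (Fin 4) F) (p q r : F), Irreducible (kt p q r) →
      (∀ j, (M ^ 4 + p • M ^ 3 + q • M ^ 2 + r • M + 1 : Matrix (Fin 4) (Fin 4) F) j 0 = 0) →
      LinearMap.charpoly (φ M) = kt p q r := by
    intro M p q r hi hM
    refine charpoly_of_kill (φ M) (kt_monic ..) hi ((kt_natDegree ..).trans hV.symm) (b.ne_zero 0) ?_
    have e1 : aeval (φ M) (kt p q r) = φ (M ^ 4 + p • M ^ 3 + q • M ^ 2 + r • M + 1) := by
      rw [kt]
      simp only [map_add, map_mul, map_pow, aeval_X, aeval_C, map_one, map_smul, Algebra.smul_def, AlgEquiv.commutes]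
    rw [e1, Matrix.toLinAlgEquiv_self]
    exact Finset.sum_eq_zero fun j _ => by rw [hM j, zero_smul]
  exact ⟨φ X, φ Y, by rw [← map_mul, hYX, hA], key X _ _ _ hfi hX, key Y _ _ _ hgi hY⟩

theorem quad_form {e : F[X]} (he : e.Monic) (hd : e.natDegree = 2) : e = X ^ 2 + C (e.coeff 1) * X + C (e.coeff 0) := by
  conv_lhs => rw [e.as_sum_range_C_mul_X_pow, hd, Finset.sum_range_succ, Finset.sum_range_succ, Finset.sum_range_succ,
    Finset.sum_range_zero]
  have h1 : e.coeff 2 = 1 := by rw [← hd]; exact he.coeff_natDegree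
  rw [h1]
  simp only [map_one, pow_zero, mul_one, zero_add, pow_one, one_mul]
  ring

/-- two blocks with a common root -/
theorem two_le_ker (hV : Module.finrank F V = 4) {A : Module.End F V} {v1 v2 : V} {c1 c2 k : F}
    (h1 : A (A v1 + c1 • v1) = k • (A v1 + c1 • v1)) (h2 : A (A v2 + c2 • v2) = k • (A v2 + c2 • v2))
    (hs : ⊤ ≤ Submodule.span F (Set.range ![v1, A v1, v2, A v2])) :
    2 ≤ Module.finrank F (LinearMap.ker (A - k • (1 : Module.End F V))) := by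
  have hli := linearIndependent_of_top_le_span_of_card_eq_finrank hs (by simp [hV])
  have hm1 : A v1 + c1 • v1 ∈ LinearMap.ker (A - k • (1 : Module.End F V)) := by
    rw [LinearMap.mem_ker, LinearMap.sub_apply, LinearMap.smul_apply, Module.End.one_apply, h1, sub_self]
  have hm2 : A v2 + c2 • v2 ∈ LinearMap.ker (A - k • (1 : Module.End F V)) := by
    rw [LinearMap.mem_ker, LinearMap.sub_apply, LinearMap.smul_apply, Module.End.one_apply, h2, sub_self]
  have h3 : LinearIndependent F ![(⟨_, hm1⟩ : LinearMap.ker (A - k • (1 : Module.End F V))), ⟨_, hm2⟩] := by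
    rw [LinearIndependent.pair_iff]
    intro a b hab
    have h4 : a • (A v1 + c1 • v1) + b • (A v2 + c2 • v2) = 0 := congrArg Subtype.val hab
    rw [Fintype.linearIndependent_iff] at hli
    have h5 := hli ![a * c1, a, b * c2, b] (by
      rw [Fin.sum_univ_four, ← h4]
      simp only [Matrix.cons_val_zero, Matrix.cons_val_one, Matrix.cons_val]
      module)
    exact ⟨h5 1, h5 3⟩
  have := h3.fintype_card_le_finrank
  rwa [Fintype.card_fin] at this

theorem coprime_of {e1 e2 : F[X]} (he1 : e1.Monic) (he2 : e2.Monic) (h1 : e1.natDegree = 2) (h2 : e2.natDegree = 2)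
    (hne : e1 ≠ e2) (hr : ¬ ∃ k, e1.IsRoot k ∧ e2.IsRoot k) : IsCoprime e1 e2 := by
  refine isCoprime_of_irreducible_dvd (fun h => he1.ne_zero h.1) fun z hz hz1 hz2 => ?_
  have hz0 := hz.natDegree_pos
  have hzl : z.natDegree ≤ 2 := (natDegree_le_of_dvd hz1 he1.ne_zero).trans h1.le
  by_cases hd : z.natDegree = 1
  · obtain ⟨k, hk⟩ := exists_root_of_degree_eq_one (degree_eq_iff_natDegree_eq_of_pos (by norm_num) |>.2 hd)
    exact hr ⟨k, hk.dvd hz1, hk.dvd hz2⟩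
  · have hd2 : z.natDegree = 2 := by omega
    have key : ∀ e : F[X], e.Monic → e.natDegree = 2 → z ∣ e → Associated z e := by
      rintro e he hde ⟨c, rfl⟩
      have hc0 : c ≠ 0 := by rintro rfl; rw [mul_zero] at he; exact he.ne_zero rfl
      rw [natDegree_mul hz.ne_zero hc0, hd2] at hde
      have hu : IsUnit c := by
        rw [eq_C_of_natDegree_eq_zero (by omega : c.natDegree = 0)] at hc0 ⊢
        exact isUnit_C.2 (isUnit_iff_ne_zero.2 (C_ne_zero.1 hc0))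
      exact ⟨hu.unit, rfl⟩
    exact hne (eq_of_monic_of_associated he1 he2 ((key e1 he1 h1 hz1).symm.trans (key e2 he2 h2 hz2)))

/-- **dimension 4** -/
theorem four_dec [Finite F] (hF : 3 ≤ Nat.card F) {f3 f2 f1 g3 g2 g1 : F} (hc : Chk4 F f3 f2 f1 g3 g2 g1)
    (hfi : Irreducible (kt f3 f2 f1)) (hgi : Irreducible (kt g3 g2 g1))
    (hV : Module.finrank F V = 4) (A : Module.End F V) (hdet : LinearMap.det A = 1) (hns : ∀ c : F, A ≠ c • 1) :
    Dec A (kt f3 f2 f1) (kt g3 g2 g1) := by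
  have hG : ∀ b : F, b ≠ 0 → (scl b (kt g3 g2 g1)).eval 1 = G4 g3 g2 g1 b := by
    intro b hb
    rw [scl_eval_one, kt_natDegree, kt_eval, G4]
    field_simp
    ring
  obtain ⟨hg3, hg2, hg1, hg0⟩ := kt_coeff g3 g2 g1
  obtain ⟨hf3, hf2, hf1, hf0⟩ := kt_coeff f3 f2 f1
  have hfm := kt_monic f3 f2 f1
  have hfd := kt_natDegree f3 f2 f1
  have hgm := kt_monic g3 g2 g1
  have hgd := kt_natDegree g3 g2 g1
  have rk : ∀ c : F, 2 ≤ Module.finrank F (LinearMap.ker (A - c • (1 : Module.End F V))) →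
      Dec A (kt f3 f2 f1) (kt g3 g2 g1) := by
    intro c hk
    have hrk := LinearMap.finrank_range_add_finrank_ker (A - c • (1 : Module.End F V))
    have hc0 : c ≠ 0 := by
      rintro rfl
      rw [zero_smul, sub_zero] at hk
      have h2 : LinearMap.ker A = ⊥ := LinearMap.ker_eq_bot.2
        (LinearMap.equivOfDetNeZero A (by rw [hdet]; exact one_ne_zero)).injective
      rw [h2, finrank_bot] at hk
      omega
    refine dec_of_inv4 hV hfi ?_
    obtain ⟨k3, k2, k1, k0⟩ := kt_coeff f1 f2 f3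
    have kd := kt_natDegree f1 f2 f3
    refine Cfsg.Agent.H130.War.exists_rank_le_two' (m := 4) (Or.inr ⟨rfl, hF⟩) hV hc0 (by omega) (hns c) hgm hgd
      (by rw [hg0]; simp) (kt_monic ..) kd (by rw [k0]; simp) (by rw [hdet, hg0, k0, one_mul]) ?_
    intro h
    have h' : kt g3 g2 g1 = scl c (kt f1 f2 f3) := by rw [scl, kd]; exact h
    have hco : ∀ i ≤ 4, (kt g3 g2 g1).coeff i = c ^ (4 - i) * (kt f1 f2 f3).coeff i := by
      intro i hi
      conv_lhs => rw [h']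
      rw [scl_coeff hc0 _ (by omega), kd]
    have c3 := hco 3 (by norm_num)
    have c2 := hco 2 (by norm_num)
    have c1 := hco 1 (by norm_num)
    have c0 := hco 0 (by norm_num)
    rw [hg3, k3] at c3
    rw [hg2, k2] at c2
    rw [hg1, k1] at c1
    rw [hg0, k0] at c0
    norm_num at c3 c2 c1 c0
    exact hc.exc c hc0 ⟨c3, c2, c1, c0.symm⟩
  have cy : ∀ (v : V) (G : F[X]), G.Monic → G.natDegree = 4 → (⊤ ≤ Submodule.span F (Set.range fun i : Fin G.natDegree =>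
      (A ^ (i : ℕ)) v)) → aeval A G v = 0 → G.coeff 0 = 1 → Dec A (kt f3 f2 f1) (kt g3 g2 g1) := by
    intro v G hGm hGd hs h0 hG0
    obtain ⟨a, b, Y, ha, hb, hY, heq⟩ := hc.cyc (-G.coeff 3)
    rw [hGd] at hs
    refine cyc_sc (k := 2) hV A (v := v) hGm hGd hs h0 hfm hfi hfd hgm hgi hgd
      (by rw [hG0, hf0, hg0]; norm_num) ha hb hY ?_
    rw [hG b hb, hf3, hf0]
    push_cast
    linear_combination heq
  rcases dich A with ⟨q, hq, hqi, hq3, hqk⟩ | ⟨v1, v2, e1, e2, he1, he2, hle, hsum, hs, ha1, ha2, hd⟩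
  · have hq1 : q.natDegree = 1 := by
      have := hqi.natDegree_pos
      omega
    obtain ⟨c, hcq⟩ : ∃ c, q = X - C c := ⟨-q.coeff 0, by
      rw [C_neg, sub_neg_eq_add]
      exact hq.eq_X_add_C hq1⟩
    exact rk c ((by norm_num : 2 ≤ 3).trans (hqk c hcq))
  · have hdet' : e1.coeff 0 * e2.coeff 0 = 1 := by
      rw [hsum, hV, hdet] at hd
      linear_combination -hd
    have hcase : e1.natDegree = 0 ∨ e1.natDegree = 1 ∨ e1.natDegree = 2 := by omega
    have h10 : e1.coeff 0 ≠ 0 := by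
      intro h
      rw [h, zero_mul] at hdet'
      exact one_ne_zero hdet'.symm
    rcases hcase with h | h | h
    · have h2 : e2.natDegree = 4 := by omega
      have hg1' : e1 = 1 := he1.natDegree_eq_zero.1 h
      rw [h] at hs
      rw [hg1', coeff_one_zero, one_mul] at hdet'
      refine cy v2 e2 he2 h2 (hs.trans (Submodule.span_mono ?_)) ha2 hdet'
      refine Set.union_subset ?_ ?_
      · rintro _ ⟨i, rfl⟩; exact i.elim0
      · rintro _ ⟨i, rfl⟩; exact ⟨i, rfl⟩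
    · have h2 : e2.natDegree = 3 := by omega
      rw [h, h2] at hs
      obtain ⟨a, b, Y, ha, hb, hY, hYk, heq⟩ := hc.one (-e1.coeff 0) (-e2.coeff 2) (neg_ne_zero.2 h10)
      refine two_sc (ρ := 0) (σ := 0) hV A (v := v2) (w := v1) he2 h2 he1 h hs ha2 ha1 hfm hfi hfd hgm hgi hgd h10
        (by rw [hdet', hf0, hg0]; norm_num) ha hb hY ?_ ?_ ?_
      · intro h5
        apply mul_ne_zero (mul_ne_zero ha hb) (neg_ne_zero.2 h10)
        push_cast at h5
        linear_combination h5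
      · intro h5
        apply hYk
        rw [h5]
        push_cast
        ring
      · rw [hG b hb, hf0]
        change _ * (Y * (_ + a * (kt f3 f2 f1).coeff 3 - _ - _)) = _
        rw [hf3]
        push_cast
        linear_combination heq
    · have h2 : e2.natDegree = 2 := by omega
      have q1 := quad_form he1 h
      have q2 := quad_form he2 h2
      have hs4 : ⊤ ≤ Submodule.span F (Set.range ![v1, A v1, v2, A v2]) := by
        rw [h, h2] at hs
        refine hs.trans (Submodule.span_mono (Set.union_subset ?_ ?_))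
        · rintro _ ⟨i, rfl⟩
          fin_cases i
          · exact ⟨0, by simp⟩
          · exact ⟨1, by simp⟩
        · rintro _ ⟨i, rfl⟩
          fin_cases i
          · exact ⟨2, by simp⟩
          · exact ⟨3, by simp⟩
      have ex : ∀ (e : F[X]) (v : V), e = X ^ 2 + C (e.coeff 1) * X + C (e.coeff 0) → aeval A e v = 0 →
          A (A v) + e.coeff 1 • A v + e.coeff 0 • v = 0 := by
        intro e v he h6
        rw [he] at h6
        simpa only [map_add, map_mul, map_pow, aeval_X, aeval_C, LinearMap.add_apply, Module.End.mul_apply,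
          Algebra.algebraMap_eq_smul_one, LinearMap.smul_apply, Module.End.one_apply, pow_two] using h6
      by_cases hr : ∃ k, e1.IsRoot k ∧ e2.IsRoot k
      · -- a common root
        obtain ⟨k, hk1, hk2⟩ := hr
        refine rk k ?_
        have w1 := ex e1 v1 q1 ha1
        have w2 := ex e2 v2 q2 ha2
        rw [IsRoot.def, q1] at hk1
        rw [IsRoot.def, q2] at hk2
        simp only [eval_add, eval_pow, eval_X, eval_mul, eval_C] at hk1 hk2
        refine two_le_ker hV (c1 := e1.coeff 1 + k) (c2 := e2.coeff 1 + k) ?_ ?_ hs4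
        · rw [map_add, map_smul, ← sub_eq_zero, ← w1]
          have : e1.coeff 0 = -(k ^ 2 + e1.coeff 1 * k) := by linear_combination hk1
          rw [this]
          module
        · rw [map_add, map_smul, ← sub_eq_zero, ← w2]
          have : e2.coeff 0 = -(k ^ 2 + e2.coeff 1 * k) := by linear_combination hk2
          rw [this]
          module
      by_cases hee : e1 = e2
      · subst hee
        refine two_eq hV (v1 := v1) (v2 := v2) (t := -e1.coeff 1) (d := e1.coeff 0) ?_ ?_ ?_ hfi hgi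
          (hc.two _ _ (by rw [sq]; exact hdet') ?_)
        · rw [← sub_eq_zero, ← ex e1 v1 q1 ha1]
          module
        · rw [← sub_eq_zero, ← ex e1 v2 q1 ha2]
          module
        · exact hs4
        · intro x hx
          apply hr
          refine ⟨x, ?_, ?_⟩ <;>
          · rw [IsRoot.def, q1]
            simp only [eval_add, eval_pow, eval_X, eval_mul, eval_C]
            linear_combination hx
      · -- coprime
        have hco : IsCoprime e1 e2 := coprime_of he1 he2 h h2 hee hr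
        obtain ⟨s1, s2⟩ := cyc_of_coprime he1 he2 hco ha1 ha2 hs
        exact cy (v1 + v2) (e1 * e2) (he1.mul he2) (by rw [he1.natDegree_mul he2, h, h2]) s1 s2
          (by rw [mul_coeff_zero]; exact hdet')

end Cfsg.Agent.H46.TL
end

-- part: H46/TL/SL
section
/-!
# From `Dec` to conjugates in `SL_n(F)`
-/

set_option autoImplicit false

namespace Cfsg.Agent.H46.TL

open Polynomial Cfsg.Agent.H962.PP Module Matrix Cfsg.Agent.H27.Psl

universe u v

variable {F : Type u} [Field F]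

/-- an endomorphism with irreducible characteristic polynomial is irreducible -/
theorem irr_of_charpoly {V : Type v} [AddCommGroup V] [Module F V] [FiniteDimensional F V] {T : Module.End F V}
    (h : Irreducible (LinearMap.charpoly T)) : Irr T := by
  intro U hU
  by_cases hb : U = ⊥
  · exact Or.inl hb
  right
  obtain ⟨v, hvU, hv⟩ := (Submodule.ne_bot_iff U).1 hb
  have : Fact (Irreducible (LinearMap.charpoly T)) := ⟨h⟩
  have h0 := LinearMap.aeval_self_charpoly T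
  have hinj := phi_injective T h0 hv
  have : FiniteDimensional F (AdjoinRoot (LinearMap.charpoly T)) := (AdjoinRoot.powerBasis h.ne_zero).finite
  have hfr : finrank F (AdjoinRoot (LinearMap.charpoly T)) = finrank F V := by
    rw [(AdjoinRoot.powerBasis h.ne_zero).finrank, ← LinearMap.charpoly_natDegree T]
    rfl
  have hsurj := (LinearMap.injective_iff_surjective_of_finrank_eq_finrank hfr).1 hinj
  rw [eq_top_iff]
  rintro w -
  obtain ⟨e, rfl⟩ := hsurj w
  obtain ⟨p, rfl⟩ := AdjoinRoot.mk_surjective e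
  rw [phi_apply, rho_mk]
  have hpow : ∀ i : ℕ, (T ^ i) v ∈ U := by
    intro i
    induction i with
    | zero => simpa using hvU
    | succ i ih => rw [pow_succ', Module.End.mul_apply]; exact hU _ ih
  rw [aeval_eq_sum_range, LinearMap.sum_apply]
  exact Submodule.sum_mem _ fun i _ => by rw [LinearMap.smul_apply]; exact Submodule.smul_mem _ _ (hpow i)

theorem charpoly_toLin' {n : ℕ} (M : Matrix (Fin n) (Fin n) F) : LinearMap.charpoly (Matrix.toLin' M) = M.charpoly := by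
  rw [← LinearMap.charpoly_toMatrix (Matrix.toLin' M) (Pi.basisFun F (Fin n)), LinearMap.toMatrix_eq_toMatrix',
    LinearMap.toMatrix'_toLin']

/-- conjugate in `SL_n(F)` -/
theorem sl_conj [Finite F] {n : ℕ} {c : _root_.Matrix.SpecialLinearGroup (Fin n) F} {M : Matrix (Fin n) (Fin n) F}
    (hi : Irreducible (c : Matrix (Fin n) (Fin n) F).charpoly)
    (h : M.charpoly = (c : Matrix (Fin n) (Fin n) F).charpoly) :
    ∃ g : _root_.Matrix.SpecialLinearGroup (Fin n) F, M = g.1 * c.1 * g⁻¹.1 := by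
  obtain ⟨A, hA⟩ : ∃ A : Module.End F (Fin n → F), A = Matrix.toLin' (c : Matrix (Fin n) (Fin n) F) := ⟨_, rfl⟩
  obtain ⟨B, hB⟩ : ∃ B : Module.End F (Fin n → F), B = Matrix.toLin' M := ⟨_, rfl⟩
  have hAc : LinearMap.charpoly A = (c : Matrix (Fin n) (Fin n) F).charpoly := by rw [hA, charpoly_toLin']
  have hBc : LinearMap.charpoly B = (c : Matrix (Fin n) (Fin n) F).charpoly := by rw [hB, charpoly_toLin', h]
  have hirr : Irr A := irr_of_charpoly (by rw [hAc]; exact hi)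
  have hn : 0 < finrank F (Fin n → F) := by
    rw [← LinearMap.charpoly_natDegree A, hAc]; exact hi.natDegree_pos
  have : Nontrivial (Fin n → F) := Module.finrank_pos_iff.1 hn
  have hmp : minpoly F A = LinearMap.charpoly A := by
    refine eq_of_monic_of_associated (minpoly.monic (Algebra.IsIntegral.isIntegral A)) (LinearMap.charpoly_monic A) ?_
    exact (hirr.irreducible.associated_of_dvd (by rw [hAc]; exact hi) (LinearMap.minpoly_dvd_charpoly A))
  obtain ⟨g, hg, hgw⟩ := hirr.exists_equiv_det (B := B) (by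
    rw [hmp, hAc, ← hBc]; exact LinearMap.aeval_self_charpoly B)
  have hdet : (LinearMap.toMatrix' (g : (Fin n → F) →ₗ[F] (Fin n → F))).det = 1 := by
    rw [LinearMap.det_toMatrix', hg]
  obtain ⟨P, hP⟩ : ∃ P : _root_.Matrix.SpecialLinearGroup (Fin n) F, (P : Matrix (Fin n) (Fin n) F) =
    LinearMap.toMatrix' (g : (Fin n → F) →ₗ[F] (Fin n → F)) := ⟨⟨_, hdet⟩, rfl⟩
  refine ⟨P, ?_⟩
  have e1 : (P : Matrix (Fin n) (Fin n) F) * (c : Matrix (Fin n) (Fin n) F) = M * (P : Matrix (Fin n) (Fin n) F) := by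
    apply Matrix.toLin'.injective
    rw [Matrix.toLin'_mul, Matrix.toLin'_mul, hP, Matrix.toLin'_toMatrix', ← hA, ← hB]
    exact LinearMap.ext fun w => hgw w
  have e2 : P.1 * P⁻¹.1 = 1 := congrArg Subtype.val (mul_inv_cancel P)
  change M = (P : Matrix (Fin n) (Fin n) F) * (c : Matrix (Fin n) (Fin n) F) * P⁻¹.1
  rw [e1, Matrix.mul_assoc, e2, Matrix.mul_one]

theorem charpoly_toMatrix'' {n : ℕ} (T : Module.End F (Fin n → F)) :
    (LinearMap.toMatrix' T).charpoly = LinearMap.charpoly T := by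
  rw [← LinearMap.toMatrix_eq_toMatrix', LinearMap.charpoly_toMatrix]

/-- every nonscalar element is a product of a conjugate of `c` and a conjugate of `d` -/
def TLC (n : ℕ) (K : Type u) [Field K] (c d : _root_.Matrix.SpecialLinearGroup (Fin n) K) : Prop :=
  ∀ A : _root_.Matrix.SpecialLinearGroup (Fin n) K, (∀ a : K, (A : Matrix (Fin n) (Fin n) K) ≠ a • (1 : Matrix (Fin n) (Fin n) K)) →
    ∃ g h : _root_.Matrix.SpecialLinearGroup (Fin n) K, A = (g * c * g⁻¹) * (h * d * h⁻¹)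

theorem tlc_of [Finite F] {n : ℕ} {c d : _root_.Matrix.SpecialLinearGroup (Fin n) F}
    (hc : Irreducible (c : Matrix (Fin n) (Fin n) F).charpoly) (hd : Irreducible (d : Matrix (Fin n) (Fin n) F).charpoly)
    (h : ∀ A : Module.End F (Fin n → F), LinearMap.det A = 1 → (∀ a : F, A ≠ a • 1) →
      Dec A (d : Matrix (Fin n) (Fin n) F).charpoly (c : Matrix (Fin n) (Fin n) F).charpoly) : TLC n F c d := by
  intro A hA
  obtain ⟨X, Y, hYX, hX, hY⟩ := h (Matrix.toLin' (A : Matrix (Fin n) (Fin n) F)) (by rw [LinearMap.det_toLin', A.2]) (by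
    intro a ha
    apply hA a
    have h1 := congrArg LinearMap.toMatrix' ha
    rw [LinearMap.toMatrix'_toLin', map_smul] at h1
    rw [h1]
    congr 1
    exact LinearMap.toMatrix'_one)
  obtain ⟨g, hg⟩ := sl_conj (M := LinearMap.toMatrix' Y) hc (by rw [charpoly_toMatrix'', hY])
  obtain ⟨k, hk⟩ := sl_conj (M := LinearMap.toMatrix' X) hd (by rw [charpoly_toMatrix'', hX])
  refine ⟨g, k, Subtype.ext ?_⟩
  change A.1 = (g.1 * c.1 * g⁻¹.1) * (k.1 * d.1 * k⁻¹.1)
  rw [← hg, ← hk, ← LinearMap.toMatrix'_mul, hYX, LinearMap.toMatrix'_toLin']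

end Cfsg.Agent.H46.TL
end

-- part: H46/TL/Irr
section
/-!
# Irreducibility checks in degrees 4 and 5
-/

set_option autoImplicit false
set_option linter.unusedSimpArgs false

namespace Cfsg.Agent.H46.TL

open Polynomial Cfsg.Agent.H962.PP Module

universe u

variable {F : Type u} [Field F]

theorem cub_form {e : F[X]} (he : e.Monic) (hd : e.natDegree = 3) :
    e = X ^ 3 + C (e.coeff 2) * X ^ 2 + C (e.coeff 1) * X + C (e.coeff 0) := by
  conv_lhs => rw [e.as_sum_range_C_mul_X_pow, hd, Finset.sum_range_succ, Finset.sum_range_succ, Finset.sum_range_succ,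
    Finset.sum_range_succ, Finset.sum_range_zero]
  have h1 : e.coeff 3 = 1 := by rw [← hd]; exact he.coeff_natDegree
  rw [h1]
  simp only [map_one, pow_zero, mul_one, zero_add, pow_one, one_mul]
  ring

theorem gk_coeff (a b c d : F) : (X ^ 4 + C a * X ^ 3 + C b * X ^ 2 + C c * X + C d).coeff 3 = a ∧
    (X ^ 4 + C a * X ^ 3 + C b * X ^ 2 + C c * X + C d).coeff 2 = b ∧
    (X ^ 4 + C a * X ^ 3 + C b * X ^ 2 + C c * X + C d).coeff 1 = c ∧
    (X ^ 4 + C a * X ^ 3 + C b * X ^ 2 + C c * X + C d).coeff 0 = d := by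
  refine ⟨?_, ?_, ?_, ?_⟩ <;> simp [coeff_X, coeff_one, coeff_C]

theorem kt_irr {a b c : F} (h1 : ∀ x : F, x ^ 4 + a * x ^ 3 + b * x ^ 2 + c * x + 1 ≠ 0)
    (h2 : ∀ p q : F, ¬ (p * (b - q - p * (a - p)) + q * (a - p) = c ∧ q * (b - q - p * (a - p)) = 1)) :
    Irreducible (kt a b c) := by
  have hm := kt_monic a b c
  have hd := kt_natDegree a b c
  rw [hm.irreducible_iff_lt_natDegree_lt (by intro h; rw [h, natDegree_one] at hd; norm_num at hd)]
  intro q hq hqd hqf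
  rw [Finset.mem_Ioc, hd] at hqd
  rcases (show q.natDegree = 1 ∨ q.natDegree = 2 by omega) with h | h
  · obtain ⟨k, hk⟩ := exists_root_of_degree_eq_one (degree_eq_iff_natDegree_eq_of_pos (by norm_num) |>.2 h)
    have h3 := hk.dvd hqf
    rw [IsRoot.def, kt_eval] at h3
    exact h1 k h3
  · obtain ⟨r, hr⟩ := hqf
    have hrm : r.Monic := hq.of_mul_monic_left (by rw [← hr]; exact hm)
    have hrd : r.natDegree = 2 := by
      have := hq.natDegree_mul hrm
      rw [← hr, hd, h] at this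
      omega
    have q1 := quad_form hq h
    have q2 := quad_form hrm hrd
    obtain ⟨k3, k2, k1, k0⟩ := kt_coeff a b c
    have e1 : kt a b c = X ^ 4 + C (q.coeff 1 + r.coeff 1) * X ^ 3 + C (q.coeff 0 + q.coeff 1 * r.coeff 1 + r.coeff 0) * X ^ 2 +
        C (q.coeff 1 * r.coeff 0 + q.coeff 0 * r.coeff 1) * X + C (q.coeff 0 * r.coeff 0) := by
      conv_lhs => rw [hr, q1, q2]
      simp only [C_add, C_mul]
      ring
    obtain ⟨m3, m2, m1, m0⟩ := gk_coeff (q.coeff 1 + r.coeff 1) (q.coeff 0 + q.coeff 1 * r.coeff 1 + r.coeff 0)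
      (q.coeff 1 * r.coeff 0 + q.coeff 0 * r.coeff 1) (q.coeff 0 * r.coeff 0)
    rw [e1] at k3 k2 k1 k0
    rw [m3] at k3
    rw [m2] at k2
    rw [m1] at k1
    rw [m0] at k0
    apply h2 (q.coeff 1) (q.coeff 0)
    have hr1 : a - q.coeff 1 = r.coeff 1 := by rw [← k3]; ring
    rw [hr1]
    have hr0 : b - q.coeff 0 - q.coeff 1 * r.coeff 1 = r.coeff 0 := by rw [← k2]; ring
    rw [hr0]
    exact ⟨k1, k0⟩

theorem qt_irr {a b c d : F} (h1 : ∀ x : F, x ^ 5 + a * x ^ 4 + b * x ^ 3 + c * x ^ 2 + d * x + -1 ≠ 0)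
    (h2 : ∀ p q : F, ¬ (p * (c - q * (a - p) - p * (b - q - p * (a - p))) + q * (b - q - p * (a - p)) = d ∧
      q * (c - q * (a - p) - p * (b - q - p * (a - p))) = -1)) :
    Irreducible (qt a b c d (-1)) := by
  have hm := qt_monic a b c d (-1)
  have hd := qt_natDegree a b c d (-1)
  rw [hm.irreducible_iff_lt_natDegree_lt (by intro h; rw [h, natDegree_one] at hd; norm_num at hd)]
  intro q hq hqd hqf
  rw [Finset.mem_Ioc, hd] at hqd
  rcases (show q.natDegree = 1 ∨ q.natDegree = 2 by omega) with h | h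
  · obtain ⟨k, hk⟩ := exists_root_of_degree_eq_one (degree_eq_iff_natDegree_eq_of_pos (by norm_num) |>.2 h)
    have h3 := hk.dvd hqf
    rw [IsRoot.def, qt_eval] at h3
    exact h1 k h3
  · obtain ⟨r, hr⟩ := hqf
    have hrm : r.Monic := hq.of_mul_monic_left (by rw [← hr]; exact hm)
    have hrd : r.natDegree = 3 := by
      have := hq.natDegree_mul hrm
      rw [← hr, hd, h] at this
      omega
    have q1 := quad_form hq h
    have q2 := cub_form hrm hrd
    have k4 := qt_four a b c d (-1)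
    have k0 := qt_zero a b c d (-1)
    obtain ⟨k3, k2, k1⟩ := qt_coeff a b c d (-1)
    have e1 : qt a b c d (-1) = X ^ 5 + C (q.coeff 1 + r.coeff 2) * X ^ 4 +
        C (q.coeff 0 + q.coeff 1 * r.coeff 2 + r.coeff 1) * X ^ 3 +
        C (q.coeff 0 * r.coeff 2 + q.coeff 1 * r.coeff 1 + r.coeff 0) * X ^ 2 +
        C (q.coeff 1 * r.coeff 0 + q.coeff 0 * r.coeff 1) * X + C (q.coeff 0 * r.coeff 0) := by
      conv_lhs => rw [hr, q1, q2]
      simp only [C_add, C_mul]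
      ring
    have m4 := qt_four (q.coeff 1 + r.coeff 2) (q.coeff 0 + q.coeff 1 * r.coeff 2 + r.coeff 1)
      (q.coeff 0 * r.coeff 2 + q.coeff 1 * r.coeff 1 + r.coeff 0)
      (q.coeff 1 * r.coeff 0 + q.coeff 0 * r.coeff 1) (q.coeff 0 * r.coeff 0)
    have m0 := qt_zero (q.coeff 1 + r.coeff 2) (q.coeff 0 + q.coeff 1 * r.coeff 2 + r.coeff 1)
      (q.coeff 0 * r.coeff 2 + q.coeff 1 * r.coeff 1 + r.coeff 0)
      (q.coeff 1 * r.coeff 0 + q.coeff 0 * r.coeff 1) (q.coeff 0 * r.coeff 0)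
    obtain ⟨m3, m2, m1⟩ := qt_coeff (q.coeff 1 + r.coeff 2) (q.coeff 0 + q.coeff 1 * r.coeff 2 + r.coeff 1)
      (q.coeff 0 * r.coeff 2 + q.coeff 1 * r.coeff 1 + r.coeff 0)
      (q.coeff 1 * r.coeff 0 + q.coeff 0 * r.coeff 1) (q.coeff 0 * r.coeff 0)
    rw [qt] at m4 m3 m2 m1 m0
    rw [e1] at k4 k3 k2 k1 k0
    rw [m4] at k4
    rw [m3] at k3
    rw [m2] at k2
    rw [m1] at k1
    rw [m0] at k0
    apply h2 (q.coeff 1) (q.coeff 0)
    have hr2 : a - q.coeff 1 = r.coeff 2 := by rw [← k4]; ring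
    rw [hr2]
    have hr1 : b - q.coeff 0 - q.coeff 1 * r.coeff 2 = r.coeff 1 := by rw [← k3]; ring
    rw [hr1]
    have hr0 : c - q.coeff 0 * r.coeff 2 - q.coeff 1 * r.coeff 1 = r.coeff 0 := by rw [← k2]; ring
    rw [hr0]
    exact ⟨k1, k0⟩

end Cfsg.Agent.H46.TL
end

-- part: H46/TL/Ord
section
/-!
# Orders, companion matrices, change of the field
-/

set_option autoImplicit false

namespace Cfsg.Agent.H46.TL

open Polynomial Cfsg.Agent.H962.PP Module Matrix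

universe u v

theorem dvd_pow_norm {K : Type u} [Field K] [Finite K] {f : K[X]} (hfi : Irreducible f) (hfm : f.Monic)
    (h0 : (-1) ^ f.natDegree * f.coeff 0 = 1) :
    f ∣ X ^ ((Nat.card K ^ f.natDegree - 1) / (Nat.card K - 1)) - 1 := by
  have : Fact (Irreducible f) := ⟨hfi⟩
  have hfin : Module.Finite K (AdjoinRoot f) := (AdjoinRoot.powerBasis hfi.ne_zero).finite
  have : Finite (AdjoinRoot f) := Module.finite_of_finite K
  have hcard : Nat.card (AdjoinRoot f) = Nat.card K ^ f.natDegree := by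
    rw [Module.natCard_eq_pow_finrank (K := K), (AdjoinRoot.powerBasis hfi.ne_zero).finrank]
    rfl
  have h1 := FiniteField.algebraMap_norm_eq_pow (K := K) (K' := AdjoinRoot f) (x := AdjoinRoot.root f)
  have h2 : Algebra.norm K (AdjoinRoot.root f) = 1 := by
    have h3 := Algebra.PowerBasis.norm_gen_eq_coeff_zero_minpoly (AdjoinRoot.powerBasis hfi.ne_zero)
    rw [AdjoinRoot.minpoly_powerBasis_gen_of_monic hfm] at h3
    exact h3.trans h0
  rw [h2, map_one, hcard] at h1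
  rw [← AdjoinRoot.mk_eq_zero, map_sub, map_pow, AdjoinRoot.mk_X, ← h1, map_one, sub_self]

theorem sl_pow {K : Type u} [Field K] {n r : ℕ} {c : _root_.Matrix.SpecialLinearGroup (Fin n) K}
    (h : (c : Matrix (Fin n) (Fin n) K).charpoly ∣ X ^ r - 1) : c ^ r = 1 := by
  obtain ⟨g, hg⟩ := h
  have h1 : aeval (c : Matrix (Fin n) (Fin n) K) (X ^ r - 1 : K[X]) = 0 := by
    rw [hg, map_mul, Matrix.aeval_self_charpoly, zero_mul]
  rw [map_sub, map_pow, aeval_X, map_one, sub_eq_zero] at h1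
  exact Subtype.ext ((Matrix.SpecialLinearGroup.coe_pow c r).trans (h1.trans Matrix.SpecialLinearGroup.coe_one.symm))

theorem exists_sl {K : Type u} [Field K] {n : ℕ} {f : K[X]} (hfm : f.Monic) (hfd : f.natDegree = n)
    (h0 : (-1) ^ n * f.coeff 0 = 1) :
    ∃ c : _root_.Matrix.SpecialLinearGroup (Fin n) K, (c : Matrix (Fin n) (Fin n) K).charpoly = f := by
  have h1 := H953.charpoly_comp hfm
  obtain ⟨M, hM⟩ : ∃ M : Matrix (Fin n) (Fin n) K, M.charpoly = f :=
    ⟨(H953.comp f).submatrix (finCongr hfd.symm) (finCongr hfd.symm),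
      (Matrix.charpoly_reindex (finCongr hfd) (H953.comp f)).trans h1⟩
  refine ⟨⟨M, ?_⟩, hM⟩
  rw [Matrix.det_eq_sign_charpoly_coeff, hM, Fintype.card_fin, h0]

/-- the data needed for `E₈(q)` -/
structure Pr (n : ℕ) (K : Type u) [Field K] (c d : _root_.Matrix.SpecialLinearGroup (Fin n) K) : Prop where
  irrc : Irreducible (c : Matrix (Fin n) (Fin n) K).charpoly
  irrd : Irreducible (d : Matrix (Fin n) (Fin n) K).charpoly
  ordc : (orderOf c).Coprime 6
  ordd : (orderOf d).Coprime 6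
  tlc : TLC n K c d

theorem cop_of_pow {G : Type u} [Group G] {x : G} {r : ℕ} (h : x ^ r = 1) (hr : r.Coprime 6) : (orderOf x).Coprime 6 :=
  Nat.Coprime.coprime_dvd_left (orderOf_dvd_of_pow_eq_one h) hr

/-- change of the field -/
theorem Pr.map {K : Type u} {L : Type v} [Field K] [Field L] (e : K ≃+* L) {n : ℕ} {c d : _root_.Matrix.SpecialLinearGroup (Fin n) K}
    (h : Pr n K c d) : Pr n L (SpecialLinearGroup.map e.toRingHom c) (SpecialLinearGroup.map e.toRingHom d) := by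
  have hinj : Function.Injective (SpecialLinearGroup.map (n := Fin n) e.toRingHom) := by
    intro x y hxy
    apply Subtype.ext
    ext i j
    apply e.injective
    have h1 := congrArg (fun z : _root_.Matrix.SpecialLinearGroup (Fin n) L => (z : Matrix (Fin n) (Fin n) L) i j) hxy
    exact h1
  have hch : ∀ z : _root_.Matrix.SpecialLinearGroup (Fin n) K, Irreducible (z : Matrix (Fin n) (Fin n) K).charpoly →
      Irreducible ((SpecialLinearGroup.map e.toRingHom z : _root_.Matrix.SpecialLinearGroup (Fin n) L) :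
        Matrix (Fin n) (Fin n) L).charpoly := by
    intro z hz
    have h1 : ((SpecialLinearGroup.map e.toRingHom z : _root_.Matrix.SpecialLinearGroup (Fin n) L) :
        Matrix (Fin n) (Fin n) L).charpoly = (Polynomial.mapEquiv e) (z : Matrix (Fin n) (Fin n) K).charpoly := by
      rw [Polynomial.mapEquiv_apply, ← Matrix.charpoly_map]
      rfl
    rw [h1]
    exact (MulEquiv.irreducible_iff (Polynomial.mapEquiv e)).2 hz
  refine ⟨hch c h.irrc, hch d h.irrd, by rw [orderOf_injective _ hinj]; exact h.ordc,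
    by rw [orderOf_injective _ hinj]; exact h.ordd, ?_⟩
  intro A hA
  obtain ⟨B, hB⟩ : ∃ B : _root_.Matrix.SpecialLinearGroup (Fin n) K, SpecialLinearGroup.map e.toRingHom B = A := by
    refine ⟨SpecialLinearGroup.map e.symm.toRingHom A, ?_⟩
    apply Subtype.ext
    ext i j
    exact e.apply_symm_apply _
  obtain ⟨g, k, hgk⟩ := h.tlc B (by
    intro a ha
    apply hA (e a)
    rw [← hB]
    ext i j
    have h1 := congrArg (fun M : Matrix (Fin n) (Fin n) K => e (M i j)) ha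
    change e ((B : Matrix (Fin n) (Fin n) K) i j) = _
    refine h1.trans ?_
    simp only [Matrix.smul_apply, smul_eq_mul, map_mul, Matrix.one_apply]
    split_ifs <;> simp)
  exact ⟨SpecialLinearGroup.map e.toRingHom g, SpecialLinearGroup.map e.toRingHom k, by
    rw [← hB, hgk]; simp only [map_mul, map_inv]⟩

/-- the characteristic polynomial of an explicit 4 x 4 matrix -/
theorem charM4 {K : Type u} [Field K] {M : Matrix (Fin 4) (Fin 4) K} {p q r : K} (hi : Irreducible (kt p q r))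
    (hM : ∀ j, (M ^ 4 + p • M ^ 3 + q • M ^ 2 + r • M + 1 : Matrix (Fin 4) (Fin 4) K) j 0 = 0) :
    M.charpoly = kt p q r := by
  rw [← charpoly_toLin']
  refine charpoly_of_kill _ (kt_monic ..) hi ((kt_natDegree ..).trans (by simp)) (v := Pi.single 0 1) (by
    intro h
    have := congrFun h 0
    simp at this) ?_
  have e1 : aeval (Matrix.toLin' M) (kt p q r) = Matrix.toLinAlgEquiv' (M ^ 4 + p • M ^ 3 + q • M ^ 2 + r • M + 1) := by
    rw [kt]
    change aeval (Matrix.toLinAlgEquiv' M) _ = _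
    simp only [map_add, map_mul, map_pow, aeval_X, aeval_C, map_one, Algebra.smul_def, AlgEquiv.commutes]
  rw [e1, Matrix.toLinAlgEquiv'_apply, Matrix.mulVec_single_one]
  ext j
  exact hM j

theorem five_pr {K : Type u} [Field K] [Finite K] {f4 f3 f2 f1 g4 g3 g2 g1 : K} (hc : Chk5 K f4 f3 f2 f1 g4 g3 g2 g1)
    (hfi : Irreducible (qt f4 f3 f2 f1 (-1))) (hgi : Irreducible (qt g4 g3 g2 g1 (-1))) {q N : ℕ} (hq : Nat.card K = q)
    (hN : (q ^ 5 - 1) / (q - 1) = N) (h6 : N.Coprime 6) : ∃ c d : _root_.Matrix.SpecialLinearGroup (Fin 5) K, Pr 5 K c d := by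
  have hgm := qt_monic g4 g3 g2 g1 (-1)
  have hfm := qt_monic f4 f3 f2 f1 (-1)
  have hgd := qt_natDegree g4 g3 g2 g1 (-1)
  have hfd := qt_natDegree f4 f3 f2 f1 (-1)
  have hg0 := qt_zero g4 g3 g2 g1 (-1)
  have hf0 := qt_zero f4 f3 f2 f1 (-1)
  obtain ⟨c, hcc⟩ := exists_sl hgm hgd (by rw [hg0]; norm_num)
  obtain ⟨d, hdc⟩ := exists_sl hfm hfd (by rw [hf0]; norm_num)
  have k1 := dvd_pow_norm hgi hgm (by rw [hgd, hg0]; norm_num)
  have k2 := dvd_pow_norm hfi hfm (by rw [hfd, hf0]; norm_num)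
  rw [hgd, hq, hN] at k1
  rw [hfd, hq, hN] at k2
  refine ⟨c, d, by rw [hcc]; exact hgi, by rw [hdc]; exact hfi, cop_of_pow (sl_pow (by rw [hcc]; exact k1)) h6,
    cop_of_pow (sl_pow (by rw [hdc]; exact k2)) h6, tlc_of (by rw [hcc]; exact hgi) (by rw [hdc]; exact hfi) ?_⟩
  intro A hA hns
  rw [hcc, hdc]
  exact five_dec hc hfi hgi (by simp) A hA hns

theorem four_pr {K : Type u} [Field K] [Finite K] {f3 f2 f1 g3 g2 g1 : K} (hc : Chk4 K f3 f2 f1 g3 g2 g1)
    (hfi : Irreducible (kt f3 f2 f1)) (hgi : Irreducible (kt g3 g2 g1)) (hK : 3 ≤ Nat.card K)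
    {M N : Matrix (Fin 4) (Fin 4) K}
    (hM : ∀ j, (M ^ 4 + f3 • M ^ 3 + f2 • M ^ 2 + f1 • M + 1 : Matrix (Fin 4) (Fin 4) K) j 0 = 0)
    (hN : ∀ j, (N ^ 4 + g3 • N ^ 3 + g2 • N ^ 2 + g1 • N + 1 : Matrix (Fin 4) (Fin 4) K) j 0 = 0) {r s : ℕ}
    (hr : M ^ r = 1) (hs : N ^ s = 1) (hr6 : r.Coprime 6) (hs6 : s.Coprime 6) :
    ∃ c d : _root_.Matrix.SpecialLinearGroup (Fin 4) K, Pr 4 K c d := by
  have hMc := charM4 hfi hM
  have hNc := charM4 hgi hN
  obtain ⟨c, hcc⟩ : ∃ c : _root_.Matrix.SpecialLinearGroup (Fin 4) K, (c : Matrix (Fin 4) (Fin 4) K) = N :=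
    ⟨⟨N, by rw [Matrix.det_eq_sign_charpoly_coeff, hNc, (kt_coeff ..).2.2.2, Fintype.card_fin]; norm_num⟩, rfl⟩
  obtain ⟨d, hdc⟩ : ∃ d : _root_.Matrix.SpecialLinearGroup (Fin 4) K, (d : Matrix (Fin 4) (Fin 4) K) = M :=
    ⟨⟨M, by rw [Matrix.det_eq_sign_charpoly_coeff, hMc, (kt_coeff ..).2.2.2, Fintype.card_fin]; norm_num⟩, rfl⟩
  have hcs : c ^ s = 1 := Subtype.ext ((Matrix.SpecialLinearGroup.coe_pow c s).trans (by rw [hcc, hs]; rfl))
  have hdr : d ^ r = 1 := Subtype.ext ((Matrix.SpecialLinearGroup.coe_pow d r).trans (by rw [hdc, hr]; rfl))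
  refine ⟨c, d, by rw [hcc, hNc]; exact hgi, by rw [hdc, hMc]; exact hfi, cop_of_pow hcs hs6, cop_of_pow hdr hr6,
    tlc_of (by rw [hcc, hNc]; exact hgi) (by rw [hdc, hMc]; exact hfi) ?_⟩
  intro A hA hns
  rw [hcc, hdc, hNc, hMc]
  exact four_dec hK hc hfi hgi (by simp) A hA hns

end Cfsg.Agent.H46.TL
end

private theorem dce_71449f114a2c : _root_.True := by
  try have : _root_.True := by simp only [_root_.Cfsg.Agent.H46.TL.G5.eq_1]
  try have : _root_.True := by simp only [_root_.Cfsg.Agent.H46.TL.kt.eq_1]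
  try have : _root_.True := by simp only [_root_.Cfsg.Agent.H46.TL.BB.eq_1]
  try have : _root_.True := by simp only [_root_.Cfsg.Agent.H46.TL.G4.eq_1]
  exact _root_.True.intro
end

-- part: H122/SX/EThreeA_mg
section
set_option linter.all false
open scoped Cfsg.Agent.FastGrp

-- part: H122/SX/CornerD
section
/-!
# Corners of matrices of determinant `-1` (helper122, S2464, `E_8(3)`)

* `Dg` : conjugation by a diagonal sign matrix;
* `exists_cornerD` : the twisted form of `Cor.exists_corner`.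
-/

set_option autoImplicit false

namespace Cfsg.Agent.H122.SX.CD

open Matrix Cfsg.Agent.H122.Pw.Cor

variable {K : Type*} [Field K]

/-- conjugation by a diagonal matrix of order two -/
def Dg {ι : Type*} [Fintype ι] [DecidableEq ι] (σ : ι → K) (hσ : ∀ i, σ i * σ i = 1) :
    SpecialLinearGroup ι K →* SpecialLinearGroup ι K where
  toFun A := ⟨diagonal σ * A.1 * diagonal σ, by
    have h1 : (diagonal σ).det * (diagonal σ).det = 1 := by
      rw [← det_mul, diagonal_mul_diagonal]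
      simp only [hσ]
      rw [diagonal_one, det_one]
    rw [det_mul, det_mul, A.2, mul_one, h1]⟩
  map_one' := by
    apply Subtype.ext
    change diagonal σ * 1 * diagonal σ = 1
    rw [Matrix.mul_one, diagonal_mul_diagonal]
    simp only [hσ]
    exact diagonal_one
  map_mul' A B := by
    apply Subtype.ext
    change diagonal σ * (A.1 * B.1) * diagonal σ = (diagonal σ * A.1 * diagonal σ) * (diagonal σ * B.1 * diagonal σ)
    have h1 : diagonal σ * diagonal σ = 1 := by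
      rw [diagonal_mul_diagonal]
      simp only [hσ]
      exact diagonal_one
    calc diagonal σ * (A.1 * B.1) * diagonal σ = diagonal σ * A.1 * 1 * B.1 * diagonal σ := by
          rw [Matrix.mul_one]; simp only [Matrix.mul_assoc]
      _ = _ := by rw [← h1]; simp only [Matrix.mul_assoc]

section

variable {ι : Type*} [Fintype ι] [DecidableEq ι] {σ : ι → K} (hσ : ∀ i, σ i * σ i = 1)

theorem Dg_val (A : SpecialLinearGroup ι K) : (Dg σ hσ A).1 = diagonal σ * A.1 * diagonal σ := rfl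

theorem Dg_apply (A : SpecialLinearGroup ι K) (i j : ι) : (Dg σ hσ A).1 i j = σ i * A.1 i j * σ j := by
  rw [Dg_val, Matrix.mul_diagonal, Matrix.diagonal_mul]

end

/-- the signs on the two blocks -/
def sg (τ : Fin 4 → K) : Fin 4 ⊕ Fin 4 → K := Sum.elim τ 1

theorem sg_sq {τ : Fin 4 → K} (hτ : ∀ i, τ i * τ i = 1) (i : Fin 4 ⊕ Fin 4) : sg τ i * sg τ i = 1 := by
  rcases i with i | i
  · exact hτ i
  · exact one_mul 1

theorem diag_sg (τ : Fin 4 → K) : diagonal (sg τ) = fromBlocks (diagonal τ) 0 0 1 := by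
  rw [sg, ← diagonal_one, fromBlocks_diagonal]
  rfl

theorem conj_low {N : Matrix (Fin 4 ⊕ Fin 4) (Fin 4 ⊕ Fin 4) K} {A B G E : Matrix (Fin 4) (Fin 4) K}
    (hN : N = fromBlocks A B G E) (Z : Matrix (Fin 4) (Fin 4) K) :
    ∃ A' B' G', (low Z).1 * N * ((low Z)⁻¹).1 = fromBlocks A' B' G' (E + Z * B) := by
  refine ⟨A - B * Z, B, (Z * A + G) - (Z * B + E) * Z, ?_⟩
  rw [low_inv]
  rw [coe_low, coe_low, hN, Matrix.fromBlocks_multiply, Matrix.fromBlocks_multiply]
  simp only [Matrix.one_mul, Matrix.mul_one, Matrix.zero_mul, Matrix.mul_zero, add_zero, zero_add, Matrix.mul_neg]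
  congr 1
  · abel
  · abel
  · abel

theorem conj_up {N : Matrix (Fin 4 ⊕ Fin 4) (Fin 4 ⊕ Fin 4) K} {A B G E : Matrix (Fin 4) (Fin 4) K}
    (hN : N = fromBlocks A B G E) (Y : Matrix (Fin 4) (Fin 4) K) :
    (up Y).1 * N * ((up Y)⁻¹).1 = fromBlocks (A + Y * G) (B + Y * E - (A + Y * G) * Y) G (E - G * Y) := by
  rw [up_inv]
  rw [coe_up, coe_up, hN, Matrix.fromBlocks_multiply, Matrix.fromBlocks_multiply]
  simp only [Matrix.one_mul, Matrix.mul_one, Matrix.zero_mul, Matrix.mul_zero, add_zero, zero_add, Matrix.mul_neg]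
  congr 1
  · abel
  · abel

theorem case_B (h2 : (2 : K) ≠ 0) {N : Matrix (Fin 4 ⊕ Fin 4) (Fin 4 ⊕ Fin 4) K} {A B G : Matrix (Fin 4) (Fin 4) K}
    {x y : Fin 4 → K} (hx : x ≠ 0) (hy : y ≠ 0) (hd : y ⬝ᵥ x = 0) (hN : N = fromBlocks A B G (1 + vecMulVec x y))
    (hB : B ≠ 0) : ∃ (S : SpecialLinearGroup (Fin 4 ⊕ Fin 4) K) (A' B' G' E' : Matrix (Fin 4) (Fin 4) K),
      S.1 * N * (S⁻¹).1 = fromBlocks A' B' G' E' ∧ E'.det = 1 ∧ Gd E' := by
  obtain ⟨i, hi⟩ : ∃ i, B i ≠ 0 := Function.ne_iff.1 hB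
  obtain ⟨z, h3, h4⟩ := exists_row h2 hx hy hd hi
  have h5 : vecMulVec z (Pi.single i 1) * B = vecMulVec z (B i) := by
    rw [Matrix.vecMulVec_mul, Matrix.single_one_vecMul]
    rfl
  obtain ⟨A', B', G', h6⟩ := conj_low hN (vecMulVec z (Pi.single i 1))
  rw [h5] at h6
  exact ⟨_, A', B', G', _, h6, h3, h4⟩

theorem exists_conj (h2 : (2 : K) ≠ 0) {N : Matrix (Fin 4 ⊕ Fin 4) (Fin 4 ⊕ Fin 4) K} {A B G E : Matrix (Fin 4) (Fin 4) K}
    (hN : N = fromBlocks A B G E) (hE : E.det = 1) (hE' : E ≠ -1) :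
    ∃ (S : SpecialLinearGroup (Fin 4 ⊕ Fin 4) K) (A' B' G' E' : Matrix (Fin 4) (Fin 4) K),
      S.1 * N * (S⁻¹).1 = fromBlocks A' B' G' E' ∧ E'.det = 1 ∧ Gd E' := by
  by_cases hg : Gd E
  · refine ⟨1, A, B, G, E, ?_, hE, hg⟩
    rw [inv_one]
    change 1 * N * 1 = _
    rw [Matrix.one_mul, Matrix.mul_one]
    exact hN
  rw [Gd] at hg
  push Not at hg
  obtain ⟨x, y, rfl, h1⟩ := hg hE'
  have hx : x ≠ 0 := by
    rintro rfl
    exact h1 (by rw [Matrix.zero_vecMulVec, add_zero])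
  have hy : y ≠ 0 := by
    rintro rfl
    exact h1 (by rw [Matrix.vecMulVec_zero, add_zero])
  have hd := dot_of_det hE
  by_cases hB : B = 0
  · by_cases hG : G = 0
    · subst hB hG
      obtain ⟨Y, hY⟩ : ∃ Y : Matrix (Fin 4) (Fin 4) K, Y * (1 + vecMulVec x y) - A * Y ≠ 0 := by
        by_contra hcon
        push Not at hcon
        have h3 := hcon 1
        rw [Matrix.one_mul, Matrix.mul_one, sub_eq_zero] at h3
        obtain ⟨i, hi⟩ := Function.ne_iff.1 hx
        obtain ⟨j, hj⟩ := Function.ne_iff.1 hy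
        rw [Pi.zero_apply] at hi hj
        have h4 := fun Y => hcon Y
        rw [← h3] at h4
        have h5 : ∀ Y : Matrix (Fin 4) (Fin 4) K, Y * vecMulVec x y = vecMulVec x y * Y := by
          intro Y
          have := h4 Y
          rw [Matrix.mul_add, Matrix.add_mul, Matrix.mul_one, Matrix.one_mul, add_sub_add_left_eq_sub, sub_eq_zero] at this
          exact this
        have h6 : ∀ Y : Matrix (Fin 4) (Fin 4) K, ∀ k l, (Y *ᵥ x) k * y l = x k * (y ᵥ* Y) l := by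
          intro Y k l
          have := congrFun (congrFun (h5 Y) k) l
          rw [Matrix.mul_vecMulVec, Matrix.vecMulVec_mul, vecMulVec_apply, vecMulVec_apply] at this
          exact this
        have h7 : ∀ a b : Fin 4 → K, ∀ k l, (b ⬝ᵥ x) * a k * y l = x k * ((y ⬝ᵥ a) * b l) := by
          intro a b k l
          have := h6 (vecMulVec a b) k l
          rw [vecMulVec_mulVec, vecMul_vecMulVec] at this
          simpa [mul_comm, mul_left_comm, mul_assoc] using this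
        have h8 := h7 x (Pi.single i 1) i j
        rw [hd, zero_mul, mul_zero, single_dotProduct, one_mul] at h8
        exact (mul_ne_zero (mul_ne_zero hi hi) hj) h8
      have h3 := conj_up hN Y
      rw [Matrix.mul_zero, add_zero, Matrix.zero_mul, sub_zero, zero_add] at h3
      obtain ⟨S, A', B', G', E', h4, h5, h6⟩ := case_B h2 hx hy hd h3 hY
      refine ⟨S * up Y, A', B', G', E', ?_, h5, h6⟩
      rw [_root_.mul_inv_rev]
      change S.1 * (up Y).1 * N * (((up Y)⁻¹).1 * (S⁻¹).1) = _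
      rw [← h4]
      simp only [Matrix.mul_assoc]
    · obtain ⟨i, hi⟩ : ∃ i, Gᵀ i ≠ 0 := by
        refine Function.ne_iff.1 fun h => hG ?_
        have h' : Gᵀ = 0 := h
        rw [← Matrix.transpose_transpose G, h', Matrix.transpose_zero]
      obtain ⟨z, h3, h4⟩ := exists_col h2 hx hy hd hi
      have h5 : G * vecMulVec (Pi.single i 1) z = vecMulVec (Gᵀ i) z := by
        rw [Matrix.mul_vecMulVec, Matrix.mulVec_single_one]
        rfl
      have h6 := conj_up hN (-vecMulVec (Pi.single i 1) z)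
      rw [Matrix.mul_neg G, h5, sub_neg_eq_add] at h6
      exact ⟨_, _, _, _, _, h6, h3, h4⟩
  · exact case_B h2 hx hy hd hN hB

/-- the decomposition -/
theorem decD {N : Matrix (Fin 4 ⊕ Fin 4) (Fin 4 ⊕ Fin 4) K} {A B G : Matrix (Fin 4) (Fin 4) K}
    {e : SpecialLinearGroup (Fin 4) K} (hN : N = fromBlocks A B G e.1) :
    ∃ Z Y c, N = (up Y).1 * fromBlocks c 0 0 e.1 * (low Z).1 ∧ c.det = N.det := by
  have he : (e⁻¹).1 * e.1 = 1 := by
    change (e⁻¹ * e).1 = 1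
    rw [inv_mul_cancel]; rfl
  have he' : e.1 * (e⁻¹).1 = 1 := by
    change (e * e⁻¹).1 = 1
    rw [mul_inv_cancel]; rfl
  have hmat : N = fromBlocks 1 (B * (e⁻¹).1) 0 1 * fromBlocks (A - B * (e⁻¹).1 * G) 0 0 e.1 *
      fromBlocks 1 0 ((e⁻¹).1 * G) 1 := by
    rw [hN, Matrix.fromBlocks_multiply, Matrix.fromBlocks_multiply]
    simp only [Matrix.one_mul, Matrix.mul_one, Matrix.zero_mul, Matrix.mul_zero, add_zero, zero_add]
    have hBe : B * (e⁻¹).1 * e.1 = B := by rw [Matrix.mul_assoc, he, Matrix.mul_one]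
    congr 1
    · rw [hBe, ← Matrix.mul_assoc B]
      abel
    · rw [hBe]
    · rw [← Matrix.mul_assoc, he', Matrix.one_mul]
  have hdet : (A - B * (e⁻¹).1 * G).det = N.det := by
    have h1 := congrArg Matrix.det hmat
    rw [Matrix.det_mul, Matrix.det_mul, Matrix.det_fromBlocks_zero₂₁, Matrix.det_fromBlocks_zero₂₁,
      Matrix.det_fromBlocks_zero₁₂, Matrix.det_one, e.2] at h1
    simp only [mul_one, one_mul] at h1
    exact h1.symm
  exact ⟨(e⁻¹).1 * G, B * (e⁻¹).1, _, hmat, hdet⟩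

/-- **The corner, twisted form.** -/
theorem exists_cornerD (h2 : (2 : K) ≠ 0) {τ : Fin 4 → K} (hτ : ∀ i, τ i * τ i = 1)
    (M : SpecialLinearGroup (Fin 4 ⊕ Fin 4) K)
    (hE : ((M⁻¹).1.toBlocks₂₂).det = 1) (hE' : (M⁻¹).1.toBlocks₂₂ ≠ -1) :
    ∃ (S : SpecialLinearGroup (Fin 4 ⊕ Fin 4) K) (Z Y : Matrix (Fin 4) (Fin 4) K) (c d : SpecialLinearGroup (Fin 4) K),
      S * M * (Dg (sg τ) (sg_sq hτ) S)⁻¹ = (low Z)⁻¹ * (dL c * dR d) * (Dg (sg τ) (sg_sq hτ) (up Y))⁻¹ ∧ Gd d.1 := by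
  obtain ⟨δ, hδ⟩ : ∃ δ : Matrix (Fin 4 ⊕ Fin 4) (Fin 4 ⊕ Fin 4) K, δ = diagonal (sg τ) := ⟨_, rfl⟩
  have hδ2 : δ * δ = 1 := by
    rw [hδ, diagonal_mul_diagonal]
    simp only [sg_sq hτ]
    exact diagonal_one
  have hN : δ * (M⁻¹).1 = fromBlocks (diagonal τ * (M⁻¹).1.toBlocks₁₁) (diagonal τ * (M⁻¹).1.toBlocks₁₂)
      (M⁻¹).1.toBlocks₂₁ (M⁻¹).1.toBlocks₂₂ := by
    conv_lhs => rw [← Matrix.fromBlocks_toBlocks (M⁻¹).1]
    rw [hδ, diag_sg, Matrix.fromBlocks_multiply]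
    simp
  obtain ⟨S, A', B', G', E', h1, h3, h4⟩ := exists_conj h2 hN hE hE'
  obtain ⟨e, rfl⟩ : ∃ e : SpecialLinearGroup (Fin 4) K, e.1 = E' := ⟨⟨E', h3⟩, rfl⟩
  obtain ⟨Z, Y, c', h5, h6⟩ := decD h1
  have hdet : c'.det = (diagonal τ).det := by
    rw [h6, det_mul, det_mul, det_mul, S.2, (S⁻¹).2, (M⁻¹).2, hδ, diag_sg, Matrix.det_fromBlocks_zero₂₁, Matrix.det_one]
    simp only [mul_one, one_mul]
  have hτd : (diagonal τ).det * (diagonal τ).det = 1 := by
    rw [← det_mul, diagonal_mul_diagonal]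
    simp only [hτ]
    rw [diagonal_one, det_one]
  obtain ⟨c, hc⟩ : ∃ c : SpecialLinearGroup (Fin 4) K, c.1 = diagonal τ * c' :=
    ⟨⟨diagonal τ * c', by rw [det_mul, hdet, hτd]⟩, rfl⟩
  have key : Dg (sg τ) (sg_sq hτ) S * M⁻¹ * S⁻¹ = Dg (sg τ) (sg_sq hτ) (up Y) * (dL c * dR e) * low Z := by
    apply Subtype.ext
    change diagonal (sg τ) * S.1 * diagonal (sg τ) * (M⁻¹).1 * (S⁻¹).1 =
      diagonal (sg τ) * (up Y).1 * diagonal (sg τ) * ((dL c).1 * (dR e).1) * (low Z).1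
    rw [← hδ]
    have h7 : δ * fromBlocks c' 0 0 e.1 = (dL c).1 * (dR e).1 := by
      rw [coe_dL, coe_dR, hc, hδ, diag_sg, Matrix.fromBlocks_multiply, Matrix.fromBlocks_multiply]
      simp
    calc δ * S.1 * δ * (M⁻¹).1 * (S⁻¹).1 = δ * (S.1 * (δ * (M⁻¹).1) * (S⁻¹).1) := by simp only [Matrix.mul_assoc]
      _ = δ * ((up Y).1 * 1 * fromBlocks c' 0 0 e.1 * (low Z).1) := by rw [h5, Matrix.mul_one]
      _ = δ * (up Y).1 * δ * (δ * fromBlocks c' 0 0 e.1) * (low Z).1 := by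
        rw [← hδ2]; simp only [Matrix.mul_assoc]
      _ = _ := by rw [h7]
  refine ⟨S, Z, Y, c⁻¹, e⁻¹, ?_, gd_inv h4⟩
  have h8 := congrArg (fun x => x⁻¹) key
  simp only [_root_.mul_inv_rev, inv_inv] at h8
  rw [← mul_assoc] at h8
  rw [h8, map_inv, map_inv, ← _root_.mul_inv_rev (dR e), ← commute_dd, _root_.mul_inv_rev]
  simp only [mul_assoc]

end Cfsg.Agent.H122.SX.CD
end

-- part: H122/SX/EThreeA
section
/-!
# `E₈(3)` with fixed classes: preparations (helper122, S2464)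
-/

set_option autoImplicit false
set_option linter.unusedSectionVars false

namespace Cfsg.Agent.H122.SX

open CoxeterSystem Cfsg.Agent.ChevalleyStructure.CoxeterGeom Cfsg.Agent.Tits.Roots Cfsg.Agent.Tits.Core
  Cfsg.Agent.Nodes.Reps Cfsg.Agent.Nodes.BNOf Cfsg.Agent.Nodes.RGDLib Cfsg.Agent.Nodes.Bruhat
  Cfsg.Agent.Nodes.OppDec Cfsg.Agent.Nodes.LeviDec Cfsg.Agent.Nodes.KindChev Cfsg.Agent.Nodes.ChevCls
  Cfsg.Agent.OddHalf.NI.ModelChev Cfsg.Agent.Nodes.StabComb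
  Cfsg.Agent.H162.GaussDec Cfsg.Agent.H162.GaussLevi Cfsg.Agent.H162.GaussSL Cfsg.Agent.H162.GaussReg
  Cfsg.Agent.H162.GaussPQ
  Cfsg.Agent.H928.Ore.Frame
open Cfsg.Lie Cfsg.Agent.ChevalleyStructure Cfsg.Agent.ChevalleyStructure.Elts
  Cfsg.Agent.ChevalleyStructure.RootVec Cfsg.Agent.ChevalleyStructure.NPerm
  Cfsg.Agent.ChevalleyStructure.CoxeterGeomTypes Cfsg.Agent.Nodes.RGDChev Cfsg.Agent.KFacts.RgdChevCoord
open Cfsg.Agent.FixBN.FieldRGD (uu vv dd ww)
open Cfsg.Agent.TitsThree.KExcRT Cfsg.Agent.AGraded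
open Cfsg.Agent.H78.Pw Cfsg.Agent.H85.Pw Cfsg.Agent.H194.Pw
open Cfsg.Agent.H150.E6T (le_of_gen)
open Cfsg.Agent.H162.GaussExc (coord act_sg sg_mem)
open Cfsg.Agent.H122.Pw
open scoped MatrixGroups

universe u

/-! ### Rows and columns -/

section RC

variable {n : ℕ} (K : Type u) [Field K]

/-- the rows of `P` are the rows of the identity -/
def RowS (P : Fin n → Prop) : Subgroup (Matrix.SpecialLinearGroup (Fin n) K) where
  carrier := {A | ∀ i, P i → ∀ j, A.1 i j = (1 : Matrix (Fin n) (Fin n) K) i j}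
  one_mem' i _ j := rfl
  mul_mem' {A B} hA hB i hi j := by
    change (A.1 * B.1) i j = _
    rw [Matrix.mul_apply]
    simp only [hA i hi]
    rw [← Matrix.mul_apply, Matrix.one_mul]
    exact hB i hi j
  inv_mem' {A} hA i hi j := by
    have h1 : A.1 * (A⁻¹).1 = 1 := by
      change (A * A⁻¹).1 = 1
      rw [mul_inv_cancel]; rfl
    have h2 := congrFun (congrFun h1 i) j
    rw [Matrix.mul_apply] at h2
    simp only [hA i hi] at h2
    rw [← Matrix.mul_apply, Matrix.one_mul] at h2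
    exact h2

/-- the columns of `P` are the columns of the identity -/
def ColS (P : Fin n → Prop) : Subgroup (Matrix.SpecialLinearGroup (Fin n) K) where
  carrier := {A | ∀ j, P j → ∀ i, A.1 i j = (1 : Matrix (Fin n) (Fin n) K) i j}
  one_mem' i _ j := rfl
  mul_mem' {A B} hA hB j hj i := by
    change (A.1 * B.1) i j = _
    rw [Matrix.mul_apply]
    simp only [hB j hj]
    rw [← Matrix.mul_apply, Matrix.mul_one]
    exact hA j hj i
  inv_mem' {A} hA j hj i := by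
    have h1 : (A⁻¹).1 * A.1 = 1 := by
      change (A⁻¹ * A).1 = 1
      rw [inv_mul_cancel]; rfl
    have h2 := congrFun (congrFun h1 i) j
    rw [Matrix.mul_apply] at h2
    simp only [hA j hj] at h2
    rw [← Matrix.mul_apply, Matrix.mul_one] at h2
    exact h2

variable {K}

theorem tv_RowS {P : Fin n → Prop} {a b : Fin n} (hab : a ≠ b) (ha : ¬ P a) (c : K) :
    Matrix.SpecialLinearGroup.transvection hab c ∈ RowS K P := by
  intro i hi j
  change Matrix.transvection a b c i j = _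
  rw [Matrix.transvection, Matrix.add_apply, Matrix.single_apply, if_neg, add_zero]
  rintro ⟨rfl, -⟩
  exact ha hi

theorem tv_ColS {P : Fin n → Prop} {a b : Fin n} (hab : a ≠ b) (hb : ¬ P b) (c : K) :
    Matrix.SpecialLinearGroup.transvection hab c ∈ ColS K P := by
  intro j hj i
  change Matrix.transvection a b c i j = _
  rw [Matrix.transvection, Matrix.add_apply, Matrix.single_apply, if_neg, add_zero]
  rintro ⟨-, rfl⟩
  exact hb hj

end RC

/-! ### The roots -/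

/-- the last row -/
def Rr (q : ℕ) : Prop := ∃ b : Fin 5, b ≠ 4 ∧ ra 4 b = q

/-- the last column -/
def Rc (q : ℕ) : Prop := ∃ b : Fin 5, b ≠ 4 ∧ ra b 4 = q

instance decRr (q : ℕ) : Decidable (Rr q) := by
  unfold Rr
  refine @Fintype.decidableExistsFintype _ _ (fun b => ?_) _
  infer_instance

instance decRc (q : ℕ) : Decidable (Rc q) := by
  unfold Rc
  refine @Fintype.decidableExistsFintype _ _ (fun b => ?_) _
  infer_instance

theorem out7n' : ∀ q < chevE8.nroots, (∃ k : Fin 8, k ∉ J7 ∧ vec chevE8 8 q k < 0) →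
    (∃ k : Fin 8, k ∉ JP ∧ vec chevE8 8 q k < 0) ∨ Rr q := by
  intro q hq
  revert q
  refine @of_decide_eq_true _ ?_ ?_
  · refine @Nat.decidableBallLT _ _ fun q _ => ?_
    infer_instance
  · decide +kernel

theorem out7p' : ∀ q < chevE8.nroots, (∃ k : Fin 8, k ∉ J7 ∧ 0 < vec chevE8 8 q k) →
    (∃ k : Fin 8, k ∉ JP ∧ 0 < vec chevE8 8 q k) ∨ Rc q := by
  intro q hq
  revert q
  refine @of_decide_eq_true _ ?_ ?_
  · refine @Nat.decidableBallLT _ _ fun q _ => ?_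
    infer_instance
  · decide +kernel

theorem r8_L' : ∀ a b : Fin 4, a ≠ b → ra a.castSucc b.castSucc = r8 (e8 (Sum.inl a)) (e8 (Sum.inl b)) := by
  decide +kernel

theorem c4 : ∀ a : Fin 4, a.castSucc ≠ (4 : Fin 5) := by decide

/-- the exponents of the sign -/
def dl : Fin 8 → ℤ := ![1, 1, 1, 0, 0, 0, 0, 0]

theorem cart8 : ∀ a b : Fin 8, a ≠ b → chevE8.cartan 1 (r8 a b) = dl b - dl a := by decide +kernel

theorem ra34 : ra 3 4 = chevE8.simple 1 ∧ ra 4 3 = chevE8.neg (chevE8.simple 1) := by decide +kernel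

/-! ### The sign -/

section sign

variable (K : Type u) [Field K]

/-- the sign -/
def sgn : Fin 8 → K := ![-1, -1, -1, 1, 1, 1, 1, 1]

theorem sgn_sq (i : Fin 8) : sgn K i * sgn K i = 1 := by
  fin_cases i <;> simp [sgn]

/-- the sign on the first block -/
def sgn4 : Fin 4 → K := ![-1, -1, -1, 1]

theorem sgn4_sq (i : Fin 4) : sgn4 K i * sgn4 K i = 1 := by
  fin_cases i <;> simp [sgn4]

theorem sgn_e8 (i : Fin 4 ⊕ Fin 4) : sgn K (e8 i) = CD.sg (sgn4 K) i := by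
  rcases i with i | i <;> fin_cases i <;> rfl

/-- `D_8` -/
noncomputable abbrev D8 : Matrix.SpecialLinearGroup (Fin 8) K →* Matrix.SpecialLinearGroup (Fin 8) K :=
  CD.Dg (sgn K) (sgn_sq K)

/-- `D_44` -/
noncomputable abbrev D44 :
    Matrix.SpecialLinearGroup (Fin 4 ⊕ Fin 4) K →* Matrix.SpecialLinearGroup (Fin 4 ⊕ Fin 4) K :=
  CD.Dg (CD.sg (sgn4 K)) (CD.sg_sq (sgn4_sq K))

theorem Re_D (A : Matrix.SpecialLinearGroup (Fin 4 ⊕ Fin 4) K) : Re K (D44 K A) = D8 K (Re K A) := by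
  apply Subtype.ext
  ext i j
  rw [CD.Dg_apply]
  change (D44 K A).1 (e8.symm i) (e8.symm j) = _ * A.1 (e8.symm i) (e8.symm j) * _
  rw [CD.Dg_apply, ← sgn_e8, ← sgn_e8, Equiv.apply_symm_apply, Equiv.apply_symm_apply]

theorem D8_tv {a b : Fin 8} (hab : a ≠ b) (c : K) : D8 K (Matrix.SpecialLinearGroup.transvection hab c) =
    Matrix.SpecialLinearGroup.transvection hab (sgn K a * c * sgn K b) := by
  apply Subtype.ext
  ext i j
  rw [CD.Dg_apply]
  change _ * Matrix.transvection a b c i j * _ = Matrix.transvection a b _ i j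
  rw [Matrix.transvection, Matrix.transvection, Matrix.add_apply, Matrix.add_apply, Matrix.single_apply,
    Matrix.single_apply, Matrix.one_apply]
  by_cases h : a = i ∧ b = j
  · obtain ⟨rfl, rfl⟩ := h
    rw [if_neg hab, if_pos ⟨rfl, rfl⟩, if_pos ⟨rfl, rfl⟩, zero_add, zero_add]
  · rw [if_neg h, if_neg h]
    by_cases hij : i = j
    · subst hij
      rw [if_pos rfl, add_zero, mul_one, sgn_sq]
    · rw [if_neg hij, add_zero, mul_zero, zero_mul]

/-- the torus element -/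
noncomputable def kap : ↥(chevE8.group K) := Cfsg.Agent.H162.GaussExc.sg hp8 (Pi.single 1 1) (-1 : Kˣ)

theorem kap_mem : kap K ∈ TT chevE8 K := sg_mem hp8 _ _

theorem sgn_zpow (i : Fin 8) : (((-1 : Kˣ) ^ dl i : Kˣ) : K) = sgn K i := by
  fin_cases i <;> simp [dl, sgn]

theorem dl_neg (i : Fin 8) : (((-1 : Kˣ) ^ (-dl i) : Kˣ) : K) = sgn K i := by
  fin_cases i <;> simp [dl, sgn]

theorem kap_tv {a b : Fin 8} (hab : a ≠ b) (c : K) : kap K * xc hp8 (vec chevE8 8 (r8 a b)) c * (kap K)⁻¹ =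
    xc hp8 (vec chevE8 8 (r8 a b)) (sgn K a * c * sgn K b) := by
  have h1 : ∑ i : Fin 8, (Pi.single 1 1 : Fin 8 → ℤ) i * chevE8.cartan (i : ℕ) (r8 a b) = -dl a + dl b := by
    rw [Finset.sum_eq_single 1]
    · rw [Pi.single_eq_same, one_mul]
      exact (cart8 a b hab).trans (by rw [sub_eq_add_neg, add_comm])
    · intro i _ hi
      rw [Pi.single_eq_of_ne hi, zero_mul]
    · intro h
      exact absurd (Finset.mem_univ _) h
  have h2 : (((-1 : Kˣ) ^ (-dl a + dl b) : Kˣ) : K) * c = sgn K a * c * sgn K b := by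
    rw [zpow_add, Units.val_mul, dl_neg, sgn_zpow]
    ring
  rw [kap, act_sg hp8 _ _ (rt8.1 a b hab), h1, h2]

theorem kap_p8 (A : Matrix.SpecialLinearGroup (Fin 8) K) : kap K * p8 K A * (kap K)⁻¹ = p8 K (D8 K A) := by
  have h := le_of_gen (MonoidHom.id (Matrix.SpecialLinearGroup (Fin 8) K))
    (((MulAut.conj (kap K)).toMonoidHom.comp (p8 K)).eqLocus ((p8 K).comp (D8 K)))
    (fun a b hab c => by
      change kap K * p8 K (Matrix.SpecialLinearGroup.transvection hab c) * (kap K)⁻¹ =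
        p8 K (D8 K (Matrix.SpecialLinearGroup.transvection hab c))
      rw [D8_tv, p8_tv, p8_tv, kap_tv K hab]
      congr 1
      ring) A
  exact h

theorem kap_Ps (A : Matrix.SpecialLinearGroup (Fin 4 ⊕ Fin 4) K) : kap K * Ps K A * (kap K)⁻¹ = Ps K (D44 K A) := by
  rw [Ps, MonoidHom.comp_apply, MonoidHom.comp_apply, Re_D, kap_p8]

/-- the matrix of `kap` -/
def Hm : Matrix.SpecialLinearGroup (Fin 5) K :=
  ⟨Matrix.diagonal ![1, 1, 1, -1, -1], by rw [Matrix.det_diagonal]; simp [Fin.prod_univ_succ]⟩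

theorem pa_H : pa K (Hm K) = kap K := by
  have h1 : Hm K = (Matrix.SpecialLinearGroup.transvection (by decide : (3 : Fin 5) ≠ 4) (1 : K) *
      Matrix.SpecialLinearGroup.transvection (by decide : (4 : Fin 5) ≠ 3) (-1 : K) *
      Matrix.SpecialLinearGroup.transvection (by decide : (3 : Fin 5) ≠ 4) (1 : K)) ^ 2 := by
    apply Subtype.ext
    rw [pow_two]
    change Matrix.diagonal ![1, 1, 1, -1, -1] = (Matrix.transvection 3 4 (1 : K) * Matrix.transvection 4 3 (-1 : K) *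
      Matrix.transvection 3 4 (1 : K)) * (Matrix.transvection 3 4 (1 : K) * Matrix.transvection 4 3 (-1 : K) *
      Matrix.transvection 3 4 (1 : K))
    have hZ : Matrix.diagonal (![1, 1, 1, -1, -1] : Fin 5 → ℤ) = (Matrix.transvection 3 4 (1 : ℤ) *
        Matrix.transvection 4 3 (-1 : ℤ) * Matrix.transvection 3 4 (1 : ℤ)) * (Matrix.transvection 3 4 (1 : ℤ) *
        Matrix.transvection 4 3 (-1 : ℤ) * Matrix.transvection 3 4 (1 : ℤ)) := by decide +kernel
    have hT : ∀ (i j : Fin 5) (c : ℤ), (Int.castRingHom K).mapMatrix (Matrix.transvection i j c) =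
        Matrix.transvection i j (c : K) := by
      intro i j c
      rw [Matrix.transvection, Matrix.transvection, map_add, map_one, RingHom.mapMatrix_apply, Matrix.map_single]
      rfl
    have hK := congrArg (Int.castRingHom K).mapMatrix hZ
    rw [map_mul, map_mul, map_mul, hT, hT, Int.cast_neg, Int.cast_one, RingHom.mapMatrix_apply,
      Matrix.diagonal_map (map_zero _)] at hK
    rw [← hK]
    congr 1
    funext i
    fin_cases i <;> simp
  have h2 : (uu (1 : K) * vv (-1 : K) * uu (1 : K)) ^ 2 = dd (-1 : K) (neg_ne_zero.2 one_ne_zero) := by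
    apply Subtype.ext
    rw [pow_two]
    change (!![1, 1; 0, 1] * !![1, 0; -1, 1] * !![1, 1; 0, 1]) * (!![1, 1; 0, 1] * !![1, 0; -1, 1] * !![1, 1; 0, 1]) =
      !![(-1 : K), 0; 0, (-1)⁻¹]
    ext i j
    fin_cases i <;> fin_cases j <;> simp
  have h34 : vec chevE8 8 (ra 3 4) = sr 1 := by
    rw [ra34.1]
    exact vec_simple hp8 1
  have h43 : vec chevE8 8 (ra 4 3) = -sr 1 := by
    rw [ra34.2]
    exact (vec_neg hp8 (simple_lt hp8.inList (lt_rank hp8 1))).trans (congrArg Neg.neg (vec_simple hp8 1))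
  have hs : sa 3 4 = 1 ∧ sa 4 3 = 1 := by decide
  rw [h1, map_pow, map_mul, map_mul, pa_tv, pa_tv, h34, h43, hs.1, hs.2, Int.cast_one, one_mul, one_mul,
    ← sl_uu, ← sl_vv, ← map_mul, ← map_mul, ← map_pow, h2, kap, Cfsg.Agent.H162.GaussExc.sg]
  have h3 : (fun i : Fin 8 => (-1 : Kˣ) ^ ((Pi.single 1 1 : Fin 8 → ℤ) i)) = Pi.mulSingle 1 (-1 : Kˣ) := by
    funext i
    by_cases hi : i = 1
    · subst hi
      rw [Pi.single_eq_same, Pi.mulSingle_eq_same, zpow_one]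
    · rw [Pi.single_eq_of_ne hi, Pi.mulSingle_eq_of_ne hi, zpow_zero]
  rw [h3, th_mulSingle]
  rfl

/-! ### The parts of `A₄` -/

theorem mem_row {q : ℕ} (hq : Rr q) (c : K) : xc hp8 (vec chevE8 8 q) c ∈ (RowS K (fun i : Fin 5 => i ≠ 4)).map (pa K) := by
  obtain ⟨b, hb, rfl⟩ := hq
  refine ⟨Matrix.SpecialLinearGroup.transvection hb.symm ((sa 4 b : K) * c), tv_RowS _ (fun h => h rfl) _, ?_⟩
  rw [pa_tv, ← mul_assoc, ← Int.cast_mul, rta.2.2.2.1, Int.cast_one, one_mul]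

theorem mem_col {q : ℕ} (hq : Rc q) (c : K) : xc hp8 (vec chevE8 8 q) c ∈ (ColS K (fun i : Fin 5 => i ≠ 4)).map (pa K) := by
  obtain ⟨b, hb, rfl⟩ := hq
  refine ⟨Matrix.SpecialLinearGroup.transvection hb ((sa b 4 : K) * c), tv_ColS _ (fun h => h rfl) _, ?_⟩
  rw [pa_tv, ← mul_assoc, ← Int.cast_mul, rta.2.2.2.1, Int.cast_one, one_mul]

theorem Ps_dL' (A : Matrix.SpecialLinearGroup (Fin 4) K) :
    Ps K (Cor.dL A) ∈ (RowS K (fun i : Fin 5 => i = 4) ⊓ ColS K (fun i : Fin 5 => i = 4)).map (pa K) :=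
  le_of_gen ((Ps K).comp Cor.dL) _ (fun a b hab c => by
    change Ps K (Cor.dL (Matrix.SpecialLinearGroup.transvection hab c)) ∈ _
    rw [dL_tv, Ps_tv, ← r8_L' a b hab]
    have hab' : a.castSucc ≠ b.castSucc := fun h => hab (Fin.castSucc_injective _ h)
    refine ⟨Matrix.SpecialLinearGroup.transvection hab' ((sa a.castSucc b.castSucc : K) *
      ((s8 (e8 (Sum.inl a)) (e8 (Sum.inl b)) : K) * c)), ⟨tv_RowS hab' (c4 a) _, tv_ColS hab' (c4 b) _⟩, ?_⟩
    rw [pa_tv, ← mul_assoc (sa a.castSucc b.castSucc : K), ← Int.cast_mul, rta.2.2.2.1, Int.cast_one, one_mul]) A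

theorem V7_le' : VJ cs8 hp8.isCartan (XX chevE8 8 K) {k | k ∈ J7} ≤
    (ColS K (fun i : Fin 5 => i ≠ 4)).map (pa K) ⊔ VJ cs8 hp8.isCartan (XX chevE8 8 K) {k | k ∈ JP} := by
  refine RGD.Sup_le fun x hx => ?_
  obtain ⟨q, hq, rfl⟩ := (isRoot_iff hp8 _ x).1 hx.1
  obtain ⟨-, -, k, hk, h0⟩ := hx
  intro y hy
  obtain ⟨c, rfl⟩ := (mem_XX hp8 hq y).1 hy
  rcases out7p' q hq ⟨k, hk, h0⟩ with h | h
  · exact (le_sup_right : _ ≤ (ColS K (fun i : Fin 5 => i ≠ 4)).map (pa K) ⊔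
      VJ cs8 hp8.isCartan (XX chevE8 8 K) {k | k ∈ JP}) (xc_mem_VJ K hq h c)
  · exact (le_sup_left : _ ≤ (ColS K (fun i : Fin 5 => i ≠ 4)).map (pa K) ⊔
      VJ cs8 hp8.isCartan (XX chevE8 8 K) {k | k ∈ JP}) (mem_col K h c)

theorem VN7_le' : VNJ cs8 hp8.isCartan (XX chevE8 8 K) {k | k ∈ J7} ≤
    VNJ cs8 hp8.isCartan (XX chevE8 8 K) {k | k ∈ JP} ⊔ (RowS K (fun i : Fin 5 => i ≠ 4)).map (pa K) := by
  refine RGD.Sup_le fun x hx => ?_
  obtain ⟨-, -, k, hk, h0⟩ := id hx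
  have hx1 : IsRoot cs8 hp8.isCartan x := NotNJ.isRoot hx
  obtain ⟨q, hq, rfl⟩ := (isRoot_iff hp8 _ x).1 hx1
  rw [Pi.neg_apply] at h0
  intro y hy
  obtain ⟨c, rfl⟩ := (mem_XX hp8 hq y).1 hy
  rcases out7n' q hq ⟨k, hk, by omega⟩ with h | h
  · exact (le_sup_left : _ ≤ VNJ cs8 hp8.isCartan (XX chevE8 8 K) {k | k ∈ JP} ⊔
      (RowS K (fun i : Fin 5 => i ≠ 4)).map (pa K)) (xc_mem_VNJ K hq h c)
  · exact (le_sup_right : _ ≤ VNJ cs8 hp8.isCartan (XX chevE8 8 K) {k | k ∈ JP} ⊔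
      (RowS K (fun i : Fin 5 => i ≠ 4)).map (pa K)) (mem_row K h c)

end sign

/-- the `A₄` part is not scalar -/
theorem part_ne {K : Type u} [Field K] (h2 : (2 : K) ≠ 0) {L C U : Matrix.SpecialLinearGroup (Fin 5) K}
    (hL : L ∈ RowS K (fun i : Fin 5 => i ≠ 4))
    (hC : C ∈ RowS K (fun i : Fin 5 => i = 4) ⊓ ColS K (fun i : Fin 5 => i = 4))
    (hU : U ∈ ColS K (fun i : Fin 5 => i ≠ 4)) : (L * C * Hm K * U).1 ≠ 1 := by
  intro h
  have h1 : ∀ i j : Fin 5, i ≠ 4 → j ≠ 4 → (C * Hm K).1 i j = (1 : Matrix (Fin 5) (Fin 5) K) i j := by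
    intro i j hi hj
    have h3 : (L * C * Hm K * U).1 i j = (L * C * Hm K).1 i j := by
      change ((L * C * Hm K).1 * U.1) i j = _
      rw [Matrix.mul_apply]
      simp only [hU j hj]
      rw [← Matrix.mul_apply, Matrix.mul_one]
    have h4 : (L * C * Hm K).1 i j = (C * Hm K).1 i j := by
      rw [mul_assoc]
      change (L.1 * (C * Hm K).1) i j = _
      rw [Matrix.mul_apply]
      simp only [hL i hi]
      rw [← Matrix.mul_apply, Matrix.one_mul]
    rw [← h4, ← h3, h]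
  have h5 : ∀ i j, (C * Hm K).1 i j = C.1 i j * (![1, 1, 1, -1, -1] : Fin 5 → K) j := fun i j => by
    change (C.1 * (Hm K).1) i j = _
    rw [show (Hm K).1 = Matrix.diagonal ![1, 1, 1, -1, -1] from rfl, Matrix.mul_diagonal]
  have h6 : (C * Hm K).1 = Matrix.diagonal ![1, 1, 1, 1, -1] := by
    ext i j
    by_cases hi : i = 4
    · subst hi
      rw [h5, hC.1 4 rfl j]
      fin_cases j <;> simp [Matrix.one_apply]
    · by_cases hj : j = 4
      · subst hj
        rw [h5, hC.2 4 rfl i]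
        fin_cases i <;> first | exact absurd rfl hi | simp [Matrix.one_apply]
      · rw [h1 i j hi hj]
        fin_cases i <;> fin_cases j <;> first | exact absurd rfl hi | exact absurd rfl hj | simp [Matrix.one_apply]
  have h7 := (C * Hm K).2
  rw [h6, Matrix.det_diagonal] at h7
  simp [Fin.prod_univ_succ] at h7
  exact h2 (by linear_combination -h7)

/-! ### The classes in `SL_5(3)`, `SL_4(3)` -/

section cls

variable {K : Type u} [Field K] [Finite K]

theorem five' (hK : Nat.card K = 3) (A : Matrix.SpecialLinearGroup (Fin 5) K) (hA : A.1 ≠ 1) :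
    ∃ X Y : Matrix.SpecialLinearGroup (Fin 5) K, A = X * Y ∧
    (X : Matrix (Fin 5) (Fin 5) K).charpoly = H126.PwO.Five.pF K ∧
    (Y : Matrix (Fin 5) (Fin 5) K).charpoly = H126.PwO.Five.pF K := by
  have : Fact (Nat.Prime 3) := ⟨Nat.prime_three⟩
  obtain ⟨hch, hall⟩ := H374.Ore.Sl3.exists_cast (K := K) hK
  have h3 : (3 : K) = 0 := by
    have : ((3 : ℕ) : K) = 0 := CharP.cast_eq_zero K 3
    exact_mod_cast this
  have hs : ∀ c : K, A.1 ≠ c • (1 : Matrix (Fin 5) (Fin 5) K) := by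
    intro c hc
    have hd : c ^ 5 = 1 := by
      have h1 := A.2
      rw [hc, Matrix.det_smul, Matrix.det_one, mul_one, Fintype.card_fin] at h1
      exact h1
    have hc1 : c = 1 := by
      obtain ⟨k, hk, rfl⟩ := hall c
      interval_cases k
      · norm_num at hd
      · norm_num
      · exfalso
        have h5 : (2 : K) ^ 5 = 1 := by exact_mod_cast hd
        exact one_ne_zero (α := K) (by linear_combination h5 - 10 * h3)
    exact hA (by rw [hc, hc1, one_smul])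
  obtain ⟨X, Y, h1, h2, h4⟩ := H126.PwO.Five.p5_3 hK A.1 A.2 hs
  have hX : X.det = 1 := by
    rw [Matrix.det_eq_sign_charpoly_coeff, h2, Fintype.card_fin, H126.PwO.Five.pF]
    simp only [Polynomial.coeff_add, Polynomial.coeff_X_pow, Polynomial.coeff_ofNat_mul, Polynomial.coeff_X,
      Polynomial.coeff_ofNat_zero]
    norm_num
    linear_combination (-1 : K) * h3
  have hY : Y.det = 1 := by
    have h5 := congrArg Matrix.det h1
    rw [Matrix.det_mul, hX, one_mul, A.2] at h5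
    exact h5.symm
  exact ⟨⟨X, hX⟩, ⟨Y, hY⟩, Subtype.ext h1, h2, h4⟩

theorem four' (hK : Nat.card K = 3) (A : Matrix.SpecialLinearGroup (Fin 4) K) (hA : Cor.Gd A.1) :
    ∃ X Y : Matrix.SpecialLinearGroup (Fin 4) K, A = X * Y ∧
    (X : Matrix (Fin 4) (Fin 4) K).charpoly = Four.pF K ∧ (Y : Matrix (Fin 4) (Fin 4) K).charpoly = Four.pF K := by
  obtain ⟨X, Y, h1, h2, h4⟩ := Four.p4_3 hK A.1 A.2 hA.1 hA.2
  have hd : ∀ M : Matrix (Fin 4) (Fin 4) K, M.charpoly = Four.pF K → M.det = 1 := by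
    intro M hM
    rw [Matrix.det_eq_sign_charpoly_coeff, hM, Fintype.card_fin, Four.pF]
    simp
    norm_num
  exact ⟨⟨X, hd X h2⟩, ⟨Y, hd Y h4⟩, Subtype.ext h1, h2, h4⟩

theorem class5 (hK : Nat.card K = 3) : ∃ c : Matrix.SpecialLinearGroup (Fin 5) K,
    Irreducible (c : Matrix (Fin 5) (Fin 5) K).charpoly ∧ c ^ 11 = 1 ∧
    (∀ X : Matrix.SpecialLinearGroup (Fin 5) K, (X : Matrix (Fin 5) (Fin 5) K).charpoly = H126.PwO.Five.pF K →
      ∃ g, X = g * c * g⁻¹) := by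
  obtain ⟨X, Y, -, h1, h2⟩ := five' hK (Matrix.SpecialLinearGroup.transvection (by decide : (0 : Fin 5) ≠ 1) (1 : K)) (by
    intro h
    have h1 := congrFun (congrFun h 0) 1
    change Matrix.transvection 0 1 (1 : K) 0 1 = _ at h1
    simp [Matrix.transvection] at h1)
  have : Fact (Nat.Prime 3) := ⟨Nat.prime_three⟩
  obtain ⟨hch, -⟩ := H374.Ore.Sl3.exists_cast (K := K) hK
  have hirr := H126.PwO.Five.pF_irr (F := K) hK
  refine ⟨X, by rw [h1]; exact hirr, ?_, fun Z hZ => ?_⟩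
  · apply Subtype.ext
    change X.1 ^ 11 = 1
    exact pow_of_dvd h1 H126.PwO.Five.pF_dvd
  · exact H150.MF.exists_conj (H150.MF.cls_of_irreducible (by rw [h1]; exact hirr))
      (H150.MF.cls_of_irreducible (by rw [hZ]; exact hirr)) (by rw [h1, hZ])

theorem class4 (hK : Nat.card K = 3) (h2 : (2 : K) ≠ 0) : ∃ c : Matrix.SpecialLinearGroup (Fin 4) K,
    Irreducible (c : Matrix (Fin 4) (Fin 4) K).charpoly ∧ c ^ 5 = 1 ∧
    (∀ X : Matrix.SpecialLinearGroup (Fin 4) K, (X : Matrix (Fin 4) (Fin 4) K).charpoly = Four.pF K →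
      ∃ g, X = g * c * g⁻¹) := by
  obtain ⟨X, Y, -, h1, h2⟩ := four' hK (1 : Matrix.SpecialLinearGroup (Fin 4) K) (Cor.gd_one h2)
  have : Fact (Nat.Prime 3) := ⟨Nat.prime_three⟩
  obtain ⟨hch, -⟩ := H374.Ore.Sl3.exists_cast (K := K) hK
  have hirr := Four.pF_irr (F := K) hK
  refine ⟨X, by rw [h1]; exact hirr, ?_, fun Z hZ => ?_⟩
  · apply Subtype.ext
    change X.1 ^ 5 = 1
    exact pow_of_dvd h1 Four.pF_dvd
  · exact H150.MF.exists_conj (H150.MF.cls_of_irreducible (by rw [h1]; exact hirr))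
      (H150.MF.cls_of_irreducible (by rw [hZ]; exact hirr)) (by rw [h1, hZ])

end cls

end Cfsg.Agent.H122.SX
end

-- part: H122/SX/Two85
section
/-!
# `SL_8(2)`: products of two elements of order `85` (helper122, S2464, `E_8(2)`)

Certificates for the framework of helper934 (`H934.MF`): `f = X ^ 8 + X ^ 5 + X ^ 4 + X ^ 3 + X ^ 2 + X + 1` is irreducible, its
roots have order `85`, and every nonidentity element of `GL_8(2)` is a product of two elements with characteristic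
polynomial `f`.
-/

set_option autoImplicit false
set_option maxRecDepth 100000

namespace Cfsg.Agent.H122.SX.E85

open Matrix Polynomial Cfsg.Agent.H934.MF

/-- lower coefficients -/
def l85 : List Bool := [true, true, true, true, true, true, false, false]

theorem irr85 : Irreducible (mono (zl l85)) := by
  have h : irrCheck (R := ZMod 2) 2 (zl l85) [1, 1, 0, 0, 0, 0, 1, 1, 1, 0, 1, 0, 1, 1, 0, 0, 1, 1, 0, 0, 1, 0, 0, 1, 1, 0, 0, 0, 1, 0, 1, 1, 0, 1, 1, 0, 0, 0, 1, 1, 0, 1, 0, 1, 1, 1, 1, 1, 1, 0, 0, 0, 1, 1, 1, 0, 0, 1, 1, 1, 0, 0, 0, 0, 1, 0, 0, 0, 1, 0, 1, 0, 1, 1, 1, 0, 0, 1] [1, 1, 1]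
    [0, 0, 1, 1, 1, 1] 85 5 = true := by
    decide +kernel
  exact irr_of_check (ZMod.card 2) h

/-- certificates -/
def t85 : List ℕ := [
  0x37915ad6199a9d3a240583480acfb172dec68bea5e328edad4475696099da388105bb5ce2f18d2ac4d936367f5cfc6e3d3274cf21417aea4be3b7fa477eae64da53455198d63ac035d58a5d0bd535237b814cb8e8c69db91713cd66a62ecd7f4dbd487a1b59d0d2358ec06e0cdc22fd3a216b19033f57a079561100778e198c94c4b558df466560bec5452234ff3d1ad47ab5a7d633e73d93585937d0d624399a9d0653b6c0fea1969a80f7a959f7426b8fd978c6ec7273f5f837ba2b21e2dda94dd30bf8073e48eaa4d6d53edbf3908a4a7dceaa665c45ecc4e38b3ce2148a9f60e73eccdcf258cb3a287561a0cba4d3075d978afd5f424f144c457731c7436095495e043dd14ee8652d9a21f6822c4a5daffab35d303e46e5968ab36ed0fe01625882cd2b64d633c8427206e1370dab4b809781c1327e650fbc8f5359f5386ef2a3189a7ee72061c8dca9458ba67e3b1eb328b7d3c5e78faaae18dc26bcb3dcb09bb7d477240af6415d178f0a43866bf1aab87e5d920a219d33c7f9cd28fd129d2f3689d58c2d67b8b4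2e09ca4ebdd58324655e6719c938f28caf43ca26931315db3cd7461faafd4be8b43327bb5dbd402b8ec46c52676cbc178998340fcb0aa57927e1c50338b493ceed137cebda3a30871054d4fa8f2bb421740deefcee386ade6c69a24ceeff555ae1234d156650de491fcad1a23e03888feae41546fb151639b3150488da091fd9995e3a474fcb2106d77e24e0c763dfbb54b493b11f57cee17bbe41fd491e359acdb4d6c52ff5309f6b957f5cb0243b7e7df320125ba05db10149ce60f51523fe318309a73c36ca69fc847b58a5e8d6977d2b69fac4f6f4e6e2fed39d9ff666081451d7e56f695a653d8173d969a99363bb2fec7454fd2493e4ed458ff26fa8943bdb13907dfab70d6a4874f2a16215f3e2d4fc537b538d1822d2c5cb0090ecfcd1945bb839b385023ff459b4db583edc30a7a3cf1a4481b2adf1fa9954f18c71175487fb6ed048ecf712407313aa3884987804772b1dcab41b21e7230e31433bfdb7e9c348e1e6088ee0b1c98dd5be9d0d2f4845ef2fafba2b89099ea2564d482469ff44a8a4d613243da587875d90670ad6b0cc55aeef01f16dab99cc0012f6ea5bcb7957535b9b680c84a63e5d77556cf1f1cac103231b6fa38421aae3b298ab7bc3fff1c8db44732917370dc897a95b2cb9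bf9646f32925298dcef6230e2f3fbbe51c482f8842c5669dd65954f2a664a897927c9cc81086a3043b049617e7620cb2f400a2805d373430b8993bcadb52d6f06b29dc4f5ab60a050d467189682a1065d4a9ec87a3fad58dbe9dc1bf04e9b09b872c68335114818b5a5315a21060e41a662448f24cc7782e0b9fee7e3f064a3084f3a150de61ceaa520d8c10238f8d033d6be5dfaebe9ecf103d8157152462a303299a2159206c71d9e3d68f656b7958570f3b9a6e2e6ce7abbba50f29bea65d70355fda20c3d06e5278699d633b79796dc099f194ca4f598872ccf689311fe3ec286251a18bbd5083ccb5ef2bd9d49f93b991bbfda2047f56cb77dee64bf2e8623fe6480026ad8c7d01ed3a9d14aba204d401df313c9c4f219499bfb89cf82fc4411de69538f14434b2fdd11c706cf538ae399e71e1f0fa65a08743db101ffc630a9e01794577d84ad9650d05a970421417e42751f8f99ba473f54a630c1fcd4f98721beae0f4f7b730318cbd006174a4bb08f0cba48493fabb5cdbe9bdd9dd818a1f727891ecd9bf3beaa116ab68245960bd2be59d5db7596afe4149f8566fb0dd3846f53e79636c873520c91508034d72d858b81eda1ce8399fa16637c9e1c1e3e2b6dc52fe3e6761913c4399baf43a33fb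5ec7722210b541f07b7e991612a328d77654866ce67bc550f3784dd9eb6e6f21e5b9771c373c7370f212d650ac2c5d6954cb4fea2c4efb696295844512189c3efe0b1c11866ab98e5a57978672afc090f15a178257d4c83f16e54a9284f3c72b34c5ec83250fb954ffa4bcd50b91a92441e04a0bf7f4a89a010c2f58c57f4ac0b842bcbcd4391e4e1d1bf654029cc7111d78d6a7ce3f4ce8d259ec13479d5cbe186b4d9b6ff4f1b775452d82666a34e12ddc706d6534bea4acde6e076667ab4091b1e79db2c6d4561cd15e707d5672962648615e7553f3614b998660dcd65e08278a5d2cb4e2468d12cc67ba980a587c23485bfc80ce9bac5e36acdc974d8317b78e858a89aa01c285060586b6eae5214be2639a7d0f4b05d5859be5ea128879bb8e91dba405a7f045de2ac8b1bd55319abf4a8672cf21dc21b780b81a36695d388d0ad2b968d67c612e640759737fa3c8e4f1cd8c38d60919034ad89b3f1d7555cb6e44c86d6a94e6ce5d9329b19ad6b7a0b0a46ab88bdfd5d897be76b4979c486714577121a977d1cd106fdbdf868bf3d48772a45e73b9ec612be31c01bb054490f6062a5b29d332339de4bd9adc1c0321c6efb1320427002c38e9d71b6f05a1fc6ce7b122dc1b4462a30ba55ce7bb134492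2f06f207efb02762fb395f487bfd283f3a9735c1c03a19258cbd1f114dfda6be6f5bf9c12b1352bf0be2a7e678bfcfa4e53756221aa6c0b2957c46df3ba36b5fe2c8a7e3d71da5e21e13745126cffc3458f8124c83da8dd3caa9a8783886415e3c8327b2a88639280abf50e178a9a0b0913b0154f1b9cc0b03a30f85862b942b60a15b05f0da05c25c1d399feabf44ff765ba04210b65e079cef864cc157ffa646bc6208e6b02316ea8c719d14cd43f35bb9def02d36fbb312801a64af7c298875934a812b28fadd326f29a5e41a9644a533f80a423cd972cce1da3026d4dc1f5399b1ea078c0aeff5e0d58c14c642b5ba77bfe40011425d4551afaa9,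
  0xe75748e34b6f1247a4815c848d5e1d6b6bed69a873e91f515e8d31b960a0246e1ebaa89b2ee90ef089fd752a3d15f75acde13342dad87874d90670ad6b0cc55a61189cb12fe23c36eb228e3b60cdf54966ae3ff460f61adc8b83844b4514d9e49b3fdaa1c7756c367dee64bf2e8623fe192bf4a8e7adf21dc21b780b81a36695c988be7c4997bf2e6a46a940d5d288223118cff2f934936e33aefbe1512c5a8fe124b24035ed7421818a524e5b69911a354d5abb47ff7ea8ccfa0d5271b3a9afdeb0f94a66f38a4f127b3bc8abca269c0fbfe22bd529313f9aef2f297f14418354dc3664cd8756294e6ce5d9329b19ad305c442eef0fbbb6a6db2a4af70771bea6f072d0e579738fca504f6625609522232235b4f48c3dade8c503d22685f0c06dffc2448f8124483da8dd3caa9a87839ad4f6fcad31ec6b853bb0c9d75ba22d60f3dd036c7e43eab492d05d73dca66a02afd366db6dc42ec46f25283b80fdbcf2988d78edec7647c999eeaefa3e780c881a9ef9db2d6d4461cd15e707d567293b37347f2d0b7ebc71da5e21e137451201c91e37b92fe9343242e62c7b91de80412aded976c866bad5b20a9a0d684b1e53a64df21496ae25be3b7fa477eae64dbea733110f35dfa4e68decd08ca815fc6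efc58b20c4faa5f9dd00517b06aaf548b42fa05c69c94b66fdd4a06b92ff1a9040e4f702487b13aa3884987804772b17dfa13d6df89b54919614a9bb6f51c9f37707a2c86a24a4162785ad5747cc9639e5a96f1427246360f212d650ac2c5d6de5aeae6f53e1d92b1352bf0be2a7e67fafe23b4ae20288779e1d40625cae50ba49b98bad509bdca5ef2bd9d49f93b991427d2d897bc161b99363bb2fec7454fa37b0891a231475078149820ee1ce188acd3d531e765e6250567438b6c0c3e0a7afba23811196aa464d482469ff44a8aac05bc67e0401498040ca0a1a2588fe2d09851aa743f33e7450b3777839ef25217a5082dd2b74ce33c8427206e1370da285373e81d5943d67b8b42e09ca4ebdd6830f43695631c60be1dff817c8ea229abd712ff1c51338b493ceed137cebda327d34d75c10b9072d89102a3b64a3ded4f9cb49fa21ed18dc54c55aabfc28692162964cdd75af74e1c0a43de36f570e468743d235db40d4a59714eb53bf01d91a011b6bedf3544db0b4dd330c47acd5e048b816ca0ce8218fa16637c9e1c1e3e5290dd38a29509027db540591fbdbc5bebfb8b0a47aa093cfd5d897be76b4979b7a76b5069c455f9d0b3c0add4e1c90f356c7623a10bd59e07b7e991612a328da3959386461c1f3d68f656b7958570f338266366cefa3bbb50f29bea65d703551645474149ebcd74d736b0180a3a5ac73d55941125df7593d742dd55fd6b7acd546cdf28ed88581803c1d0d153ecd59d2bd03de696e27dca22f0caf5147ea8fb,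
  0xbfd083732b715c9c03a19258cbd1f114f870bca212776c40586223c0f859977279c23a48531595cffbd8aeeb4a065dbb8fb3bd6b2af4c48cf85553fbfac727a6c9f0e5d4d16ba5fcd91a83f04afb379ec1ae7702d686a8d789218523144609101648955bdbf7a8d681dbf0d91618b87e52d5e2c0a30ab38310aaa93dc1a39b39b892c3648872c4f253129f08540573da518b743bd7f5cb8043b7e7df320125ba5388d02fa9948fe7c612e640759737faa51a98b9d78a3ec95ef2bd9d49f93b99e9fa8988c62b0a3ffd5d897be76b4979b7a2b0a7541e6b0476b09065eeef51f06a0fa51551338930e056668cc93105ba8d83ec289cc9bc1b79beef1a49b4679392ee868e53f419cb77d339c499f446b9a2171204c59d1ebf68f656b7958570f38d313fe9aa74c48cf85553fbfac727a6eb6f6ba9f36a9f525e8d31b960a0246e9f9b4ca6f79a07aecf689311fe3ec28629d2f3e81f5a42547b8b42e09ca4ebdda2951284479f1ebd68f656b7958570f388188b0b11b2954f1b9cc0b03a30f858a71a983b558a3ecb5ef2bd9d49f93b9913b7033426d35c478465a0f3a57098b838a37a3549155d94fa1463fc690b5f5150493eced458fda4fa8943bdb13907df360717a028d6bd64cb4f6047855f9a753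ad182adae5e300b0ecfcd1945bb839b7879a0381219682764d482469ff44a8aaa57907e1cd2b38b493ceed137cebda385db92169ee68dd1523fe318309a73c3c61e86a0bdff4889a010c2f58c57f4acf79d08f5ccbba9279b671aac3f8cd590682fa4e49864526c30a10d1181145a2bdceb510f14c3cbafdd11c706cf538ae39b2bf4a8e72ef01fc21b780b81a366954ce42b5b25fbfe40011425d4551afaa9a4bcee44c5301fd53eaeaac92ea3bb5739230713fcaae5fe351eda877e94ca099f660f22abdfcc3684fcc552b1654a89b1d2da8c26512dfed551924e5e2e6a2915fdfae6ebc4a00c6b02316ea8c719d1c9d65f79bc3b570de0a5352261db6df4cd23d058b18c48b361ff12636753e509b60801026deedd11e52b21409a3c30106d6e412146a2c3d616f2dd6ee8d436f6501d1ea43ab260f95153e90c433860bec3b0dac689c86bb76ee8a86aaf5d62d10f8cb8c8cbbd29b5cdbe9bdd9dd818a19db9a99a2dea0cf089fd752a3d15f75a9de68da2a9dd4c3684fcc552b1654a895f3756e92210348c2a77e99d9ced3d7fabe0182b541be6a365b53181cc90248eefccecad6dbbdb7f666081451d7e56f6b2644fca3c608f42dcd87b11bafe57dd6318546047c3f9809585b8f90c0153c3f567cae44ee5be550f3784dd9eb6e6f253e31b3150c88d2291fd9995e3a474fc93b9c954abb00dd38136d769a3e5b29f511852a9f53eb366450b3777839ef25279edd8e5609edbd7e3eb6e5053fd2294ffc0ae71b31bde4133b0a1cf74733258,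
  0x675548e1cbef10c7a4815c848d5e1d6b78dfa3349009015f37f80847e041da0221171104c61e9dbf68f656b7958570f3971480c79654b41e6442f42994206888b0f75bf92e57f425f144c457731c7436dd244a694bc32e9fcf567d0cbbade328de58ea64f7be9d90b1352bf0be2a7e6795a708ad5035cee33c8427206e1370daff5a8a2d6adb2b804e662fd0e301f045be3e48f729c767bb9ec612be31c01bb0ddaac2309df0b1631433bfdb7e9c348e1ab9ea9e38c0d9ff045de2ac8b1bd553c490ac4e5f5642af7b8ffd5446bdc4e5206e7f9082fc274325804c4bfa5c542c50105d3aa09509827db540591fbdbc5bd4c2385af36c7c5f0dd406f28ba44d9aa9d710fd9cd1b30b493ceed137cebda37749ec893174ac19224e11477972d357b18b240e768e60cdbbade4ea8d1463dd1082eaf98a514bacfa5c0e48158ece7e0f70e2a577d1012a7846ef59c5911e023952812e2dddb08b0ecfcd1945bb839b444f7cc7122cc409ed39c9d2ef82c1d3bc8dcf1c58c30fe0919034ad89b3f1d7e82fa4e49864516c30a10d1181145a2b08980b8b12b1964f1b9cc0b03a30f8586c7eda328e4daadd9dd00517b06aaf54d2fc64a6f12b6a488de2ec8c4f5ce18b8fbfe22bd7ab33bd9aef2f297f1441833622c978f14ce82438d415eed50794f676260a1dce9bf23daa116ab68245960b73645fd5235a5daa4e31c6ae3fbc221b,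
  0xa6f6f103955178f97c24bce6c7a4b4704df0e5d053e923fed91a83f04afb379e6cfbc7450b0120483da8dd3caa9a8783e40402eadc43509ad3a9d14aba204d4093dfbddb47a39b45274eca8235591350601314d37980291250d05a970421417ed75bb06141293b86eba9384eb18f6d3fb1a1ccfaf64a682038d415eed50794f6bc6f2d8af55bf3d0592f58c4ed0acbde6e701b925a3d1cc0012f6ea5bcb7957547451d0d6eb66b1426c530766cc00a311b99c824f19c83accf689311fe3ec28648cf5589f4e6560bec5452234ff3d1adb34c5eccb6d07b914ffa4bcd50b91a923fe68871487a7e92280d62ddfd9e5106de7ef33ba64cf4bd8ec078bed925eaed110966986ea520d8c10238f8d033d6be85df94149c620b55523fe318309a73c3a0baec4047b09bd53eaeaac92ea3bb57ec7fc3410f05a0483da8dd3caa9a87830742dc86f5212d757a9d552c0919b32ab2946df7e24e88f63dfbb54b493b11f571ab6c76c37a1b9bf0c7857c03ca5a680b802fcf49c39564e1d1bf654029cc71a1b0519909e32c035d58a5d0bd535237219bf9814f9d1db38b96fcd10644163f8d6690b33cedbc5f33bd2ac90a98495c28dc76f90159ec4f31eba994ff1f08b3472fda7de7bef3d93585937d0d6243992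a693e31c301086b4dc3d702c8360477bff6372cb3e5947cef982a74d4e173fcddf8bf0f50e9c2bad9e192ea43dbd6f76e1c1a1d3e5a60f8246be1af4d605e0eeb4eeeafe9bd5d7b666081451d7e56f6ceefd38b51d91b632ef4120cc7efbe4d26fcf52969e76d181853fdfc23fabf0a35b44da2746ba0fafb02762fb395f4875c1f589750f9ca0edbb6ab28782992a05558b260cc8652a94e6ce5d9329b19adcf492823c94e9041cd29024148bdcc353d26e2664e7e3f3a50f29bea65d70355fc4d7c140f8509cc07745543a00ae145b7e68dd96d77bb5c654de6d0e1dbf0b31adb93f543f3c3330f212d650ac2c5d62de778d44d7b0b2972978e266d785c816010ec8b154106d2b63940550f02b2fafff8e858a81ea49c285060586b6eae52fffbb169139c7138f4c56b79d6ed8ec0fd8015aa9ee64e60a6a7aca14045cc53fa0361f8ca0ae076fe0e7466f277d0e795765ca7317cb845aa242bdbd649ab7afa28a9ebdbc076061bf7f0a81f2b7f2a9f3fde24c771e8337dee64bf2e8623fe85180bd6f2075503f01d722113929605d2905cbd22140c077db540591fbdbc5b35b932044c4a67e5d77556cf1f1cac1062bd42b28a95345f0da05c25c1d399fe27a156ade1642a3448774d8ee525d23bce52c2d721c10b7ed2e15f193fcd6f86213a2e0b4bfb730318cbd006174a4bb08bae620e675736de4de8e41eb80e288b30f55d7cafd5f0a4f144c457731c7436d98f67a05b1fe6e1a586d2d5961e1da9fc7bf13fbe1d5b45de42a47f4956518e,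
  0x22f4f254e57df30fca504f6625609522b4a4497af3cae82038d415eed50794f6ed31811dcca9ee9a17a82f6be73174c7593243d4e3f418968f28caf43ca26931d5524f7239146e80f6513c1701b33872995e85f17a88f810eaed010493993685d62cbf046a4a43cebf19dd5c15e2105a9df6cc45176292951ae30b81f4fdbb454b8d48d0d5cbfff678a9ec5884b8c7df124543c1496bc9f4d736b0180a3a5ac7d068df286d0c589803c1d0d153ecd59dbb53c480398fedd2b33d3a4e1098935160d3d7ffc599e0b43d3fdc8d82946055d24c3bcb5058fea2fa8943bdb13907df2726b1b4708cbdade8c503d22685f0c046143898670a1f2fd4cecd23fe278d46ecbc49d30c2c60be0e8644bf8a7c3d1b72180df8e9e8f6c3c999eeaefa3e780c6886581dbec68cb544f959e8d5953f4b1ade16754676c6b60f212d650ac2c5d66bed6d2cf3691b515e8d31b960a0246e0a4d61f650e771282ac422c5f8bd6136e761879562d53b3714b998660dcd65e077644962cb6739d50f3784dd9eb6e6f2eb3905d1cc4dc5b0693f3e064bf0674722d64808d7cd59f030f6c7bdad76c148b4314c27f1ea207ffb02762fb395f487c11b81203e7f4a0ca010c2f58c57f4ace10106eed9c2501ed3a9d14aba204d406ddbab8e5a6c793256b98f2acc370d84e0a7c96b2834e64eea61bd690b82d8a8768f809db52219cf41a3f7bb20a7324e,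
  0x38b69386f2fb5a5d2eda8a1fcfa9aa7667015e6ba486fc93f11b78ad2e1340395e22fcf78507105fba4ce25de0696dec47168a761f0aa2cff3a3dea5241beda181188dd476075105f01d722113929605451c42fd775787c3dfaed945a27e835d40ef9f71fe1df9b61b4338899bc5cfbf106d3d17e3fa96dcb48780ca54ff4629f79d8cf5c83bada79b671aac3f8cd590913854c81a64d8577436dfa9cd8b5f7e053e8b267f69535e72cf2f83fc465f9986f42d04e7d1aea42be66a64f710b2677c7d24b812996ca364d482469ff44a8a1982e9b7437d6965cdd3be9922b885621c69c16b93b3d965360cc1e38fa24650914ab07e24426db496295844512189c333d9354bf2e1feafd4be8b43327bb5db8f39b7ed11268db3b58bc4c32c21e082ff976fb17bd52e9e31ada0520e866675888bc95e54a137059632c7ee6e3736f6910964186c23a0d8c10238f8d033d6be2956f7681bda46d47b8b42e09ca4ebddc860af5f25ff7e40011425d4551afaa976c895f79e782d1b836d2966a599357b9e628a6c8f9a18d95be9d0d2f4845ef26170bbe8e39a46e9a4350d81dcf21154358bc4c5b3846b7e24833719e5e1bc8c66e3745a6cea1d70ff998d4fea210bc7bee10b68341e2ff679912aed15b3d86566b946b68e91325f0da05c25c1d399fea890c5868bf988503a823b797be40a8f38fa0dd76169bdb24d70fc0cae193523,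
  0x93d70aecf96670cc8d259ec13479d5cbb1080301efe9df93e52b21409a3c301011c87d2c9bbfc45a5cbed5f0ec5e7855eeadb20b26ed75851c8dca9458ba67e39717b77cecb96d76eba018b6c03567cadda4caedcbc3aa1bcf567d0cbbade32874703466e10bbdd2916787dc31c017fee54f5ef83db18b9f7b983ac9fc396d5aeaffa81f9b29bede3565af16534b95776f09f748aa651ee4ee8c5efebb637abe67d5c8e5cfef14c7a4815c848d5e1d6b703adcea97dbdf6d7cd019763506cae822bc2d0e4e7ef60618cbd006174a4bb08f3f662f532bb33d9aef2f297f1441830b373aefa9f0c008f85553fbfac727a6ff44ad72371bdd4233b0a1cf74733258,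
  0xd044a1df5e9c700ac982f3baf70166c431e33a8375bcde78faaae18dc26bcb3db9ae6a6e4e72b3ba50f29bea65d703551f114ca4fd180f24cf689311fe3ec286e545c9fdb1131ea878c0aeff5e0d58c149f06d5453e1a77ed91a83f04afb379e0ef62b02635d2ea62be66a64f710b267aa9d9a06c7151ebd68f656b7958570f3f94c2bc3d43d6adb47b38c595ef6a19d7835cac32b83b788637aef7792434676a7797bd96df17386ca504f6625609522ea3560e724bef91b3616ace974cae4838a9a8b8113b81d4f1b9cc0b03a30f85839dd3fa29c7cd428777cb907cc16387a35d51418a55e7513d742dd55fd6b7acd31a66a6646f23b3a50f29bea65d703556f6ec923c428cb5e16f2dd6ee8d436f632bebdfea482f63d71da5e21e1374512452352d0b98c40b161ff12636753e5092d1a1033558834435ef2bd9d49f93b997c037838c48d513da81e1b98a07c3c8de490688799c10a56b63940550f02b2fa999f11d028b20dc38d4673eef131f34e848d45de5621bb039632c7ee6e3736f6b81091367074df54b20540ff3663a53acaf5978791b2cfbf54a630c1fcd4f987cf3aa7d30e90a2855b9e2723b7bf95463134412af86f2076fb02762fb395f4871386978763c547be124c30e646dd6d3d6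a989291be52e470246be1af4d605e0e3e7cd6a81808bf87af0b0c1ff3709904d4836843075aefc150adb22a623b51f71e26d004621233cb582c789b84732594db8976b9df7dc30a43b7e7df320125ba46c92dd26cb525db1bed064ab40d1122b890193ef0f4df54b20540ff3663a53a4c7d23e8a8d8dcef189682a1065d4a9ec1f2826af64fc8416fb3bc81484d6eecc381c0d4d5c7fa7678a9ec5884b8c7df2adf92fe14d83b8b493ceed137cebda3bb153aa37948580992aa063747bb0196b43889789c1ba7e650fbc8f5359f53865b805025231e85e7c612e640759737fae9adb341b564fca9818a524e5b69911a6fce6e276d31d17f666081451d7e56f6aff1fb51ed79f386ca504f6625609522c8932ad7972915c718c71175487fb6edd82373c76f7c0b29d4a2b45a26fb43ba9eca9d5953f5a0de81dbf0d91618b87ee3e5e9a1f3e81fd85e8d31b960a0246e9997115028b205438d4673eef131f34e8fae6a826bdbb25e4de8e41eb80e288b50cc2157d694700ac982f3baf70166c48ecd6cfbd063fca02ac422c5f8bd613659612174ee4936d5609bb5316f7264dff112c128ced8467f8927ba3d4cc79437abe54daf6b6e769913c4399baf43a33f4fa3d2fd63b67bd93585937d0d6243992f876a3dc1ad8ddb64064b5f6edbaa99a42c7b4528bd714c8ecf95078fe5d6c7e8b68f682c3779cd622fc6907a1e895d47168c76978828c3f3a3dea5241beda1c5613a4bd2d0f07dd90670ad6b0cc55a0e2188f165b9e77ee20764d6aadc47f6,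
  0xf96cd557a9d8dd224e31c6ae3fbc221b543859cfe1a656523285b168778274d7630e5eee8af544d64ad52acf87c7ee36d5d6b81b54bab18cd9f07a6cab24c6e4aad24c8cd349517030f6c7bdad76c1485267a1c9922fd86f88f9cb8de74e41d9b5800901e7e55719e52b21409a3c3010ed4dc87c399a96a178c0aeff5e0d58c1636569a873611f515e8d31b960a0246e9fcfec218d17bde70ff2cf37dd70b3e277ec41ee4fe7355d0f3784dd9eb6e6f22db45d198deaa50a5d58a5d0bd53523707a5e7c69b2d466ef555ae1234d156653f52b9d714f88c87e88b946d6f51f3a18fd75b60f6c8e0401311d61265ae1759e4c3b4d731d2b59cfa4c663c36986d220c223170cd98b8174bbee5b880a7e17baef06895edc34541a6deb48cd789d4a73ed232e2858fb8256909592edc0c7cfa6fe0384911e72b10e5a57978672afc09e7587897ceb8bdd5d39723f7ee72b0582e4b5b4a9d85da0e37f360724a4b6c502c57175abcd686af609466ee2916d3aa5897acf1cef635bc1fe6217578a4bec8a32945812d8cf9151b1c596367a32f7320e475920a7e254b25804c4bfa5c542c8a1a838992b19cc71b9cc0b03a30f858fac585eb93cd90756043027db2e544ef3150bb23f5c006515edf1e5af8fa7441a3af7aa2f5d3ad4aa568493ac042e690d0c529d65f14f00ac982f3baf70166c4e0ad2464926653e430a10d1181145a2b,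
  0x70737befab898688dfa89661c660c0c5200f5bf9c98b8399bcadb52d6f06b29d86078f9417585b672c6d561e467e06d861fad60be47ccae9b492d05d73dca66a4d068d84741780ada0239902ffed8f520d8b03eda1440991fa16637c9e1c1e3efe15113aaaa42c70f064958d608b52e74763bac95850f075d90670ad6b0cc55a26f27da363e961101853fdfc23fabf0acabc0f37408c633ac5e36acdc974d831dded54fdd0242c7e5890ecbc9406adb730f6895fe1613db64d70fc0cae19352366a88f2854f191ee97c175506bd11b3c5e955c19dc7d4688dbb6ab28782992a0403fce538dfd054d09b43889e783a84de602086852cdd09cd3a9d14aba204d40b77a3b2235e39efeef982a74d4e173fc5e54b11bdcb9b28dd9f07a6cab24c6e45030bcd04a5b6eea590949909363e73273e457dea35156294e31c6ae3fbc221b235af9609dd24a547b8b42e09ca4ebdd3c86c79cd04b8fe0919034ad89b3f1d774aaa5ad5b2ab516b5ac2244ff30afdcbfa2b0af549e630c76b09065eeef51f0520b5417fd83390871b32a453f01419e8309d2f5281a986731cec4d36bc686d58d3d6ba9d5a1b13e9aef2f297f144183ec7551b985cea95e9dd00517b06aaf543bdaab1eeabcf0a1c1632b8bc7dd15fc76c71878339083dd3e0eada9f18dca61a35a79e095d24a5c7b8b42e09ca4ebddc1fa8ae8fe4dc2416fb3bc81484d6eec,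
  0xa571ff22e26be3101853fdfc23fabf0a6490e18f93c2085db63940550f02b2fad8105d32a81d810a7db540591fbdbc5bf3ef586f609d5adee3eb6e5053fd2294285a4c8c5b43d17030f6c7bdad76c148d22211c2c87141fec696e474d9ced6b0ad4ebb08d03e4aa77bb473f85210919eb0a2b2e27d380fb42a9a607a81fea0ddd0ea699dc04ca1e92996a9212d2ad5940d7c2a08ebd62dac2be66a64f710b267172e59e58e9ed52afe480c5674352ae7bff07a260ca8ca4162785ad5747cc96378f8342199ffec48586223c0f8599772991bed2c97705f83e64fba17a4fbd7c16c10e18713420855b63940550f02b2fa88988b831a3116cf1b9cc0b03a30f858,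
  0x8a5fd2e0fbc560401311d61265ae17593b95d65a15161db6240583480acfb172200953f7c7838197bcadb52d6f06b29db8aeb4748915724e300fac7e5def2bfd5eb0f1466e72864f127b3bc8abca269cfb57812ce15523064e662fd0e301f04531106f1ac3c15138d95b40465c0cf22f38f176d32fd4938c66e39c748bc72dfe51e717b550408d2491fd9995e3a474fc2c3d5f1d3c5804f2b75061e9d26c4802657d3c26dcb8894759714eb53bf01d91dbd263ea7d3b1c92b1352bf0be2a7e675ca3c5369af634e71433bfdb7e9c348e94570dfc7e807010eaed0104939936851a6f43e480ed08a07209ce08024c7d6b8df850bde92effd44ee777199e453f38639c163d27aaa34253b578d1e3893edb63f283864a2784b9fd5d897be76b4979b5aae6eacaf2b3b650f29bea65d703554c7923e4a4d4dcef189682a1065d4a9ed0b03e5042d36ae2590949909363e732ea51719acfb1bcddd39723f7ee72b058a5e7165762c5fb254c491981ee8cc9b5bc3485749813abea50fbc8f5359f5386a1231815ada2cd27cec415fcc97df941c8f298bace3bf6f91ffa6fd04f88c4427770e050a016241c285060586b6eae52ad19ee7dd399b5d5383ba8446e5ac253d29f4acaf712ad41b4462a30ba55ce7b97597ff8ac35e9e2853bb0c9d75ba22d5dd83a68cc0e5aa14e6ce5d9329b19addcdab19758b3b489d9f07a6cab24c6e4,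
  0x7ca688bd0f6cab0e99d633b79796dc0987bd01be895a902bbd7902e3cb7033208696838512b11c4b1b9cc0b03a30f858f69aeca6da49d1a3a835d8e03e466372265248885345d17030f6c7bdad76c148e52cb6c4bd697825818a524e5b69911a33495e4136d0731c4ffa4bcd50b91a927c2288bd0bec2f0a99d633b79796dc09f7f46833ec537ab8b84999e53493cd9ee473590768fa4366b492d05d73dca66ade64538a1842c22add11c706cf538ae34e9a4976f75f0f45dfaed945a27e835df0a312c919ede78ece98d68b7bf18c2ebde8fe232587d91e07b7e991612a328d690106e6d14a509ed3a9d14aba204d40c81b451723e078224ab7ccf933b66309,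
  0x394ad4b5cd7e7f23ccfa0d5271b3a9afff69426c4e6fba5b0f3784dd9eb6e6f28d06c4a6128feacbe4508c2517c4f2844847d98b7a6cdc85ec5452234ff3d1ade890628d91c3045eb63940550f02b2faeca5b0e9ac839453f5ad8d7d578f1f66504a215fde187004c982f3baf70166c4733ee53f82f8c96c8e91c7addc6f50a5335b4b2f6d8eb63ca6db2a4af70771beeb3cd1a20c1c9b96caa9e1ed51590bb9341643ec80f24cf653129f08540573daa4dd7c84bb5df59d41d47744d254b4cd4afba76222d2da6d189682a1065d4a9e8414878395b299cf1b9cc0b03a30f8585cbed01cb1d70b7f90ef36866c4a6e39a8da7ef901d1eac731eba994ff1f08b3,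
  0xb152052a29d930830ecfcd1945bb839b7e756c2b1386b7de9c817e51b68bdea853e717b250408a2191fd9995e3a474fcd1a72c1243e6334b61af5c9809864cbdb83d920d71fa595f2eda8a1fcfa9aa76086f56ef1dbdc0f7520c91508034d72d979fb77cec39e5f6eba018b6c03567ca6b3c52210c9c1b15caa9e1ed51590bb9,
  0x905b35deaf9842ac4d936367f5cfc6e3d406f1c5e7829a977d1cd106fdbdf868fd1485aa8e76ce60a6a7aca14045cc5342ad2a017bcfc7dabf19dd5c15e2105a29b66276ceea2b3a50f29bea65d70355cc01186a20c330d9617e7620cb2f400ab181263e4e34d55b0b4dd330c47acd5e5402387cc6d5a6f6cbc178998340fcb08f6310dc976dee05b61beba80ee20f2052c93ede5448efa6fa8943bdb13907dfd7ab5aed633ef3493585937d0d6243994dea6b697ce10348157152462a303299e60da0b077cf8b2de220611c8596e930c47f9ff1ee8bfd221b4338899bc5cfbf16e6bb026355bea62be66a64f710b267099a2a8ed7a0b7f80e04f29d344b1d642c5c767d1149fccb31eba994ff1f08b38b55676c3cb1edfa853bb0c9d75ba22dcb09ab7dc762d03f6415d178f0a43866b290fd77f2ce0c763dfbb54b493b11f5d960e54453e9376ed91a83f04af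b379ee2b9c2a61a85b05f0da05c25c1d399fefd59b33ad8995d194487054c42db793458a0be40d25beef2590949909363e7323243dc1c53c9586030f6c7bdad76c148a926e2e6ce7aabaa50f29bea65d70355b87eaa2bf61dc5ea1ca73d757ccf626fe116b459a66fcf9b775452d82666a34e370fe2a5c92d0d4b64064b5f6edbaa99e965bc225ca41ddb59714eb53bf01d9141e38bb140c81d3091fd9995e3a474fce5cfb915baf43ed185439e7994fad2561b14ab4b5d4381e4e1d1bf654029cc71d5cc26f45c16c6a94e6ce5d9329b19ade4c94b73064f087a1db94cc5e32cd4c7c16cf4b770a9f9588de2ec8c4f5ce18bafb279d4a0dc988cfd08eeecfb482ff82f3d5867ba55e73b9ec612be31c01bb03427fd16d99a1b9864fe6b6abd05c5a88e7b328f1d9a29eaec38b67be3c99067e41012fad857c08ed3a9d14aba204d40954c347eb244ef2696295844512189c332f64d583ce00f50dcd87b11bafe57dd29b6f2f65e6a3b3a50f29bea65d70355039f84da494b57a93a33c6bee652d25e4224152f480cf92ac5e36acdc974d8311faef20ae3c322ce4de8e41eb80e288b3791cad6998a9d2a240583480acfb1729635183cd2b65d733c8427206e1370da0da447a291f3f0dc897a95b2cb9bf964a89174c6d2fbf3610b33b5ca187af5cc488b2adf9f39855f18c71175487fb6ed6bfa0b0a463b08adfd5d897be76b49794edcf52f95c658d379510d7b4fcdb8f22ac782ee9cd0a31b493ceed137cebda31f1cba5859af2bb5cdbe9bdd9dd818a17480780f815112d6b63940550f02b2fa7f60a15198762b88e5a57978672afc09c84c21cfc694e802c982f3baf70166c46410026ad857c09ed3a9d14aba204d4057861ce69f18305bf3a3dea5241beda1b4b819f88c93377650fbc8f5359f538693ab4bc63ba20fd38136d769a3e5b29fac9e34272af2e26eac8368cea5457306,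
  0x33f1cb3fa7d504b72cf2f83fc465f996dffd2c41f11b4d83da8dd3caa9a87830d232c7bb9e4c41cf85553fbfac727a61c0dcc5f46b033129632c7ee6e3736f6bcd9100955d45d0770fe160a746f201a0bc2fa15c68c84366fdd4a06b92ff1a92e3cc8e7bbd5672b9ec612be31c01bb094a75248973c868b99363bb2fec7454f5fe2c05a9cb1167a2011f6b7734b3ad9d929535c9b490a626f89a2619a45268eedcdd074a99a8e2178c0aeff5e0d58c1aeacd8773bd5f7ab9ec612be31c01bb01f13d233811efdc4e4508c2517c4f2841baca7ee84371aa5b58bc4c32c21e08210c4ebf27e7ab1084c2615010c7a80b122f2c0e76bb5dcad208edae5270ee097fd21159d48b9fe9a17a82f6be73174c77299ef8a5f9205ca1195b6145d0fbde256346365ef13a2cbf9af3bc79de449e091d70cfa7df2645e8d259ec13479d5cb5690289cf71a8babd4cecd23fe278d46bbec45aef3f7769813c4399baf43a33f3980e6964351d92cd95b40465c0cf22f38a6e3e64e6a3b2b50f29bea65d70355dea0e94a66f30a4f127b3bc8abca269c49e065d4d36827eed91a83f04afb379eb65f1d08a723c05eb693b4d9b81fc941140b116c305e1288fa16637c9e1c1e3e99ca5df566b381f3051cddf10b1a73dfc85d31ced794e802c982f3baf70166c414c8d565eb95f4412407a1c516fc96252ccde7fc10d86d5b31eba994ff1f08b3,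
  0x6d22168ddbba7c8b17a82f6be73174c7e8f03ca292f76cd0586223c0f85997723581485699889d28240583480acfb172bc5ef6fd01597ecb31eba994ff1f08b3cb4216f9bc1fa74e995ae44f1d13563dc496619f5a480e6ba31b6fc8c6e598e903c47970fcf821084c2615010c7a80b15f54a7e45533085864a1960243f1488af5a44322049c9592caa9e1ed51590bb9198b33df3fc2247f8e96877159cdf18a23ac2e0fcf6b731318cbd006174a4bb067caec1aa2642c9a224e11477972d357307061138341687d7c24bce6c7a4b470761162aad41d43bda81e1b98a07c3c8d2ff16c46cb7f1b2d72978e266d785c814610a8ecd4c73476cbc178998340fcb0235e0d9d927ea36816c682e13db2c438d6b7d4e2d7263a0565d5f88fbd3488a0a5f49893cfe9c3c78e51b595039c39ebe5822ec6c58e09b1e224ac27b2d1f4eccef340db9f21077b2011f6b7734b3ad91a507916459d95246fdd4a06b92ff1a94824c255fe0a52b56e7fa4ee9b8689ea040b3a12d4f6859bc95dfe9380bf7caf7bf7ae32ceb40d4b59714eb53bf01d91680faaf4707a071933f1dd880fca894e66021068da57c08cd3a9d14aba204d4058eaaf3ddac979de1bf04e9b09b872c656f73b6222c2d665189682a1065d4a9e207dff9011ec375325804c4bfa5c542c30dffc18a5d7f39f41d47744d254b4cd49fa1a78fe554a416fb3bc81484d6eec,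
  0x8dd0aad4b8a4114afb548e5cebbb93b9deb35058221cd82361ff12636753e509dcdb561ff564441aec5452234ff3d1adbb6ec7be7375f48a13c4399baf43a33f0f70e2257751013a7846ef59c5911e026288da21cd41d46f8927ba3d4cc794371aedb6356068c9df2bcdee0cf877fb25e661efe340e2bac8b55cbdb484baed14669f08674c3aaba69b671aac3f8cd590c4fccdb8ff1ad89803c1d0d153ecd59d1f70e2a577d101aa7846ef59c5911e02c51028ec5447b475cbc178998340fcb012d74f26521f20d08802254592ac2c53bb8076945343dbbcd95b40465c0cf22f9387b3ec6cbd79f2eba018b6c03567ca2880132bd724fb86e28e400e8ab0cb5b,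
  0x8e5b93e1c3e3d3330f212d650ac2c5d6e9a6082d1271b31699d633b79796dc096bca6aaf6d3959eb666081451d7e56f6b19e983b551c2cdb5ef2bd9d49f93b99ab668ead568b72a365b53181cc90248e1f182ec8c93bab35cdbe9bdd9dd818a11e534e68f7c560c81311d61265ae175968bdb0708a72467830a10d1181145a2b5c034e8b711dbf0671b32a453f01419e1f6523f94b1a07d134fd0d826e595bdf31b0519909e72c075d58a5d0bd535237efcaea2be9bd5d6f666081451d7e56f6e7055af926127e81f11b78ad2e1340395406a8f8d6d53672cbc178998340fcb050c5a84f61fa7a5b0dd406f28ba44d9a5db554eb2482b0182a77e99d9ced3d7f79efdef7e08adbd3e3eb6e5053fd2294cc8fc887d0694a1edbb6ab28782992a050dae9c625102e3784a3f831040d5361f0b64cffb821f25aea61bd690b82d8a85ed871bb91d248c379510d7b4fcdb8f2691dd924879960522454721ff4e79d3610fbc7f396364863520c91508034d72d8bd17378bc25f9ee853bb0c9d75ba22df699fa80e703325bea8e10ef37c3c778a1b45922e46f20eafb02762fb395f4877018775d6229bd3081f86b40f971d1943342e924d7f5a2cc96da0eeebdd631ca31b0d18919633c035d58a5d0bd5352372ad386fa98c4a30b493ceed137cebda35961a647cac8e8f5d90670ad6b0cc55aa709f5b1573bcad216f2a1cecd7b8e26,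
  0x70b7c97bb82476deea61bd690b82d8a8fd33663719f0d46a8e91c7addc6f50a58a1d6f84c31fc7e4edfc1ade354e0aa1b6c2fca157f5225996da0eeebdd631cad2d48c0cefa7eb8126c530766cc00a3165c7c95b762a6abd5cb35add4329d7e2babcc8732fd5f3ab9ec612be31c01bb0a6e30c4dec76bf59654de6d0e1dbf0b3a85d0419d150c91770fe160a746f201a8ade9665466656360f212d650ac2c5d6deecc31a90424abadd11c706cf538ae3811d2cbb239b647fce1307ecf39bd887d3cba735bdd40f9b073a9ec04633dbb70faf663fd53da5ab9aef2f297f1441839aaa2c8f3a691ee089fd752a3d15f75a92543fa7446a62fe3b8f7e0648b63364,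
  0x41659d2340d80ba291fd9995e3a474fc786f5c1ce6daebd9cee2feac79bc636653583470da1654a94e6ce5d9329b19ad1cdb72e54067f2a82ac422c5f8bd61360cc9f26740e572382ac422c5f8bd61369b3f7038f72a648bc21b780b81a366959b12fbb5d16febf7cdd3be9922b88562aeb6b17e3a0e7cb971da5e21e13745121d2b35ef93b61f31b58bc4c32c21e082f9712aa6ca300b5d59714eb53bf01d91f37c1231b1da8c8be7ea18db4fc1c26fa813c765450f0b85bcadb52d6f06b29d4d5b28374b5e8043cd29024148bdcc350c4b72e5c067f2382ac422c5f8bd61360e44ef12579b93b46fdd4a06b92ff1a9024b9cb7aa3e6bb13242e62c7b91de80,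
  0x72812d51528d1ea6e224ac27b2d1f4ec0c8c0f0b862192df1b9cc0b03a30f8589523dbf08eb1bbfca8e56f2d5d6176d3da274448a218c8a361ff12636753e509d1b3d0e1d335391665d5f88fbd3488a03e3a4877ad53f72f9ec612be31c01bb01d44fe11568a92b46fdd4a06b92ff1a9d133d061d3b5a91665d5f88fbd3488a0,
  0x77d676bf753151f7666081451d7e56f67a1532ec6a780f1133f1dd880fca894e37420bebb9e35c9c03a19258cbd1f1141facdcef026039f6e7e3f064a3084f3ad31933fdc7eac8b76415d178f0a438661dea61a6ed4208b17846ef59c5911e026e060a5dd7df0574874b38a16c2c620c60cfc73654d50c33a9297fbc62987360ec80f81781c90a4eb63940550f02b2fa58aace4dee619c8b8f28caf43ca26931557cd12345a887f6fdb2918816f772273afdb2a1cb0110f74dc3d702c8360477243f4021c2c8467b4be16b3d610cbe4ffda80c9dd138fe9b17a82f6be73174c78631e4dc475b67d61c0a43de36f570e421b63e17d773630318cbd006174a4bb05de12243dad07065d90670ad6b0cc55a9bcd677cb429fdf2853bb0c9d75ba22d540910f220432859617e7620cb2f400af555416d39939ea878c0aeff5e0d58c16f4a980fd124b882b28fadd326f29a5e4c960ca03f775a11a010c2f58c57f4ac0944f3e2767221104c2615010c7a80b1137c7256c36de2a1aa6c0b2957c46df37da8049d5938769317a82f6be73174c70f21b0e5e88d5ca9662f1c1377c56f5db0ce5c09de56c6e3fd864e4895661042f169c1858a0c41d8c1b7221704dfc3f562b942a6128da8df0da05c25c1d399fea213241fef156a5cbbade4ea8d1463dd059413c2ea0bc503f01d722113929605c280dcb1228c18037db540591fbdbc5b,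
  0xc3205bcd18d0732f6ee8a86aaf5d62d13fddf3f9b99af144abfab3870b221267aa3dfeb439dbde5f926f4d3748ef534e251009017f755f89e52b21409a3c3010a6df1d18af2340deb693b4d9b81fc941f309a6957956aae8b08a6c1e22df3b7bbbd45e497206e425a1d4989677f88ba2ffd6f63efcb9597f666081451d7e56f6dfefcc7fd0aca6675890ecbc9406adb7a0f475820a7ea54b25804c4bfa5c542c99b364b0e7b56a9dc21b780b81a366955cabc2d02814502961ff12636753e509146d89fd349a23613888feae41546fb15b1950ccc557f3ee78a9ec5884b8c7df2ff1ed38786379901853fdfc23fabf0a1e3663126bcba2d64de8e41eb80e288b,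
  0xabaf48b16f62b62248774d8ee525d23bfded8a911d2024fc8c5551c0494f813eece4286f62153a43916787dc31c017fe7a19cb965e359937d42c42b1e6cc3d05189819118ba28fd51b9cc0b03a30f858fe77c9cd17032cd03da8dd3caa9a87832f636b43e571691eca504f662560952273485c07415324ab538427e686347cea797d06da21a6c1172e24787513d3b4e0a9adc8b3ede2b62248774d8ee525d23bab3f4368e57d83c592b9b037478bb2d674fc765a54381d393c7bf3bf8b3305a03a7fb8a3490310754dc3d702c8360477632da941af7eec23818a524e5b69911aaa8275ef6a5c14ec3dfbb54b493b11f56ec1f19e5da1a6d7d39723f7ee72b058,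
  0x6448aa5b4260bc9d6c689d5f35b1f9f66c666a2dfd46361ffe1e5ae61373b33427f8cd61e2684bdcb2c7d99d2ea87dbce6deb307b9e53dc385439e7994fad256aca7ddf8a5ee4cd5cc4e38b3ce2148a9b4939f382f15a277f71ef036a8c81c9ab889426410e144e953129f08540573da833bd9cd0ec2aa5f9864d38dbdfa4f1c,
  0x349d9abc31fa0468802254592ac2c536e69672afa49391bfe1e5ae61373b334d96126c75250f0edd90670ad6b0cc55a4f5f26ad35491e97073a9ec04633dbb7463db205f3dbcfd6bf19dd5c15e2105a46ba554957698e3fe4149f8566fb0dd30811b6064aee8d93c95dfe9380bf7caf23294235e9e43ea448774d8ee525d23b5cc83f29379dfb06d36fbb312801a64a962014e601b166ee8e52125e11cc087e4b26bfc30a90b21d5b9e2723b7bf9546fbb62115abfe660e1c8dca9458ba67e383b757ce33a61fc38136d769a3e5b29f96283c1e3ec7fc83ea18c88f58c7e1ef28ba7c484fa09bcd3eaeaac92ea3bb5730800735cf28f789e28e400e8ab0cb5b,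
  0x1b2816e22d4ff3a3c2b41cdde8fd87cfa28b258026ecf20e9561100778e198c98d1dee98f62c2050c10238f8d033d6be603a50a0ac5513c7907e6ede55b54d69621b089d2da6915b41a3f7bb20a7324e0d9817c26306cd07f01d7221139296053928e34d21bce4488ecf95078fe5d6c7c9541f60632da39c332339de4bd9adc1,
  0x75f61514ceb7123bfd5d897be76b4979e0e356d1710838e72918b1af044196569573c9833cb253589d42778f64a167bee6eb6c5af4fa9d68ff998d4fea210bc7b1c2eb35fa1ff69369a80f7a959f7426f386fd6fa78b6884f81af78617f6a541c843b0d7e17cfcdd0dd406f28ba44d9aa0ebd3f23dcbe82af144c457731c7436,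
  0xa4e4e3068243f0fb7c24bce6c7a4b47050d9235e4d887004c982f3baf70166c4d1244dcaed6298868f28caf43ca269315c3786de43fc0b0d65a7233a6fb0b3de,
  0xeda3d2d8910ce8b161ff12636753e509a2d3cc0cf3c9f87030f6c7bdad76c14860391db18f429d96eb228e3b60cdf5492c250f143df2f3652c6d561e467e06d808bbd15cf82e0d5f6b32e3973db9a817187307f5ad0f467152ca23a3dbc6ba870ef7fa6857e140e81311d61265ae17594055fce513b212d5c141112b9c540a47484fda2a72e85de9cee2feac79bc6366fcabc1921e5290431433bfdb7e9c348e401734d77d248d3650d05a970421417e98f122ad8cfcb0290ecfcd1945bb839b23c6dc265581a9517a9d552c0919b32ad2bed9f5db7516afe4149f8566fb0dd3ab8b7786e50ffa66d172ce493654efc058196044ea2931dc911744e496db46a6985d170c4ec7a7bf5f837ba2b21e2dda252b214d81ee2339fa16637c9e1c1e3ef138f08b55be9346450b3777839ef25218842c8037d0aa3c251021708162cad1152d663c4aa580f8c10238f8d033d6be5f82a7f9facf1c9672e86cbe2d55b0fd269cb2781275288f0fcad702bddfabe279ec8bc3f49d42f347b38c595ef6a19d7a729ea012756ce2586223c0f85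997725b19c1fcd19721789edd28d6703fbebc1d044db7e57b6947cdd3be9922b885628e69cf56ee2216192331c97acf9eb29a9834cb0e0c49fb31713cd66a62ecd7f4e81b8adf1f8935cf18c71175487fb6edc5e41173eab02d9887e439dc1e8ac0d96bb821f0c9ede590693f3e064bf0674738842c8017708a1c251021708162cad17118508bd5beb3e6450b3777839ef252c3215ecd8206fe31f11b78ad2e13403978b24655c6f13c338f28caf43ca26931678b5afde3bef3593585937d0d6243990a3a2b091390356f1b9cc0b03a30f8588acd9a91432128ef4dc3d702c836047704cf73e7169668d3520c91508034d72d230b1ccb91db2e61faaa598df436fb4def4ece8fed9959df666081451d7e56f6368149e43fb4b9caa8e56f2d5d6176d3b9a6e2e66efa9b9a50f29bea65d70355293b1ef95baccd6561cd15e707d56729d0ff82fae06b1163bd168805799529a304099a2276e6153bc95dfe9380bf7caf463540f9635a9358203c16e9a505f3dea1c31253ca49d7894c491981ee8cc9b52d4634077697180bf26f7b4a5be9a233ebcde989d3c81f705e8d31b960a0246e85b455192dc3ac035d58a5d0bd535237b65393c30c2e998c6909592edc0c7cfab8344b2e2cc97b11713cd66a62ecd7f43dd7fef5268d3ffbb5eeb8195882abd2a546897b47d639d8d1fcb8f252c34866542298ec466586f6cbc178998340fcb026d6ab22c375ae862be66a64f710b26762b425bf482cc9bac5e36acdc974d83193e20979c9f79f5c654de6d0e1dbf0b3e30fcd3bfd39acedc2b609ed7835e0211e6523283b4145c3c8ab7a5206eccc42b4b809f81c33a7c650fbc8f5359f5386dccefc6a4c9a0f9b3c7bf3bf8b3305a0,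
  0xc87b0b4a5fe6e9e06fb3bc81484d6eecd20956b9f774cb0243b7e7df320125ba6b7b2b0ae7aa29bcfd5d897be76b49790fbf628bd589919f9aef2f297f1441839095e8a3716e807ffb02762fb395f487b075d9798ef554a5f144c457731c743657cf1252913829dc3e0eada9f18dca615fda288d68d9ab024e662fd0e301f045a2d2cc0cd3c9f95030f6c7bdad76c1487c5413182c90b65c8c5551c0494f813e2f23e2a3112e6de4e4508c2517c4f28422f5cda6e20f80d28802254592ac2c5355eb4e0991748e19224e11477972d3578252712230f1585d7c24bce6c7a4b4709ebcc857abe5479b9ec612be31c01bb0223f14dae9eae7a93a33c6bee652d25ea49ecd6466b03f743eaeaac92ea3bb575fc754df58a4a6d75890ecbc9406adb74de193427a58d8d4d90670ad6b0cc55a4ca37258902c689161ff12636753e5092e2c9a48689f8bb5cdbe9bdd9dd818a15d5e981b549ab90cd9f07a6cab24c6e4859d761dbd7401dbb75061e9d26c4802247855c5db15d4412407a1c516fc9625112d98afb33ff0dfce1307ecf39bd8872064cbc2defab1284c2615010c7a80b14bee532b755d3bc72ef4120cc7efbe4d3e5a36f162f266b60f212d650ac2c5d60ce531fd8c3a83c13888feae41546fb1e0d37d23ecfe43eab492d05d73dca66a5c1ddf733479b6126a2d2633fff6d1aa04299b0356c7343bc95dfe9380bf7caf,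
  0xdc6bd12f14e3cbafdd11c706cf538ae302eb1cb79aae6b953242e62c7b91de8075ca4c2ab2748c1a224e11477972d357095e78ccd1776081aa6c0b2957c46df3d6a5d442d5b6ba0765d5f88fbd3488a08fa07bd680dc381efd08eeecfb482ff82f0cf96a2a627d826e768614546bab77afd3dc1f53848c821a48d8064ca86349c3ae7502f626a8f5892185231446091094d3cb34dca4c51ffc5d49e459cd6a9fb3622bf96b779dfe654de6d0e1dbf0b33379362c2a7d95fe52bd1f544427e45cab50d6a405cdaa16215f3e2d4fc537b52c2fedded481b3219632c7ee6e3736f643549d48451ee24ba4350d81dcf21154dd0b691ba88524f3ebf250cd3537c34e98ab9bc3de9005bc2a9a607a81fea0dde8a389867b574555997cc865a2cbf205bd53803661a9423a65202fba58f3f9675bd8bf0b74e960bcd9e192ea43dbd6f7b3964ba2f2cf80fefb02762fb395f487271c2b50d2215723f01d7221139296054a19aa5d1d8b356d18c71175487fb6ed28182b0b11b2356f1b9cc0b03a30f858cd4d43f7b91b3c8278c0aeff5e0d58c13f461158cd733925c2e9452264b56553053c0970f2235521f01d722113929605ba5122adae7e902b0ecfcd1945bb839b09b63f50010bca85eee0fe88da338c8414d92ec4c2da3d8a6395666ab452bafe0409ba2274e61739c95dfe9380bf7caf9cb61126d2dd5e7f2eda8a1fcfa9aa76,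
  0xcb2be8d4d7ef797478a9ec5884b8c7df35bca59ba7f074b05d5859be5ea12887d520b86cc4e78475cbc178998340fcb08233949cddb5c6db0b4dd330c47acd5edfdeee3f4f1b503d8af27ab5141a11c0f010fdbaa01529227db540591fbdbc5be726d0b7354b147a2fb00fdce8e5a8ef95990b591c32a66450fbc8f5359f5386b781b087541deb0476b09065eeef51f0cf901151185dcee130e2f3fbbe51c482a59f761f9d5401d9b75061e9d26c4802946f0d0a97a3706eb693b4d9b81fc941a82773f2620b2b32bcadb52d6f06b29dc0cd725a4df061f1c8484b303acf6c055de2407a3e9306fa2011f6b7734b3ad9c11a1e93afe09eb4eb228e3b60cdf549,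
  0x49c9c555991b3e8478c0aeff5e0d58c19335ded21d1e3d9e240583480acfb1722ec25f24e73d15926fdd4a06b92ff1a99d306312c7c5ddb8d95b40465c0cf22ffa1fe2ea7f32adc1b4462a30ba55ce7b0cbbf158fc2a295f6b32e3973db9a817a32f4691c9a929ff64064b5f6edbaa99f0434e14c8e084462996a9212d2ad594bc1039b6785cf3dcb20540ff3663a53aa27c75a969436d381853fdfc23fabf0af4ed0b4046a1961d332339de4bd9adc1079e09867b4dd1fe72cf2f83fc465f999aec555db00ec365fc293f301e34ca92b8b211225479fcfb2eda8a1fcfa9aa76e7e53d2d6e966b1426c530766cc00a31e8608bdba75b7ec0011425d4551afaa9bc889ba56e63228b19ee7df25ce3a2bdc3cc118d36e5a632fc8657e8db5fac09cb2cd368ade63fc2ee8c5efebb637abe6c1fae7f3fa9154f18c71175487fb6ed537f90c161a9bf22eba9384eb18f6d3fc2e42215e7559b9214b998660dcd65e00a3a0b0937b4156b1b9cc0b03a30f8588ceed2453a5ffa7bada7473e1c71a4191dd7176d64d23d699bfb89cf82fc4411c0f96d9b5810e8f3931304821da94677a6fcf1adedc3e9381853fdfc23fabf0af82c88160648bb3fdbff18bc63f4adfca8527491e2e4e6a40567438b6c0c3e0a9f220a4a45592bba30ee76d9b95a9ba38cebe97399f9317b726524117e60acf43c428b6088a2065bfb548e5cebbb93b9,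
  0xd9b6e7d4677438328f28caf43ca26931080afb3efa450fa972343a1d9dc06a28ed45b7c2fef87854d90670ad6b0cc55a8d48773be0ed98fb118c4add192670a13af4725889954c6f853bb0c9d75ba22d50af3ec9194d6b0ace98d68b7bf18c2e6b0973c88c673a46ee8c5efebb637abefba2cc4bcdc5ac3dcf567d0cbbade328c4f77903c8fe47eab492d05d73dca66af0f55b6cec20b8f72918b1af04419656932c6663b426ccdf24833719e5e1bc8c35f16fd1466569962a8dfe6150456719cacf44826181437716f2dd6ee8d436f6b25696c6090bbc896909592edc0c7cfac5a49244b5e9f085818a524e5b69911ae77348c34fef1267a4815c848d5e1d6b,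
  0x84ff7c2c91d7773f41d47744d254b4cdb338592734fe91a8bb34d935acd1432ed991d24f823490282a77e99d9ced3d7f8823f775c50f0b35bcadb52d6f06b29dc6b0219de80869bec5e36acdc974d83197cadcea94d07f314ffa4bcd50b91a92c8b7e6db2d7521ed09b43889e783a84d67f6c846cf6f14e7a4815c848d5e1d6bea0ba11175b72db4e056668cc93105bacdaeb12ba5cef6261c8dca9458ba67e3f8d205ba11d45c4cffd379d57a2b646f0f9997ed11a60d93b58bc4c32c21e082567a6e7efac916c1824830909550a96267360af61f2a826ff3a3dea5241beda113371958829423458d4673eef131f34e84bbfca89b4e6c7e926f4d3748ef534e,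
  0xaaf577683bd9c5d47b8b42e09ca4ebddbd632a68b41dae5579912aed15b3d865f97bb119279e65dfca46b5765a5d8689d5ad30e8d9995c775a5686eca66471382d44de21663a12946fdd4a06b92ff1a90c3c0f0b36b1126f1b9cc0b03a30f85892ef942fdb985df9faaae18dc26bcb3d2fbfc68f738b93bd9aef2f297f144183,
  0x29131651dba46dc561cd15e707d567291351c531a698d1dc9d42778f64a167bebdd8dc1bb5a0c4276257f953e8f44e884b2f651b5d11a46dc2b609ed7835e021a005fb73c32b2133bcadb52d6f06b29d150c65b7cd5b614fcdd3be9922b885621d7333e9cc7a19e19bfb89cf82fc4411693a677f8b3d7432f81af78617f6a541f50a57f21730b33fc1e9989cea40af95f260984c4f8557a1ec2a5f86d6e0ad5508792c05cfd451f23d165bc2e2a5f280601ea328ea20f888911583044a89b814068928794db16756e20764d6aadc47f69719fad6393a3dba240583480acfb1722b7c72e6db554289aa6c0b2957c46df3d591d9ce6887d7d23285b168778274d7052b01e589660319fa16637c9e1c1e3e987102ada454b0290ecfcd1945bb839b5adaf7978a64f4918ec078bed925eaed746127c0ca85ba1d332339de4bd9adc184af7081424876db4be16b3d610cbe4fdad38a903819ea8564d482469ff44a8af1c4557e81595cab4e31c6ae3fbc221bff42180f59b4a83ab28fadd326f29a5ed0d17269e90cbcdb2918b1af044196569f197a5e393a35ba240583480acfb172d7db908fab930d07a1f4d43dc0e627e561fa2ae2f64f68416fb3bc81484d6eec9218e5d7c26e24de3dfbb54b493b11f59cb829f8341b8fce50fbc8f5359f5386f3394974599f01f89edd28d6703fbebc9de4d78a892b5c3707b7e991612a328d,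
  0xf94313b8f0e0248191fd9995e3a474fcb86bb22b559cdf51faaae18dc26bcb3db33c9a8258c1f10892aa063747bb0196ba4328d9687e9fd5654de6d0e1dbf0b32a3a2329129114ef1b9cc0b03a30f858c504d0951d691e7a2fb00fdce8e5a8ef67ee6ea66cb9f977666081451d7e56f67ffa28a568f9ab024e662fd0e301f045a3e445aec3c7f61813c4399baf43a33f8c875de28fc44c5fcc4e38b3ce2148a9d4ee3792c5167439e359acdb4d6c52ffec98657b2ca8c4920e8644bf8a7c3d1b92cb2879e8debf7d654de6d0e1dbf0b32e65cdda50cbdda02ac422c5f8bd6136d74a31077994a11bb28fadd326f29a5e8c3330ba5d21b56a5ef2bd9d49f93b99,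
  0xfb20f0afa9342f47c612e640759737faf0496a3ee0cc824a2996a9212d2ad5941cdb3f71cb7bcfbf0f212d650ac2c5d63b3fbb5c6c966a79eba018b6c03567ca24ec2e839c07c44eb5a36937c275b3d5d920d0adab142d45c612e640759737fad7f49c44e60edca14e6ce5d9329b19add687d442d79eb20d65d5f88fbd3488a088f8f10b3371d0dd7c24bce6c7a4b470c104bc53b6d7671b775452d82666a34ea47a76b1cec6cc860567438b6c0c3e0ae22587377bb92bb8e056668cc93105bab5c3f813b9c46a570f154ae688965a7d74c3be240523bfd3d1af413ae8c2221c6239aa7d3da3156d18c71175487fb6ed549d0836ec6ca4d12a0ce1454b20c6ff,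
  0xacf9fdb3454d448d0567438b6c0c3e0a7a116d1aef3a07da1195b6145d0fbde2a00fdb5aca2b231abcadb52d6f06b29dd3dee95ab1126c04f6513c1701b33872b379512c8573afd5d551924e5e2e6a29f965454107ea3ec19b11dc60305db38b86d2da52cff3db25ca504f66256095221ca3c4655f7adf6c1c0a43de36f570e4,
  0xfcd172417c1b46a70d88439baf87f461d2527f9f82ec7c958ec078bed925eaeda6fb325e18f4b323493ceed137cebda34176dc07685ac663b492d05d73dca66ac68b2e1673076ca678c7e83ee6f89965547b827244e715c7bd168805799529a3e0ad831ef403ab51eb241b6b49d146937d16b9e8573555be92c37857d50a1932b234e9fbc26e28fe3dfbb54b493b11f5987181ffc482878c2e551be927227573375b9d5f4b87174d274eca8235591350f93f11a1345facbe158fbf516bedceb7a913c7e2078ea5261a32718cbb8dbc3903ba2982f7ed517272cf2f83fc465f9974924e5dced538178f28caf43ca2693109705dccf71dd9442407a1c516fc9625,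
  0x619f2b4189ba74ec622fc6907a1e895d5021a83303e89617dbff18bc63f4adfcbabce05ba7cd4bb39ec612be31c01bb082d6e828d7e5f15030f6c7bdad76c1485819db773c55be326a2d2633fff6d1aae0ad88c812ca73e830a10d1181145a2beb6eeeaaecb575fb666081451d7e56f6f59bc69f21d84cea8e91c7addc6f50a5,
  0xfbb3f1ce628ffff43285b168778274d77073d6e1610898772918b1af044196561c6fe542204b08a07209ce08024c7d6b6b920a3be1a26c3517a82f6be73174c73795657ca7b42d778136d769a3e5b29fe625471a5e99159bd42c42b1e6cc3d05a8313db49d2a83f9f71ef036a8c81c9a1f790b8c1ebd687fd7f9ca56836a882b,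
  0xcde2abf4689aaaf61bed064ab40d11220c882555964df71cead5818e951549bb1c5f06017a1e87ce54329ffc47a4841019bc8db38f50d8905d5859be5ea12887,
  0x19ed4b6d8a66a82b645015ccb194c78b4106b4e9b66fcf3b775452d82666a34e3baffa90d7754ca77dee64bf2e8623feb425c9ccbb5b416c7c6170fd91fb1fbe4b7a0b0ac69b08adfd5d897be76b4979b14c883b166f38dae5495654858da23d52a9d2b60a35b0ff0da05c25c1d399fe8497ec5a9645c4eecc4e38b3ce2148a9ee59f31f34c3cb9fdd11c706cf538ae3afbdc8778ac557ab9ec612be31c01bb0712ad990cef0d67f8927ba3d4cc794372604730ab64e439fb1e54f9f2d8fd96d1bbdb74f35860ba5b58bc4c32c21e08258cebe25f426d0b5a4b7d535dfa81aa68cc91118f4c4fc1670fe160a746f201a7fbaed66a04c09d093c6ce2e7ff42c92f64c37f32eec8f39836d2966a599357bd9f5bc827cb41d4b59714eb53bf01d911f0cba5849af9bb5cdbe9bdd9dd818a162be69757bf5368fe4149f8566fb0dd3307ba54e9f38629c4d936367f5cfc6e3d50ba6c24197a911779425b2628d7f7e542e1480afff5a09a010c2f58c57f4acd606127d4f5f15dc874b38a16c2c620c25ffeac4db46800e6b02316ea8c719d13b014b32e966dc9593c6cdd087dd40fe623f2e94b8b0c0eb5153e90c433860beac971c20395a066d2655100f2fc8f2e5e8426cc2252f39f6cb509c87f0f6197d18ab61ec780e0dff6b32e3973db9a817dcef53550f0184483da8dd3caa9a8783a889a9c1fea217ac2a9a607a81fea0dd,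
  0xb9f0139c8deda0090ecfcd1945bb839b6123d9147b099fadd6d93e4710cff2b1bed797a8439ebf8e523284a37fef05820c45317d8c3a93413888feae41546fb1cbf5fe6baeaaf61fe0a5352261db6df4d41671c566232b277d1cd106fdbdf868ab74e6c7aaf7f41d4f42b87c5922ac88ec14028948751bc4d5a6fa7bd42094cddda1153d4899de3a17a82f6be73174c746443c1ccfa3df2126c530766cc00a31a7316a77292a2daa240583480acfb172a4a2b0faae5fb4cbb8a507e822e28294d8b0f4a625d33cd0be1dff817c8ea2299c7df7ec1078dd5b31eba994ff1f08b3e37aee0b1210f0cbc9d81796bc08048a9642fc8177f5a26d96da0eeebdd631ca,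
  0x90427c996b5da0e657dad836195a31cd59121d98dfa2b5beb576ef66bedd259dff7cd991e7a2374efdb2918816f77227a75c7592830be62d07b7e991612a328dfcd052361bbea65ce4b637a2f1a40ed6e3e5da71aa214c14f6513c1701b338721d12d092221f4ec7e4508c2517c4f284e4194ad915fa57c150adb22a623b51f745896aefd1bcf3793585937d0d624399d5e2cfc360c1a958b55cbdb484baed1470ae79676be7348fe4149f8566fb0dd38edb4ff64c1236392331c97acf9eb29ab5dce7928119762f07b7e991612a328d515788ddc2c143710e76815642f27c703c7b37e153f357b70f212d650ac2c5d652a407bf480ccbbac5e36acdc974d831,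
  0xf510b84cc4d78465cbc178998340fcb0970e51a7db9f1fea64064b5f6edbaa995b791b18c59a09befd5d897be76b4979b11b841e760e50cdbbade4ea8d1463dd1ac534a7adceb96a33bd2ac90a98495c5e937078a21c58a361ff12636753e5096744b6eaf02ab1827d69dfb3fec368771aedf85c72e7d082aa6c0b2957c46df3,
  0xb307e029a2c8180cba599a02bc748bbf4da4142dd99c4e3f17a82f6be73174c7a7461df95d77abec654de6d0e1dbf0b3f0489b81a34abedbc9e85c741544f8864b12b32890a26abe5ae24c5cea197db386e7d818e3cdec6030f6c7bdad76c1487c6f26f2fb0cb4c919614a9bb6f51c9f4f6e0f0ad68b0cb9fd5d897be76b4979b011f187a4038d5e9be71c567bccc8f3f84268c2352f39f6cb509c87f0f6197dcf3765576ed94cf27d4c2ddc3a2770993a908c0a8a63ec27ea18c88f58c7e1ef66ba69756bf5369be4149f8566fb0dd3d008d749c69da99081f86b40f971d194a57d559fdb1eaeb2a6db2a4af70771be325e1a6f88e3464f7cb911b1f362b21c,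
  0x3ea01946049c66568e52125e11cc087eb8691ef7445caeb14d70fc0cae19352395562822fa4be4f48e51b595039c39eb661f103db58229df41a3f7bb20a7324e7106b8c8565596f7cbc178998340fcb09ec23a9c723ed38665b53181cc90248e181e7f3a7ec51b8972343a1d9dc06a2810df66d733b348e7520c91508034d72d,
  0x76a214886552675de0bdf7fe5373db0a46b9c6b61e31a2ef0da05c25c1d399fe1819dbfef483a5079632c7ee6e3736f6548da0519c0b24e3f5ad8d7d578f1f66dc09bef0c4da151b33f1dd880fca894e84c540d6feb349aa208edae5270ee0975f0f457ea8d2dbb7899e25b3491cef5a7a3d782570f95e0cdbb6ab28782992a0,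
  0x2149110de2703bde77d339c499f446b93f4601d8365a7c12b61beba80ee20f20b1180301cfc96f23e52b21409a3c301027ea351809fab27952bd1f544427e45c,
  0xa34219f1596fb7f4654de6d0e1dbf0b39b60ee8c0fdf922e215f3e2d4fc537b5e402b05ccecd8e66cbc178998340fcb0416af40b5c7eca53b492d05d73dca66a2d77724c5bce801e6b02316ea8c719d12689d9443facb95aa8e56f2d5d6176d3674dd846de47bce50f3784dd9eb6e6f23b720c4d940611f8ea65a6bdd0d4bff0c55fb10db2c49e4185439e7994fad25693dd4597c3cee63113c4399baf43a33f2e459fa349d2c2f73b8f7e0648b63364622074b1822418037db540591fbdbc5bdfaa2262307cd7c230e2f3fbbe51c482cd1ba6c2418fb909779425b2628d7f7ee55ad618a8e49638224e11477972d35723bb5b6693a21f638136d769a3e5b29f,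
  0x384e373f1e86fa10743db101ffc630a9b581488ada863694f22decc714c2ff6da93478072affac90bb34d935acd1432e567cf8aa1cd79af79dd00517b06aaf549c393fbaaf1d88f5f71ef036a8c81c9ab16803949d7da0190ecfcd1945bb839b8da46d391dc295025d58a5d0bd5352370c1b09dc88560a38fa16637c9e1c1e3e,
  0x2fdeac7688ce57a496295844512189c352d6b42dee26c2afa4b7d535dfa81aa66ad2487eeb8476499ba9463dad12c7e645ddb307ba469ec385439e7994fad2561bfef8546bedc883aa6c0b2957c46df3689dba01d9554758bf19dd5c15e2105a057b222636ce1d61523fe318309a73c361306299e5beabce450b3777839ef252,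
  0xc13b909e4452e3bc95dfe9380bf7caf3b98cf81abe8e7cc260bea83efc83a1b1c1f5e756482ab0a9632c7ee6e3736f6570d171cec2e1087a0239902ffed8f52,
  0xfc93c5a63a66a4471433bfdb7e9c348edd45a2c7f6f07069d90670ad6b0cc55a19a3bd539468c818f85553fbfac727a6f9026ff62f30b33bc1e9989cea40af951962765a4c7508abb4ab8cde02c6e2bedb5ede9fd9b575fb666081451d7e56f6bb36930bc971848219d33c7f9cd28fd1a15e1d3f26fe81f216c682e13db2c438,
  0xa3146daccb9af6ee16f2a1cecd7b8e26868ce2954c419ba148774d8ee525d23b7cf855836ca12adffdb2918816f77227d7b10561545d4da0693f3e064bf06747,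
  0xa7a21fb9350ca45b4d1c6ea674708232166b06e3fe53b9ac6c4bffa01bae0d8e4e5819b265dfeb6e32b8816e1ce915470b75222a3ace1f63523fe318309a73c3,
  0x6348fbed83f2f9964e31c6ae3fbc221b8a3530b66b11b9565ef2bd9d49f93b99,
  0x27f1b391a5f9f30eca504f662560952238d1026d2c9c30090ecfcd1945bb839bc6a5189d32b624a37ecff4d4cd3383bf24679caa66a5c49ecc4e38b3ce2148a96c30db6a49ad863d922363eabdd916f40bbcba8e93f5a261aa6c0b2957c46df30f2ea24ae3d3329e4de8e41eb80e288bc234453fc84ce93ac5e36acdc974d83145db10545ca60fd1523fe318309a73c3c6cc0d78d3eff59632b8816e1ce91547451c0bd2f2439503f01d72211392960505d84bc976996b8001e91455c4318fcb3d6aa3186114765937d39c46521f11cabcae577ba41fd411e359acdb4d6c52ff22551206c71d1e3d68f656b7958570f3e58f79457aa42ec185439e7994fad256dc2bc1321eb230a31433bfdb7e9c348e4e8c4c61340786e4b5a36937c275b3d5d349b639d7f5cb0243b7e7df320125ba53024f2d1df9759f4970effdb240a88711d70deafce3f48e8d259ec13479d5cb40891e77782ee9753242e62c7b91de8056ca15999bb528d681dbf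0d91618b87eb96aa2e5ae63b2a39fe322ff4dc6219aefe0318158a62b18e5a57978672afc0922a380a6fa75cd7c208edae5270ee097ccb25476ce3ff2f51ffa6fd04f88c4421e8503481b81c5a3c8ab7a5206eccc42f358ee1bcf13059b1195b6145d0fbde2ab0637186472fa3e5ae24c5cea197db3979c34258524da6c8fea247893ac697d3309b575c76f9a9616f2a1cecd7b8e26e8731d2676c0d775a151187017565fa50e979ae8f781a0c81311d61265ae17591df3538984b259c99bfb89cf82fc4411747809f85c5367e650fbc8f5359f5386680593f3830b4953bcadb52d6f06b29d9ee380db1d3147fb2011f6b7734b3ad94df4983de566f7904ee777199e453f385ee008ee4b5c18dd5be9d0d2f4845ef2dc1f9c5394fdce4adbb6ab28782992a08f4b839e78a4ed77899e25b3491cef5a094390f7221a52e731cec4d36bc686d5ea0bc35cde3d5b7dd42c42b1e6cc3d05c45e44207fbfca49a010c2f58c57f4acab38419089cdc570693f3e064bf06747033e4d62bbad919a72cf2f83fc465f99657495194da36c035d58a5d0bd535237caafd30bd59d1ba72ef4120cc7efbe4d229e58cc9f24f078d221c7e713974836959c76e4cc06d6694e6ce5d9329b19ade3ec556d12a56652fc8657e8db5fac092d443da6a0801458040ca0a1a2588fe29ee9930f14c38b2fdd11c706cf538ae350ac440ed1b4598b77d339c499f446b9ef2a310927aef2461c8dca9458ba67e3031f54da898b87293a33c6bee652d25eaefd99734dce6bde9dd00517b06aaf54d308902d2b560da7c612e640759737fa1bd5f7fc2c71edea853bb0c9d75ba22dc3309ac44988eb776ee8a86aaf5d62d1539f3ddf87635b85274eca82355913504ab54291dea97d366c4bffa01bae0d8e7bb37c7d86f0cb99986d77de62f23086,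
  0x52df7cdec7621a84274eca82355913501745f34a76efa22eb1e54f9f2d8fd96d11b1cfb582c5cd362a8dfe615045671992bf5ff1f8371496afcf157d81ac96f3ab0a831ddf3c5a3dd42c42b1e6cc3d052ae25a28961aa72265b53181cc90248e5e188c65f459066dcf689311fe3ec2861b7fda61c7f5ec767dee64bf2e8623fef6afac8e602f7c2744089dfe6938fba3730b244ef64ce28dbbade4ea8d1463dd9d9cce5fed5bf01f8af27ab5141a11c0309d338cf5a1bb6ed4be8b43327bb5dbc76bdbfce37ef2d93585937d0d6243994f979be8f6c0e0881311d61265ae1759451c0bd2b302d503f01d72211392960575084101afeddf51e52b21409a3c3010153e277967d0b4705d5859be5ea128872a2bf766844f9ae7d172ce493654efc011d70caabda2f48e8d259ec13479d5cbf1ff23bba18a11c2bd168805799529a337119ad7191a5d3a240583480acfb172aa0d7bb4a2a9074833f1dd880fca894e1a7009e24068b2e68e52125e11cc087e8f5c345f621ed14dc54c55aabfc2869270dc842eaf4f3b36a6db2a4af70771be148d74bf22c5ee7696295844512189c3ad31051d8869ae5a17a82f6be73174c7e9cf7e5495178175a4b7d535dfa81aa68de17382da98b8b4d90670ad6b0cc55a86841c0cef33af1126c530766cc00a318650381ca74a1b2bd4cecd23fe278d462c939571a7a5a6250567438b6c0c3e0a,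
  0x58304aa0032bf0e48e52125e11cc087e444b3a42d4e6155bc95dfe9380bf7caf0f41ec685ccb7c1979beef1a49b46793530145cd759a87b169577fad94f440bfb0b19a8beb447cf12918b1af04419656785cac98166158ab4dddafad1d5fd9ba9e248baa89816f5dcf567d0cbbade3289108d06d2b140da5c612e640759737fa6aef7873c10348ad4dc3d702c836047720ddbc083795b15d41d47744d254b4cd69af856fa1a6b45b13c4399baf43a33fde1ddc5194bd8e08dbb6ab28782992a073a93049bd3c9efafaaae18dc26bcb3d6b92a53bae0daa1969a80f7a959f742615d7a9d8f474c6890c72b4fbc253699f99e363fcae813c97609bb5316f7264df0d85d41f412ea7f323baa62d6bce3ef89c70bb88a4b208cf127b3bc8abca269cbefb1294dd4a76c919614a9bb6f51c9f36d83b9755f14c0fe88b946d6f51f3a1795ee9525c3149dc092b5875d4f1ce483861fa378b179f54fa1463fc690b5f5189f0a5d491ab65bcd91a83f04afb379e5a260e2015d0685e251021708162cad1f936e3354af4c7ec8e91c7addc6f50a5a1f43fe8e71ec2e9a4350d81dcf21154a4c34c73b9c76fc0a763946444a641dbe8715d647482d735a151187017565fa5da1d868ef9526f81b4462a30ba55ce7befcf81f53b591c2278c0aeff5e0d58c171177863bb82920392aa063747bb01962734971b0fe12e415d58a5d0bd535237,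
  0x381182e448b184f153129f08540573da5a4fe952c30dc1b2edfc1ade354e0aa149f741d3ddeb7e346c4bffa01bae0d8e6734d75b0fa26d425d58a5d0bd5352373b220612fc69e7fd351eda877e94ca096aa0182ad41aa52265b53181cc90248ebe4456291ce48ce0a6a7aca14045cc5335d87bd716f20c4fe88b946d6f51f3a1d218d12ab63d33a5450b3777839ef252159c39760af8f60812afb8e40ee509d340a519cf1868e9cb2e575bd39180542848184b0b127156cf1b9cc0b03a30f858227c6d4ecebaf24218cbd006174a4bb0c91b299f1f6a178f18c71175487fb6ed20eeff5042bc67c325804c4bfa5c542cec5c90545725400a9fe0bf50ad025149,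
  0xfeff66785419ae2564d482469ff44a8a55014789779cc5b169577fad94f440bf3574cd66b4ef60befb02762fb395f4879c2bfb8befbc072dd4a2b45a26fb43ba37153e63bd84d40592aa063747bb0196a846981d7ec6497544f959e8d5953f4b0791c927874b60d28802254592ac2c53d2293e01ebcbc78abf19dd5c15e2105a2a6af32ef9da6c83a568493ac042e69014358097cc2efef420a17ad25c773dfa27f5f795a1b9f30eca504f662560952215d709aafce3b08a8d259ec13479d5cb653e2a4bcbfbf30318cbd006174a4bb0e2a5b6dceeac5fb0ff998d4fea210bc7b6c857f35eb82f19836d2966a599357be8526b0c8e089c64911583044a89b814419b54145ce20fd1523fe318309a73c3b84c285202883f1bdbff18bc63f4adfc1621c9e05f3439eaa8e56f2d5d6176d3b96ea6e1aa23f6a79fe322ff4dc6219ab3630d1acd5ff33aaa116ab68245960bebceee6fe97dddbb666081451d7e56f6689cb6bd05ddec8b31eba994ff1f08b3f34f401d35225ccf41a3f7bb20a7324eaf8eae2bad79d9bf666081451d7e56f61f7f695a2fec0eb089fd752a3d15f75ad461d0a4d1767c4765d5f88fbd3488a0643dd31d3cd004feb75061e9d26c4802f8226167932a7154b5ac2244ff30afdc6f0fabde4a2efe89be126ae9d2ff56ccee2a4d22dab119e497c175506bd11b3c66b277aa6d729b3765b2efbf21784f6b,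
  0xa8325c2676819374a151187017565fa578b94e97e4ac3e714d70fc0cae193523c36bdffce37eb2dd3585937d0d624399018d1a77392bed743242e62c7b91de802286fc61d3b5769996da0eeebdd631ca8d430d0ab2564825a0239902ffed8f52ac7296d744ec84788e62076484a98cb4153505322395dac58465a0f3a57098b8734cb534c32a9e9616f2a1cecd7b8e26a0171197fc402c1350d05a970421417e0b3c33ea14670a35b58bc4c32c21e082b58bea0971b06a59224e11477972d3578330dfc14cc8eb736ee8a86aaf5d62d10d373cef69f0c008f85553fbfac727a68a0c3afcc2b6816a6415d178f0a4386687309bc10c88af776ee8a86aaf5d62d1,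
  0xa4d4679dd3e0685a6c689d5f35b1f9f68fc9682589ce5081cd29024148bdcc35cac0d1ebcb5aec756c34c40f2c5547cf64d5c848d78bdab030f6c7bdad76c1481ec1074a5f83c3e5c8ab7a5206eccc421bb5c9c317e454531ae30b81f4fdbb45673f83f4a1bd13d192b9b037478bb2d670b39bfa2dd3b022f144c457731c743631d9e49a5a297689efea41c5f7d2a77bd45f5e603a72a0bf5153e90c433860bec7c31b4bee76ed5226c530766cc00a31c3d55509505499ad607d08347a0c24be400c8db36045317ca3884987804772b1bd728a215b468ce4f17d927e26ab6d8991d78eb73a13ec40f6513c1701b33872b80a681606c83d1fdbff18bc63f4adfc,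
  0xee2d324b26edb5451c8dca9458ba67e3217b961b799001bdb75061e9d26c48028be37586dcd8b8b2d90670ad6b0cc55a7358fa4714dd3268bb34d935acd1432e77123c26ba81d10292aa063747bb01961c9f0601921e27e654329ffc47a484106370d35b0ba629065d58a5d0bd535237bb94dc43929b6037538427e686347cea,
  0x4103d8bf6a125ae731cec4d36bc686d53f3dd5df0162ed7f54c416819a3008f03934c96ab8a760f6fb02762fb395f4877950ef5e8b89997cd95b40465c0cf22fa5c589bd71131e6878c0aeff5e0d58c1c73474caa729db73c188b4607cb1c62af2b276685ab5a482586223c0f85997723561c8f2bac6a06438d415eed50794f68d931349101ad5a3607d08347a0c24be2f6ab99460dc5054fd08eeecfb482ff8afe0798158e62350e5a57978672afc0918758093c822bef820a17ad25c773dfa1ed3ca7677d8c3f1f1aa428d9e5c223ae2318276421578d70da05c25c1d399feb2b362301851a26d64d482469ff44a8ac1ba4aa2be87c8816fb3bc81484d6eec7775ddd70922a53754c416819a3008f083b79fae23ce6cfe3bb311a7165d35d391b03f43dce9823ed9e192ea43dbd6f775ecff2a294bd41f07b7e991612a328d930dce25acad108b97d3e0e2cf9a8f8313379a2887fde47f7dee64bf2e8623feefee892b8c2883de16f2dd6ee8d436f6d80d300825e456c2cf585f27b4e9e4105395bffc6431e5e2853bb0c9d75ba22d45baa12eb59208617846ef59c5911e028f63daf5a37ebbd13585937d0d6243993134c12ab8ef20f6fb02762fb395f4876d9f1f9a3dd74726609466ee2916d3aae06d24a45aae92e430a10d1181145a2b6aed7239830940e74dc3d702c8360477706171a1fe320f742a9a607a81fea0dd,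
  0x71d80b242d9d30490ecfcd1945bb839b59d744a2fdeabcce8d259ec13479d5cbabeb8a03ad9f0f51ba1d7cc0e59af77d6d34dd194dea250a5d58a5d0bd53523751d205fdb640b010eaed0104939936855eda16f98afa86760f212d650ac2c5d6e0fdd58d137a1b9dc141112b9c540a47753149b1541a6ee650fbc8f5359f5386ac50e14f59880ad7b63940550f02b2fa2355530e86141f3568f656b7958570f3969ae2aefd36155ab1352bf0be2a7e674b9c323ef9d91a7ea80cc9111ef42e4b7b3734f76d4bf67471da5e21e1374512a44da697803ba54008df6d01c3a0948242f5face92bdaa28aa6c0b2957c46df36e4aebd64762f6c8be126ae9d2ff56cc,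
  0xec66cea92033e4c8ea61bd690b82d8a829b0d66c07c72a56215f3e2d4fc537b5853806f893a25f6596176ec6633936432adf58fe14d23b4b493ceed137cebda32f9515987fd74766609466ee2916d3aa50660a95593b15c912f11b9b91dd55fd832ef502960620958921852314460910c4e429d96fb9be80011425d4551afaa95b461747eb8dc734124c30e646dd6d3d4a88b90e851d5d746fdd4a06b92ff1a94a88bb068f17577c6fdd4a06b92ff1a9cc94f76d57dec0d979510d7b4fcdb8f2426e1e9a815acc6cd5d677c116f39c415972e15d7880daf7045de2ac8b1bd5532fb3bb93a5f1b94eca504f662560952274f1ba996f92594666e39c748bc72dfe,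
  0xadf78a8e47036cc03da8dd3caa9a8783a40c94177c8c463744f959e8d5953f4bf1b769b9e1ca138abd168805799529a390eaa915c08461e92996a9212d2ad59453d74ee8bdaafcc48d259ec13479d5cba11216736fa8367ceb228e3b60cdf549fb5282dc923603f19edd28d6703fbebc4447c6dd9c223b0a9632c7ee6e3736f6,
  0x72b1f3460228a4bb3f25c5684978ef70d4195505887ed2b4e78130d8ef8247572de3f8dcc5ff472972978e266d785c81c34173f98bb2842b6415d178f0a43866365ea8d61c6550a74dddafad1d5fd9bab6f63e6412fda886586223c0f8599772455363cb2b846abb8e96877159cdf18a52682c4a2a93bc17ea18c88f58c7e1efb17aa37f44f88dee8e91c7addc6f50a55f6c435e0e2c7bb135f81844868e907a981cbbd65d917a576a2d2633fff6d1aaf4bf26b6a4c35583bd168805799529a3b2e5025c7ea52e74d6384e442913ea3359b313c18cb251c59bfb89cf82fc4411174e5f4fe789cf7a124c30e646dd6d3d577fd2248fbde83b7dee64bf2e8623fe,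
  0x248d7bcce08703b9737b4f8e98a975de31d2a198d19e1367ea6295dfb03f2b77516949601a902659251021708162cad13e3cc0ff238def379ec612be31c01bb016ed85ec5c7c95ab360cc1e38fa246502bb1fd64e4a7e5101853fdfc23fabf0a7b57630badd5212619d33c7f9cd28fd1706474a4fb320f782a9a607a81fea0dd,
  0xd1e51533d0c04b6291fd9995e3a474fca035196c3c82df39a151187017565fa5a9c983fb31575c6278c0aeff5e0d58c1e89da42dd342975dad8796ecaae637e8a97cd3220c1c5956caa9e1ed51590bb91bffbcf90e691fb7b5eeb8195882abd2f194dc0993d12835538427e686347ceaf8262b2f95663b1ab5ac2244ff30afdc,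
  0x86a63de1ab8333c86e630ba3cc99771d8770d58942c0a77f6ee8a86aaf5d62d15b5c048b5ad87c1e6442f42994206888f0f2f6ea26474d44dfa89661c660c0c5,
  0xe04744c7bd147d5650d05a970421417e14efd3f7563698a3520c91508034d72df22992260a4530cf0da05c25c1d399fe0f748cb702e029bee7e3f064a3084f3ac3c924f76c22b02f89ecd74f1b8f51b077a1b3c1f5a9a31eca504f6625609522754a582bc5082c8b5ef2bd9d49f93b990903d0a7624a42f731cec4d36bc686d53713c05d229c080cba599a02bc748bbfde6689ea99917d4dcf567d0cbbade3289ac296c761951faed2e15f193fcd6f867ccca6bd01c9ec9b31eba994ff1f08b328548b0e0ce9db51713cd66a62ecd7f42751dac6595a5d3a240583480acfb172aaab62285049ea7564d482469ff44a8abf3acda620ec099093c6ce2e7ff42c92073178f5f0458c61662f1c1377c56f5d0a4a1b095370558f1b9cc0b03a30f858aa0b835cde7d4b6dd42c42b1e6cc3d0514bfc3a7466698f3520c91508034d72d6936a2b68eea6b7a50f29bea65d70355638cce8872c0fb454ffa4bcd50b91a92de60f99aa6f21a9f127b3bc8abca269c1c1d8fd61eb3322bc6a433c34388c02ea6d223dbd1a03c4c6c689d5f35b1f9f694daadc261147e6784a3f831040d5361aa585a597edab4e8246be1af4d605e0e2890db47931b68a6a62a82aa3c571fe67741dac6495a4d7a240583480acfb17278c1022d3cdc60190ecfcd1945bb839b668f1c196723c09fb693b4d9b81fc9413564d5591da33c035d58a5d0bd535237,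
  0xf32893270b4421cf0da05c25c1d399fe1a5a0b095221449f1b9cc0b03a30f8582308b534877ecad616f2a1cecd7b8e263a4390e618a186a353129f08540573da7692ac61d7a532dd96da0eeebdd631cadc040269e8a51b94d5a6fa7bd42094cdb90564b4ce856b1844aba5d08b63d1cb5ad4b6ac6d31fceb853bb0c9d75ba22d557e276937c0f4605d5859be5ea12887b6c232cbd0a02c4d6c689d5f35b1f9f6dd5edc42c4ec8f0adbb6ab28782992a084ae4ef1ff4bed631b4338899bc5cfbf75081101bfbddf51e52b21409a3c301086b19b46e8e595d94973d9eb9df8acd6e249bf4a8f4215ca1195b6145d0fbde251d71caaedb2e48e8d259ec13479d5cb,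
  0x79c2f729ee1fea5b69a80f7a959f7426ab5981ccc12503ba9edd28d6703fbebc853006a8dbfa576596176ec663393643243021a82d8e25ebb8a507e822e282945364a8d24807ea7ca58dded65a97c9fcb7bed6dd2bdcc45621b48cd47dd214f0556fd2f60f4fde7bfe480c5674352ae7499b21d5b9fae41b41fb645bb832bfd70c1cde5fdca11d3a72343a1d9dc06a283bb8f34a948f6cca118c4add192670a1070901bf238c135bfa16637c9e1c1e3e0a90e906955d45746fdd4a06b92ff1a9b26b92661a5762cd0da05c25c1d399fe342fc0239282c6fb4be16b3d610cbe4f0de4c86da736f5c24ee777199e453f382143747cde6685db0b4dd330c47acd5e,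
  0x294ebf0bca823184c2615010c7a80b13b721642bc69f7bd351eda877e94ca091990ba15865e56246fdd4a06b92ff1a949650d6056c0784d251021708162cad13817d3f2920b1b52bcadb52d6f06b29d3c5b4f68771d22fff71ef036a8c81c9aced8baa4f76e5d50b1352bf0be2a7e678fa37192d8c8e8e6d90670ad6b0cc55a,
  0x8ec8b16b51d298c379510d7b4fcdb8f23f138fda126fd03886a2b91a3dc948fc41d30dfaace7b08a8d259ec13479d5cba35cee5b8f4315db1195b6145d0fbde2ac54125389776b107e55acea01cc71ed4535053672c5de958465a0f3a57098b80846b9aaf5ea7baddeb214809de8f9bcf0769cef6821f28aea61bd690b82d8a8ab3a651933aae2121c8dca9458ba67e3e4eb22faa49f4587bd168805799529a38f1f83ce78b4ad77899e25b3491cef5a56c87c711bfaf11a12afb8e40ee509d393955d1dba62bf4426c530766cc00a31d9f88d23d16457bafdb2918816f772279ad8f13f51d688c779510d7b4fcdb8f2785e34332ae6e2baac8368cea5457306,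
  0xeb2647c758c9eae730e2f3fbbe51c4829bc292d665950fabd2e15f193fcd6f8697ee494ef178a88c9a7cb6522af4c9c44afd85fc5434cdf7360cc1e38fa24650cdcc8a4bad5be04f8af27ab5141a11c0019d4a77792bbd743242e62c7b91de80676576ee69864e3f3b298ab7bc3fff1ceffd13cb6533c51e2e24787513d3b4e0,
  0xf20204fcda97c04cd3a9d14aba204d40ce88f4bb9e8ca624a96b2e4fa64419aaf92212598b6afc4f17a82f6be73174c74cfb83f95131cbf7360cc1e38fa2465023cd7afc3cecc316259a3d4314d11ac4e3878adef52cec7b5cb35add4329d7e2f3554b2b42dd3a76158fbf516bedceb752075e7f09de3c3d2433f90b91ab03e8,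
  0x251f700eb60ae489bbade4ea8d1463ddea22b03453e558e2be1dff817c8ea229fb75a67719f092ac8e91c7addc6f50a5915d11207eff8c0aa010c2f58c57f4ac,
  0xbabb6a304851fa6564d482469ff44a8adf9acc2f1e14b9656fdc1d23520cfa75b3bd06da2166c1172e24787513d3b4e049c71df2b4e3ac9e8d259ec13479d5cbd1b03f1bc4f98a3ed9e192ea43dbd6f776f997a69e0246512331c97acf9eb29a85f07cd4291c9edb4f24cc2bb849e097dc57d443c4b59e12dbb6ab28782992a09b1190cccd97f2e678a9ec5884b8c7df1a5a13194b684d9f1b9cc0b03a30f8581d8fce570334a7e923baa62d6bce3ef808f11c0d87c4e9d23d165bc2e2a5f2800b761d22f3b5c9d272cf2f83fc465f991b043393958b49ace1d1bf654029cc71c4b4de30b519d05003c1d0d153ecd59d1de2a12eedca08317846ef59c5911e02,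
  0x9463cad0281c902961ff12636753e50986e99b46b0a58dd94973d9eb9df8acd6668abc61c7ad2ad596da0eeebdd631caccd426e49507c6794e6ce5d9329b19adcd981fa0ab256b54332339de4bd9adc15a15b3488b1f83e8edfc1ade354e0aa186487054a71a5333d4cecd23fe278d46b8ec7523d5641d9a59714eb53bf01d91,
  0x2a42fda7ea941ca43dfbb54b493b11f58e1f013adf626752b3adfb539abc20a932c30a7776d620110ecfcd1945bb839b8e9177c8f43575c91bed064ab40d11224d1da45cb82f20d0c10238f8d033d6be450641a3a484f18ba40c788abd1d58e0da26f8eb0d0b44dbba4ce25de0696dec4c878e8292ba96e5d736b0180a3a5ac7,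
  0x45dc312e1ab8ae1812afb8e40ee509d3266291b8a99cf06438d415eed50794f6a2ec7fb0af5d89b2a4350d81dcf211540dec3a08abc63d2c2be66a64f710b267,
  0x9f95786b9d924085cd29024148bdcc35d09c65dfca48b006c982f3baf70166c4133d2bff4d6e1729b58bc4c32c21e0829c0110f220872491617e7620cb2f400a542c1c204bc0365c251021708162cad10a7c62f046e9103f0fcad702bddfabe2e3d2ff130205e5b3c9d81796bc08048ab47e1fa42c6be199622fc6907a1e895d,
  0x8a8c5c1cff27fb4126c530766cc00a31b52be62f11a88cfa8e91c7addc6f50a5bb6647c750d9baa730e2f3fbbe51c4826f21602fc85bb50a76b09065eeef51f0,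
  0x86b6d9f68508ae1971d65046043a88cbf41b36a8e4f20f1133f1dd880fca894e90f67d3bd2d7b3da1bf04e9b09b872c62d84f922cfeb64da96da0eeebdd631ca,
  0x666ac473eae17d2148774d8ee525d23bea795850e03864e32cd1f5e53026b8b1,
  0xfd35870fe8fac58ea4f0165c2b1a7dc88cab952df4c6b60bec5452234ff3d1ad8ce44bbb67fbde80011425d4551afaa90f648cd702c079dee7e3f064a3084f3a2da7961f234cc7d123baa62d6bce3ef80db2baaea4990457b4ab8cde02c6e2be19183bed515417533dcfaeeecc0969a9232b1ceb71fb0e81faaa598df436fb4d16e0b2e1bda1979ed2142d537259d68612d3d47ca6369ce3ba5f417d84c125f7c32696ee0af4acbf4ad52acf87c7ee36b88c619fb614f802c982f3baf70166c4e88e5e159436a075a4b7d535dfa81aa67c0e8f3cb8832dc0919034ad89b3f1d77329f555876fbab616f2a1cecd7b8e263ebb37d183f387770f212d650ac2c5d6cd70041d8948ee3b17a82f6be73174c72682e940dbaaf6cde1107344215b95faa29cbfbe2dbd7a88d05fdca5e92444743a5008c20169d2e68e52125e11cc087e30cc242eb1d439ab77d339c499f446b94cb2d5cb1b5b5c6d960c8235d354eb6a58b1224d4c9c50290ecfcd1945bb839b1fe40d624b9fae7484fcc552b1654a898274255f882cc95ac5e36acdc974d8315814ab2e2ce99b11713cd66a62ecd7f4e126749956ffaf1b775452d82666a34eeefd99532d8e4b9e9dd00517b06aaf54d1a3ac9ad76efe595cb35add4329d7e2f14fecd283fa1f1bf0c7857c03ca5a687946e2c68eda5b7a50f29bea65d70355f07d82a34b2b5728637aef7792434676,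
  0x95b9d3e1d53ee26b0d88439baf87f46150cb720bdd7cbfd9faaae18dc26bcb3d50bca46eef0f7b56a6db2a4af70771be79957e431df5b469777cb907cc16387ab8ad619eb714f822c982f3baf70166c4d92564f4bea56b2844aba5d08b63d1cb3fa7109aecb31824c2e9452264b5655382660e32da23cd4a78c7e83ee6f8996588db0bcaffa6a9a06fb3bc81484d6eec5bd496875ab7942d4f42b87c5922ac88681003499744fb34e28e400e8ab0cb5b5311cdf6c3ae2cd63dfbb54b493b11f5b2a85f8fb498fe46fa8943bdb13907dfe69262bbb0c06c3d6c689d5f35b1f9f6312006ac5699a5f069577fad94f440bf8969b3bc1bb92ad26f89a2619a45268e,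
  0xebd77e62be540d8b59714eb53bf01d91c2193d736fe07d74eb228e3b60cdf5491949f468e56ed01dc21b780b81a36695ac8bb52ff6e49409ec5452234ff3d1ad9e3f9c1394df8e28dbb6ab28782992a02c2fadbeb44153219632c7ee6e3736f68dc152a398b8f8f7d90670ad6b0cc55a58cfb9937a47d195fcd3a2b8d049c6c149cfa56fe1c6d43b13c4399baf43a33f4113547cbe76a59b0b4dd330c47acd5e219a7ae6a3553b05c2191c6f3abb714ad753bdcd75dc4a77235dcff4e3a2db09d5e78ac48ec57eb50f3784dd9eb6e6f2dfa04ed1731b9e8133b0a1cf74733258836ed5029606489589218523144609105964e2e4acf87b7a50f29bea65d70355,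
  0x2f21a061312ecda6e4508c2517c4f2843e7a6a394ee90cf089fd752a3d15f75a4233747cbd55a69b0b4dd330c47acd5ec8523e6454819776a151187017565fa51a0fc912a32da1d2edfc1ade354e0aa1609edc0857b6f21e41d47744d254b4cd4aa75faec0a123f5737b4f8e98a975de0c0f8ebdb44273229632c7ee6e3736f6,
  0x72b38eb75df0a85faaa598df436fb4d5f238f9a224f905886a2b91a3dc948fc6db6f3e8399c86927b8b42e09ca4ebddf31cce1b8f33259b1195b6145d0fbde2e156b544261e1132caa9e1ed51590bb911dffae4cba6402e6b02316ea8c719d1855228709c33362686efffdcfcac0651523922d32c1fbf29fd1aba97fbdb6d64c27d82722a35549f0da05c25c1d399fe78dc2fb3c1e95f744d70fc0cae193523170e1f0fefa18f5a124c30e646dd6d3da76fbed9c75ad3bd3585937d0d6243991e056fe3939b5b14c4c2f90c237540f8dfd8c898481a443c285060586b6eae52f22ad7eca9ab652cb3a287561a0cba4d53542b7d1f2252e94d1c6ea674708232,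
  0x7ab602f26cf3b83803a19258cbd1f114bbc6809e3c7526de2011f6b7734b3ad9e9db82a42b0560883da8dd3caa9a878390e89b48ed0cb83803c1d0d153ecd59d1a3c8861f4392249cf689311fe3ec28692ac5b8bb0b8de62fa8943bdb13907dfff03c4f88f2fe0f6fe0e7466f277d0e76d16c7cb07624c0a1a32718cbb8dbc39,
  0x2907b2d7441e34e531cec4d36bc686d5c824b83b7ca4095344f959e8d5953f4bd5843a25b9504a36b28fadd326f29a5e1a844da0486406bdfb548e5cebbb93b921182d94d607b105f01d72211392960588afb10bf2e4b42dec5452234ff3d1ad0b1f3cd99d6ae9a361cd15e707d56729e9df681f3b4a5dbd3565af16534b9577,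
  0x111a88913ac50c4790c32df848b295e59bfccecae8f206b8157152462a303299db5a776d506842e03f7078744eeb72fff3f9b1ba5bb8b43121b48cd47dd214f0,
  0x8d7a04da99e83f4d96176ec663393643a1d222eade87a8816fb3bc81484d6eec65c3dcb4a9d72b6d72978e266d785c8125f2c146f5ba08617846ef59c5911e024b20f90da5a760fabb421740deefcee3cf9356d576ba43adbc8e5828f9e0abc7051423b2fa0bb503f01d7221139296051d8fc9e29e0e498a228b5b7527cc66efbfbae3c6dd7f341ab1352bf0be2a7e6762ed7a51830120ef4dc3d702c83604775bca29b1e9d77fb4654de6d0e1dbf0b35aceada87cc02f88dcd87b11bafe57dda32973fd87da88676415d178f0a43866db27043d5d4a38a741a3f7bb20a7324e1c764e714790d4505d5859be5ea128877f93401c8b69883a65202fba58f3f967,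
  0x40e4d53a02d6458325804c4bfa5c542cbcec6a487aee53aac9e85c741544f886ccde057d4d951a18e7ea18db4fc1c26f43b77a9c6ba35c3d4a587396a1151ecd1749a9cc3e5d79eaa8e56f2d5d6176d32bb47276d9993a56a80cc9111ef42e4b689bd3e03db18b9e7b8b42e09ca4ebddc1383c596fc27c56eb228e3b60cdf549,
  0xc3fc5de0cd1e8ae3a4350d81dcf21154e5e681498e428bb616f2dd6ee8d436f6de09c3d4aa2ec4fcfe0e7466f277d0e738f9f4568e3c94c9ba5f417d84c125f7df7e3c30d06c58d12cd1f5e53026b8b116c29ac1bd8195b6d2142d537259d686e9e5e163d9e23d925e8d31b960a0246ed5763430d06458d32cd1f5e53026b8b1,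
  0x5f46a08cbbe65442be66a64f710b267187021c80262f8cc8e52125e11cc087ef50bc2fca925ccd4fe0e7466f277d0e7ec3c901c1f4508229fe0bf50ad025149,
  0xefaeee6bed5191df666081451d7e56f6ed957766a0159d254487054c42db79340d8e5f2281a618b55bf646d89cc81c4fc2585abff30509c4fe1e6dd4e760e5e1486f904182849af74be16b3d610cbe4fe043674ab39d8f99997cc865a2cbf205a5f626e2fe8fa4856fb3bc81484d6eec66e97251870120ef4dc3d702c8360477,
  0x7324fd7c8b6a96be16f2a1cecd7b8e268be21112c968d0a49a7cb6522af4c9c414158feb30c0d31fbcb89d951a461dc0e4dc7943b9582da659714eb53bf01d91,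
  0xb4309a53443a22077db540591fbdbc5be2294b3bb7752774e056668cc93105ba052738e753f52e83faaa598df436fb4d739b7d463ada9862777cb907cc16387a,
  0x72e77427db589dd1faaae18dc26bcb3d2ac913f96a3447c13888feae41546fb1,
  0x5bd22a49a63bd64365b53181cc90248e8360ba841998db776ee8a86aaf5d62d152426465f41d6d4de8c503d22685f0c03bb5f7ec5c71cdca853bb0c9d75ba22db5bc76c48c06b6594e6ce5d9329b19ad0913b0f7523a32c731cec4d36bc686d53a6008c21149e2c68e52125e11cc087ed7b698d28bcf2297a4815c848d5e1d6b68ec0ba7d1d97f644d70fc0cae193523365199d42f6479daa8e56f2d5d6176d3dd70043d9958de3b17a82f6be73174c7a4b9f2d1e43fc25b0d88439baf87f461ef749c5129069ed6f17d927e26ab6d89b813be3ff5096b1271b32a453f01419e250dc62cca5540a8c10238f8d033d6bee91dad70232de0962454721ff4e79d36,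
  0x275189d42e7569caa8e56f2d5d6176d3856215faa8d9264596176ec663393643b23f2f447961c0fb5153e90c433860be42d280c7fb758c7d208edae5270ee097decf9042954183a716f2dd6ee8d436f62a6009c21058e2d68e52125e11cc087ed13ab6c08783f8129585b8f90c0153c36d560c20398b07bd2655100f2fc8f2e5,
  0xe18172443740abed7804c466e7f32b133ca925e391f185650f212d650ac2c5d65790ff42b5e570be96da0eeebdd631ca34f91ed4c2fa3d5a6395666ab452bafefefb32a4ad0a768919614a9bb6f51c9fd408c589d05f695481f86b40f971d1943b039930ebb4cc4793c6cdd087dd40feac2effb225ab74316a2d2633fff6d1aa,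
  0xd764a241043c3731caa9e1ed51590bb978fd0ab7c2da6e654d70fc0cae193523977015f8aac9265796176ec6633936433cba36e392f296760f212d650ac2c5d6,
  0x26e3f06c9236a8c3ba5f417d84c125f761ad6389f4c5fa4fd4be8b43327bb5db24cc140ea5f0399f77d339c499f446b9f9348f5c796e220388af4da4164f4e1bf7862c17a9704c22b28fadd326f29a5e943a14407ffb8e09a010c2f58c57f4accd65f07231c638c5be1dff817c8ea2292a600cc20149e2d28e52125e11cc087e,
  0x174dd7963f518ecaf555ae1234d15665b6312f47c95e0594b464f76fcc76797bc554628475d9f045818a524e5b69911a53e9f54cccc7cd281853fdfc23fabf0a,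
  0x75426055b02ed91476b09065eeef51f0d4a445bfa1c0482a6c689d5f35b1f9f651d42827bfcda3b38e51b595039c39eb343d81ed2495a67eb36ba45388ac93b9,
  0xd45e60d24c1b24a3f5ad8d7d578f1f66990208cc6087618a617e7620cb2f400a,
  0xac8970b3e1d6f6b70dd406f28ba44d9ab09449b7ae2cf00ac982f3baf70166c4d8154d2da36b1362e056668cc93105ba48ee210413561c4f610b37999b86178bda3832397eb2c4f0246be1af4d605e0e067c62f02ae5105f0fcad702bddfabe2f25829142588faeb86781bbaaadf3b82ca7edd6befb9ebea12af81590af003cd,
  0xe1d5663dcbe5b45ac2cdbefa6536e13173a3880c7d17d9aeb33d3a4e10989351db128335bf7c327dd42c42b1e6cc3d058d6205f2b8d12e4d96176ec663393643,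
  0xf166cb6512ec8fd48e91c7addc6f50a5ed7e3c30e05c68e32cd1f5e53026b8b13cbb2fe18beb8f6f0f212d650ac2c5d66d51403195da75f05a20700b32896bfc,
  0x676eafa70249ce7754c416819a3008f0d0dfb818e991f792cee2feac79bc6366,
  0x838950ddc4c581a30e76815642f27c703ebb0704a93f43cf54329ffc47a48410a8d8be50d915b03003c1d0d153ecd59d25010b996bb48de169577fad94f440bf,
  0x58353b766b1944fdf71ef036a8c81c9a0d3817a2e306ad07f01d722113929605,
  0x5bad2da46bbf1f4e609466ee2916d3aa51a6e7d03bb286ac7b8b42e09ca4ebdd,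
  0x0]

theorem chk85 : chkB 8 l85 l85 (exOne 8) 256 t85 128 = true := Fast.chkB_of_8 (by decide +kernel)

theorem all85 : AllB 8 l85 l85 (exOne 8) := fun b h1 h2 c hc h3 h4 =>
  chkB_spec t85 _ chk85 b h1 h2 c hc h3 h4

/-- every nonidentity element of `GL_8(2)` is a product of two elements with the characteristic polynomial `mono (zl l85)` -/
theorem prod85 (A : Matrix (Fin 8) (Fin 8) (ZMod 2)) (hA : A.det ≠ 0) (hA1 : A ≠ 1) :
    ∃ X Y : Matrix (Fin 8) (Fin 8) (ZMod 2), A = X * Y ∧ X.charpoly = mono (zl l85) ∧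
      Y.charpoly = mono (zl l85) :=
  exists_prod (n := 8) (by norm_num) rfl rfl irr85 irr85 all85 A hA hA1

/-- the polynomial -/
noncomputable def g8 (K : Type*) [Field K] : K[X] := X ^ 8 + X ^ 5 + X ^ 4 + X ^ 3 + X ^ 2 + X + 1

theorem mono85 : mono (zl l85) = g8 (ZMod 2) := by
  simp only [mono, zl, l85, List.map_cons, List.map_nil, List.cons_append, List.nil_append, toP, g8]
  simp
  ring

universe u

section

variable {K : Type u} [Field K]

theorem g8_map {L : Type*} [Field L] (e : K →+* L) : (g8 K).map e = g8 L := by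
  simp [g8]

theorem g8_monic : (g8 K).Monic := by
  obtain h : (g8 K) = X ^ 8 + (X ^ 5 + X ^ 4 + X ^ 3 + X ^ 2 + X + 1) := by rw [g8]; ring
  rw [h]
  exact monic_X_pow_add (by compute_degree!)

theorem g8_deg : (g8 K).natDegree = 8 := by
  rw [g8]; compute_degree!

theorem irrg8 (hK : Nat.card K = 2) : Irreducible (g8 K) := by
  obtain ⟨e⟩ := exists_equiv hK
  have h := irr_map irr85 e
  rwa [mono85, g8_map] at h

/-- **`SL_8(2)`, order `85`.** -/
theorem cert85 (hK : Nat.card K = 2) :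
    ∃ c : Matrix.SpecialLinearGroup (Fin 8) K, (c : Matrix (Fin 8) (Fin 8) K).charpoly = g8 K ∧
      (∀ X : Matrix.SpecialLinearGroup (Fin 8) K, (X : Matrix (Fin 8) (Fin 8) K).charpoly = g8 K →
        ∃ g : Matrix.SpecialLinearGroup (Fin 8) K, X = g * c * g⁻¹) ∧
      ∀ A : Matrix.SpecialLinearGroup (Fin 8) K, A ≠ 1 →
        ∃ g h : Matrix.SpecialLinearGroup (Fin 8) K, A = (g * c * g⁻¹) * (h * c * h⁻¹) := by
  obtain ⟨e⟩ := exists_equiv hK
  have h := cert_aux hK (n := 8) irr85 (by rw [mono85, g8]; simp) (by rw [mono85, g8_deg]) (by norm_num)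
    (exists_ne 6) prod85 e
  rwa [mono85, g8_map] at h

theorem g8_dvd (hK : Nat.card K = 2) : g8 K ∣ X ^ 85 - 1 := by
  obtain ⟨e⟩ := exists_equiv hK
  have h : eqL (R := ZMod 2) (mulL (zl l85 ++ [1]) [1, 1, 0, 0, 0, 0, 1, 1, 1, 0, 1, 0, 1, 1, 0, 0, 1, 1, 0, 0, 1, 0, 0, 1, 1, 0, 0, 0, 1, 0, 1, 1, 0, 1, 1, 0, 0, 0, 1, 1, 0, 1, 0, 1, 1, 1, 1, 1, 1, 0, 0, 0, 1, 1, 1, 0, 0, 1, 1, 1, 0, 0, 0, 0, 1, 0, 0, 0, 1, 0, 1, 0, 1, 1, 1, 0, 0, 1]) (xk 85) = true := by decide +kernel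
  have h1 := Polynomial.map_dvd (e : ZMod 2 →+* K) (dvd_of_check h)
  rw [mono85, g8_map] at h1
  simpa using h1

/-- eigenvalues of order 85 -/
theorem eig85 (hK : Nat.card K = 2) :
    ∃ (L : Type u) (_ : Field L) (_ : Finite L) (i : K →+* L) (z : L), orderOf z = 85 ∧ (g8 K).eval₂ i z = 0 ∧
      ∀ A : Matrix (Fin 8) (Fin 8) K, A.charpoly = g8 K →
        ∃ g : GL (Fin 8) L, A.map i = (g : Matrix (Fin 8) (Fin 8) L) *
          Matrix.diagonal (fun a : Fin 8 => z ^ (2 ^ (a : ℕ))) * ((g⁻¹ : GL (Fin 8) L) : Matrix _ _ L) := by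
  obtain ⟨e⟩ := exists_equiv hK
  refine eig_aux hK (irrg8 hK) g8_monic g8_deg (by norm_num) (g8_dvd hK) ?_
  intro p hp hpN
  have hp1 : p = 5 ∨ p = 17 := by
    have h0 : p ∣ 5 * 17 := by simpa using hpN
    rcases (hp.dvd_mul).1 h0 with h0 | h0
    · exact Or.inl ((Nat.prime_dvd_prime_iff_eq hp (by norm_num)).1 h0)
    · exact Or.inr ((Nat.prime_dvd_prime_iff_eq hp (by norm_num)).1 h0)
  have c5 : copCheck (R := ZMod 2) (zl l85) [1, 1, 1] [0, 0, 1, 1, 1, 1] 5 = true := by decide +kernel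
  have c17 : copCheck (R := ZMod 2) (zl l85) [1, 1, 1, 0, 0, 0, 0, 0, 1, 0, 0, 1, 0, 0, 1, 0, 1] [0, 0, 1, 1, 1, 1, 0, 1] 17 = true := by
    decide +kernel
  have hh : ∀ k, IsCoprime (mono (zl l85)) (X ^ k - 1) → IsCoprime (g8 K) (X ^ k - 1) := by
    intro k h
    have h1 := h.map (Polynomial.mapRingHom (e : ZMod 2 →+* K))
    rw [mono85, coe_mapRingHom, g8_map] at h1
    simpa using h1
  rcases hp1 with rfl | rfl
  · exact hh 17 (cop_of_check c17)
  · exact hh 5 (cop_of_check c5)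

end

end Cfsg.Agent.H122.SX.E85
end

-- part: H122/SX/ETwo85
section
/-!
# `E₈(2)` : every `g ≠ 1` is a product of two elements of one class of elements of order dividing `85` (helper122, S2464)

The block `SL_8(2)` of the Levi subgroup of type `A₇`; the class has order `85`, it is real in `E₈(2)`.
-/

set_option autoImplicit false
set_option linter.unusedSectionVars false

namespace Cfsg.Agent.H122.SX

open CoxeterSystem Cfsg.Agent.ChevalleyStructure.CoxeterGeom Cfsg.Agent.Tits.Roots Cfsg.Agent.Tits.Core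
  Cfsg.Agent.Nodes.Reps Cfsg.Agent.Nodes.BNOf Cfsg.Agent.Nodes.RGDLib Cfsg.Agent.Nodes.Bruhat
  Cfsg.Agent.Nodes.OppDec Cfsg.Agent.Nodes.LeviDec Cfsg.Agent.Nodes.KindChev Cfsg.Agent.Nodes.ChevCls
  Cfsg.Agent.OddHalf.NI.ModelChev Cfsg.Agent.Nodes.StabComb
  Cfsg.Agent.H162.GaussDec Cfsg.Agent.H162.GaussLevi Cfsg.Agent.H162.GaussSL Cfsg.Agent.H162.GaussMain
  Cfsg.Agent.H162.GaussExc
  Cfsg.Agent.H928.Ore.Frame Cfsg.Agent.H928.Ore.Fix Cfsg.Agent.H85.Ore Cfsg.Agent.H122.Ore.Blk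
open Cfsg.Lie Cfsg.Agent.ChevalleyStructure Cfsg.Agent.ChevalleyStructure.Elts
  Cfsg.Agent.ChevalleyStructure.RootVec Cfsg.Agent.ChevalleyStructure.NPerm
  Cfsg.Agent.ChevalleyStructure.CoxeterGeomTypes Cfsg.Agent.Nodes.RGDChev Cfsg.Agent.KFacts.RgdChevCoord

universe u

/-! ### The weights -/

/-- the exponent of a root -/
def ex85 (q : ℕ) : ℤ := ∑ b : Fin 8, (2 : ℤ) ^ (b : ℕ) * H482.Ore.Fix.wt chevE8 j8 q b

private theorem ex85_nat : ∀ q < chevE8.nroots, vec chevE8 8 q 1 ≠ 0 →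
    (RootVecTab.cart chevE8 0 q + 3 * RootVecTab.cart chevE8 2 q + 7 * RootVecTab.cart chevE8 3 q + 15 * RootVecTab.cart chevE8 4 q + 31 * RootVecTab.cart chevE8 5 q +
      63 * RootVecTab.cart chevE8 6 q + 127 * RootVecTab.cart chevE8 7 q) % 85 ≠ 21 := by
  refine @of_decide_eq_true _ ?_ ?_
  · refine @Nat.decidableBallLT _ _ fun q _ => ?_
    infer_instance
  · decide +kernel

theorem ex85_ne : ∀ q < chevE8.nroots, (∃ k : Fin 8, k ∉ J8 ∧ vec chevE8 8 q k ≠ 0) → ex85 q % 85 ≠ 0 := by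
  rintro q hq ⟨k, hk, h⟩
  have hk1 : ∀ k : Fin 8, k ∉ J8 → k = 1 := by decide
  rw [hk1 k hk] at h
  have h1 := ex85_nat q hq h
  have hc : ∀ i : ℕ, i < 8 → chevE8.cartan i q = (RootVecTab.cart chevE8 i q : ℤ) - 8 := fun i hi =>
    cartan_eq_cart (Cfsg.Agent.Nodes.RGDChev.IsType.checked Cfsg.Agent.H122.Pw.hp8) hi hq
  have h2 : ex85 q = chevE8.cartan 0 q + 3 * chevE8.cartan 2 q + 7 * chevE8.cartan 3 q + 15 * chevE8.cartan 4 q +
      31 * chevE8.cartan 5 q + 63 * chevE8.cartan 6 q + 127 * chevE8.cartan 7 q := by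
    have h3 : ∀ f : ℕ → ℤ, ∑ b : Fin 8, (2 : ℤ) ^ (b : ℕ) * ∑ a : Fin 7, (if b ≤ a.castSucc then f (j8 a) else 0) =
        f 0 + 3 * f 2 + 7 * f 3 + 15 * f 4 + 31 * f 5 + 63 * f 6 + 127 * f 7 := by
      intro f
      change (2 : ℤ) ^ 0 * (f 0 + (f 2 + (f 3 + (f 4 + (f 5 + (f 6 + (f 7 + 0))))))) +
        (2 ^ 1 * (0 + (f 2 + (f 3 + (f 4 + (f 5 + (f 6 + (f 7 + 0))))))) +
        (2 ^ 2 * (0 + (0 + (f 3 + (f 4 + (f 5 + (f 6 + (f 7 + 0))))))) +
        (2 ^ 3 * (0 + (0 + (0 + (f 4 + (f 5 + (f 6 + (f 7 + 0))))))) +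
        (2 ^ 4 * (0 + (0 + (0 + (0 + (f 5 + (f 6 + (f 7 + 0))))))) +
        (2 ^ 5 * (0 + (0 + (0 + (0 + (0 + (f 6 + (f 7 + 0))))))) +
        (2 ^ 6 * (0 + (0 + (0 + (0 + (0 + (0 + (f 7 + 0))))))) +
        (2 ^ 7 * (0 + (0 + (0 + (0 + (0 + (0 + (0 + 0))))))) + 0))))))) = _
      ring
    exact h3 fun i => chevE8.cartan i q
  rw [h2, hc 0 (by decide), hc 2 (by decide), hc 3 (by decide), hc 4 (by decide), hc 5 (by decide), hc 6 (by decide),
    hc 7 (by decide)]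
  omega

theorem ne_one_85 {K' : Type*} [Field K'] {z : K'} (hz : orderOf z = 85) (hz0 : z ≠ 0) {q : ℕ} (hq : q < chevE8.nroots)
    (hk : ∃ k : Fin 8, k ∉ J8 ∧ vec chevE8 8 q k ≠ 0) :
    ∏ b : Fin 8, (z ^ (2 ^ (b : ℕ))) ^ H482.Ore.Fix.wt chevE8 j8 q b ≠ 1 := by
  have h1 : ∀ b : Fin 8, (z ^ (2 ^ (b : ℕ))) ^ H482.Ore.Fix.wt chevE8 j8 q b =
      z ^ ((2 : ℤ) ^ (b : ℕ) * H482.Ore.Fix.wt chevE8 j8 q b) := by
    intro b
    rw [← zpow_natCast, ← zpow_mul]
    push_cast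
    rfl
  rw [Finset.prod_congr rfl fun b _ => h1 b, prod_zpow' hz0]
  intro h2
  refine ex85_ne q hq hk (Int.emod_eq_zero_of_dvd ?_)
  obtain ⟨u, rfl⟩ : ∃ u : K'ˣ, (u : K') = z := ⟨Units.mk0 z hz0, rfl⟩
  have h3 : u ^ (ex85 q) = 1 := by
    apply Units.ext
    rw [Units.val_zpow_eq_zpow_val, Units.val_one]
    exact h2
  have h4 := orderOf_dvd_iff_zpow_eq_one.2 h3
  rw [← orderOf_units, hz] at h4
  exact_mod_cast h4

/-! ### The frame -/

section

variable {D : ChevalleyDatum} {l : ℕ} {M : CoxeterMatrix (Fin l)} (hp : IsType D l M) {K : Type u} [Field K]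

/-- **One real class in a block.** -/
theorem one_of_real [Finite K] (hl : 0 < l) (hG : IsSimpleGroup ↥(D.group K) ∧ ¬ IsMulCommutative ↥(D.group K))
    (hM : ∀ J : Finset (Fin l), J = ∅ ∨ J = Finset.univ ∨ ∃ a ∈ J, ∃ b, b ∉ J ∧ M a b ≠ 2) {J : Set (Fin l)} {n : ℕ}
    {φ : Matrix.SpecialLinearGroup (Fin (n + 2)) K →* ↥(D.group K)}
    (hr : ∀ A, φ A ∈ LJ M.toCoxeterSystem hp.isCartan (TT D K) (XX D l K) J)
    (hU : UJ M.toCoxeterSystem hp.isCartan (XX D l K) J ≤ (UT (n + 2) K).map φ)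
    (hUN : UNJ M.toCoxeterSystem hp.isCartan (XX D l K) J ≤ (LT (n + 2) K).map φ)
    {c : Matrix.SpecialLinearGroup (Fin (n + 2)) K}
    (hA : ∀ A : Matrix.SpecialLinearGroup (Fin (n + 2)) K, A ≠ 1 → ∃ g h, A = (g * c * g⁻¹) * (h * c * h⁻¹))
    (hinv : ∃ t : ↥(D.group K), t * t = 1 ∧ t * φ c * t⁻¹ = (φ c)⁻¹)
    (hNF : NF (VJ M.toCoxeterSystem hp.isCartan (XX D l K) J) (φ c))
    (hNF' : NF (VNJ M.toCoxeterSystem hp.isCartan (XX D l K) J) (φ c)) :
    ∀ g : ↥(D.group K), g ≠ 1 → ∃ u v, g = (u * φ c * u⁻¹) * (v * φ c * v⁻¹) := by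
  intro g₀ hg₀
  obtain ⟨p, hpc⟩ := CharP.exists K
  have : Fact p.Prime := ⟨(CharP.char_is_prime_or_zero K p).resolve_right (CharP.char_ne_zero_of_finite K p)⟩
  have hW := finite_W hp M.toCoxeterSystem
  have : Nonempty (Fin l) := ⟨⟨0, hl⟩⟩
  have R := rgd (K := K) hp M.toCoxeterSystem p
  obtain ⟨t, ht, hti⟩ := hinv
  have hnf : ∀ g, NF (VJ M.toCoxeterSystem hp.isCartan (XX D l K) J) (φ (g * c * g⁻¹)) ∧
      NF (VNJ M.toCoxeterSystem hp.isCartan (XX D l K) J) (φ (g * c * g⁻¹)) := by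
    intro g
    rw [map_mul, map_mul, map_inv]
    exact ⟨NF.conj (LJ_le_normalizer_VJ R J (hr g)) hNF, NF.conj (LJ_le_normalizer_VNJ R J (hr g)) hNF'⟩
  obtain ⟨c₁, c₂, x, y, ⟨⟨z, hz⟩, w, hw⟩, e⟩ := pair R (G1_eq_top hp _)
    (coord hp) (Cfsg.Agent.Nodes.ChevChart.irr_of hM) (J := J)
    (Pr := fun c₁ c₂ : ↥(D.group K) => (∃ x, c₁ = x * φ c * x⁻¹) ∧ ∃ y, c₂ = y * φ c * y⁻¹) (g := g₀) (by
      intro v hv u hu
      obtain ⟨L, -, rfl⟩ := hUN hv
      obtain ⟨U, -, rfl⟩ := hU hu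
      by_cases h1 : L * U = 1
      · refine ⟨φ c, (φ c)⁻¹, by rw [← map_mul, h1, map_one, mul_inv_cancel], ⟨hr _, inv_mem (hr _), hNF', NF.inv hNF⟩,
          ⟨1, by group⟩, t, hti.symm⟩
      · obtain ⟨g, h, e⟩ := hA _ h1
        exact ⟨φ (g * c * g⁻¹), φ (h * c * h⁻¹), by rw [← map_mul, e, map_mul], ⟨hr _, hr _, (hnf g).2, (hnf h).1⟩,
          ⟨φ g, by rw [map_mul, map_mul, map_inv]⟩, φ h, by rw [map_mul, map_mul, map_inv]⟩)
    (fun h => hg₀ (one_of_core hp hl hG.1 h))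
  refine ⟨x * z, y * w, ?_⟩
  rw [e, hz, hw]
  group

end

/-! ### `E₈(2)` -/

theorem fixedE2 {K : Type u} [Field K] (hK : Nat.card K = 2) : ∃ x : ↥(chevE8.group K), x ^ 85 = 1 ∧
    ∀ g : ↥(chevE8.group K), g ≠ 1 → ∃ u v : ↥(chevE8.group K), g = (u * x * u⁻¹) * (v * x * v⁻¹) := by
  have : Finite K := Nat.finite_of_card_ne_zero (by rw [hK]; norm_num)
  have hc2 : CharP K 2 := by
    have : Fintype K := Fintype.ofFinite K
    exact charP_of_card_eq_prime (by rw [Fintype.card_eq_nat_card, hK])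
  obtain ⟨φ, hφ⟩ := exists_phi8 K
  obtain ⟨c, hc, -, hA⟩ := E85.cert85 hK
  obtain ⟨L, _, _, i, z, hz, -, hd⟩ := E85.eig85 hK
  obtain ⟨g, hg⟩ := hd _ hc
  obtain ⟨φ', hφ'⟩ := exists_phi8 L
  have : CharP L 2 := charP_of_injective_ringHom i.injective 2
  have : Fact (Nat.Prime 2) := ⟨Nat.prime_two⟩
  have hs : ∀ _ _ : Fin 8, (((-1 : ℤ) : K)) ≠ 0 := fun _ _ => by simp
  have B : H482.Ore.Fix.Bk Cfsg.Agent.Nodes.KindE.isType8 i {k | k ∈ J8} 6 r8 j8 φ φ' (fun _ _ => ((-1 : ℤ) : K)) :=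
    { simp := ⟨r8_simple, r8_simple'⟩
      rlt := tab8.rlt
      rJ := tab8.rJ
      hφ := hφ
      hφ' := fun a b hab c => by rw [hφ' a b hab c, map_intCast]
      ss := fun a => by norm_num }
  have hz0 : z ≠ 0 := by
    rintro rfl
    have h1 : orderOf (0 : L) = 0 := by
      rw [orderOf_eq_zero_iff']
      intro m hm
      rw [zero_pow hm.ne']
      exact zero_ne_one
    rw [h1] at hz
    norm_num at hz
  obtain ⟨n1, n2⟩ := H482.Ore.Fix.nf_block' Cfsg.Agent.Nodes.KindE.isType8 2 B hg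
    (fun q hq hk => ne_one_85 hz hz0 hq hk)
  have hc85 : c ^ 85 = 1 := by
    apply Subtype.ext
    change c.1 ^ 85 = 1
    obtain ⟨q, hq⟩ := E85.g8_dvd hK
    have h1 := congrArg (Polynomial.aeval c.1) hq
    rw [map_mul, ← hc, Matrix.aeval_self_charpoly, zero_mul, map_sub, map_pow, Polynomial.aeval_X, map_one,
      sub_eq_zero] at h1
    exact h1
  refine ⟨φ c, by rw [← map_pow, hc85, map_one], ?_⟩
  exact one_of_real Cfsg.Agent.Nodes.KindE.isType8 (by norm_num) (Cfsg.Agent.S1054.result chevE8 (by simp))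
    Cfsg.Agent.Nodes.ChevChart.irr8 (phi_mem Cfsg.Agent.Nodes.KindE.isType8 tab8 hφ)
    (UJ_le Cfsg.Agent.Nodes.KindE.isType8 tab8 (s := fun _ _ => ((-1 : ℤ) : K)) hs hφ)
    (UNJ_le Cfsg.Agent.Nodes.KindE.isType8 tab8 (s := fun _ _ => ((-1 : ℤ) : K)) hs hφ) hA
    (inv_of_irr Cfsg.Agent.Nodes.KindE.isType8 (rep_neg_of Cfsg.Agent.Nodes.KindE.isType8 frE8) (ε := -1) (by norm_num)
      (fun a b hab => tab8.rlt a b hab) (fun a b hab => rt8.2.2.2 a b hab) hφ (by rw [hc]; exact E85.irrg8 hK)) n1 n2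

/-- **`E₈(2)`.** -/
theorem t6_E8_two {K : Type u} [Field K] (hK : Nat.card K = 2) : Cfsg.Agent.H777.T6.T6 ↥(chevE8.group K) := by
  obtain ⟨x, hx, h⟩ := fixedE2 hK
  have h1 : Nat.Coprime (orderOf x) 6 :=
    Nat.Coprime.coprime_dvd_left (orderOf_dvd_of_pow_eq_one hx) (by norm_num)
  exact ⟨x, x, h1, h1, h⟩

end Cfsg.Agent.H122.SX
end

private theorem dce_dc3301c9b61b : _root_.True := by
  try have : _root_.True := by simp only [_root_.Cfsg.Agent.H122.SX.E85.g8.eq_1]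
  try have : _root_.True := by simp only [_root_.Cfsg.Agent.H122.SX.kap.eq_1]
  try have : _root_.True := by simp only [_root_.Cfsg.Agent.H122.SX.sgn.eq_1]
  try have : _root_.True := by simp only [_root_.Cfsg.Agent.H122.SX.CD.Dg.congr_simp]
  try have : _root_.True := by simp only [_root_.Cfsg.Agent.H162.GaussExc.sg.eq_1]
  try have : _root_.True := by simp only [_root_.Cfsg.Agent.H122.SX.dl.eq_1]
  try have : _root_.True := by simp only [_root_.Cfsg.Agent.H122.SX.CD.sg.eq_1]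
  try have : _root_.True := by simp only [_root_.Cfsg.Agent.H122.SX.sgn4.eq_1]
  try have : _root_.True := by simp only [_root_.Cfsg.Agent.H122.SX.E85.l85.eq_1]
  exact _root_.True.intro
end

-- part: H186/F43/Mzero
section
prune_inst 0x14403140040002082000008031201c020a000520000880008020020406c216200d82e860b80009040a22000d0039000000000000000000000000040001180180108000040100010080008e000100000000000000000000000000000000041004000000000
set_option linter.all false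
open scoped Cfsg.Agent.FastGrp

namespace Cfsg.Agent
section
open Cfsg.Agent.H700.F43 Cfsg.Agent.ChevalleyStructure.E6Min.Tables

private noncomputable def fW (x : ℕ) (f : ℕ → ℕ) : ℕ := Nat.rec (f 0) (fun n _ => f (Nat.succ n)) x

private noncomputable def rwG (k : ℕ) (pos : Bool) (f : ℕ → ℕ) (x : ℕ) : ℕ :=
  fW (ent k x) fun e => @Bool.rec (fun _ => ℕ)
    (add3 (f x) (fW (Nat.land e 31) fun s => cond pos (cond (Nat.blt e 64) (f s) (neg3 (f s))) (cond (Nat.blt e 64) (neg3 (f s)) (f s))))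
    (f x) (Nat.ble e 31)

private noncomputable def rowF (w : List (ℕ × Bool)) : ℕ → ℕ :=
  List.rec (nt idR) (fun e _ ih x => @Bool.rec (fun _ => ℕ) 0 (rwG e.1 e.2 ih x) (Nat.ble x 26)) w

private noncomputable def chkF (u v : List (ℕ × Bool)) : Bool :=
  okF u && okF v && eqN (r27.map fun x => fW x (rowF (exw u))) (r27.map fun x => fW x (rowF (exw v)))

private theorem chkE_eq : chkE = chkF := by
  have h0 : ∀ x f, fW x f = f x := fun x f => by cases x <;> rfl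
  have h1 : ∀ k p L x, rwf k p L x = rwG k p (nt L) x := fun k p L x => by
    delta rwf rwG
    rw [h0, h0]
    cases ent k x with
    | zero => rfl
    | succ e =>
      show cond (Nat.ble (e + 1) 31) _ _ = _
      cases Nat.ble (e + 1) 31 <;> rfl
  have h2 : ∀ w, nt (evl w idR) = rowF w := fun w => by
    induction w with
    | nil => rfl
    | cons e w ih =>
      funext x
      show nt (r27.map (rwf e.1 e.2 (evl w idR))) x = @Bool.rec (fun _ => ℕ) 0 (rwG e.1 e.2 (rowF w) x) (Nat.ble x 26)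
      rw [nt_eq]
      cases h : Nat.ble x 26 with
      | true => rw [getD_map_r27 _ (Nat.lt_succ_of_le (Nat.le_of_ble_eq_true h)), h1, ih]
      | false => exact getD_map_r27' _ fun h' => Bool.noConfusion (h.symm.trans (Nat.ble_eq_true_of_le (Nat.le_of_lt_succ h')))
  have h3 : ∀ w, evl w idR = r27.map fun x => fW x (rowF w) := fun w => by
    simp only [h0]
    cases w with
    | nil => exact (by decide +kernel : idR = r27.map (nt idR))
    | cons e w =>
      refine List.map_congr_left fun x hx => ?_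
      rw [← h2, nt_eq]
      exact (getD_map_r27 _ ((by decide : ∀ x ∈ r27, x < 27) x hx)).symm
  funext u v
  delta chkE chkF
  rw [evk_eq, evk_eq, h3, h3]

end
end Cfsg.Agent

-- part: H186/F43/Fix
section
/-!
# Fixed spaces of isotropic subgroups (abstract part of the row F₄(3) of S2464; helper186)

* `fx ρ S`, `ei ρ t μ` : fixed space of a set, `μ`-eigenspace of `ρ t`;
* `Iso t I` : every `i ∈ I`, `i ≠ 1`, has a `w` commuting with `t` with `[w, i] = t^{±1}`;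
* `card_mul_finrank` : `|I| · dim (E ⊓ fix I) = dim E` for `E = ei ρ t μ`, `μ ≠ 1`;
* `step` : `F ≤ fix I` : `dim F ≤ dim (F ⊓ fix t) + dim (E_ω ⊓ fix I) + dim (E_ω² ⊓ fix I)`;
* `ei_conj` : conjugate elements.
-/

set_option autoImplicit false

namespace Cfsg.Agent.H186.F43

open Module

universe u v

variable {G : Type u} [Group G] {V : Type v} [AddCommGroup V] [Module ℂ V] (ρ : Representation ℂ G V)

/-- the fixed space of a set -/
def fx (S : Set G) : Submodule ℂ V where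
  carrier := {v | ∀ g ∈ S, ρ g v = v}
  add_mem' := fun {a b} ha hb g hg => by rw [map_add, ha g hg, hb g hg]
  zero_mem' := fun g _ => map_zero _
  smul_mem' := fun c v hv g hg => by rw [map_smul, hv g hg]

/-- the eigenspace -/
def ei (t : G) (μ : ℂ) : Submodule ℂ V where
  carrier := {v | ρ t v = μ • v}
  add_mem' := fun {a b} ha hb => by
    show ρ t (a + b) = μ • (a + b)
    rw [map_add, show ρ t a = μ • a from ha, show ρ t b = μ • b from hb, smul_add]
  zero_mem' := by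
    show ρ t 0 = μ • (0 : V)
    rw [map_zero, smul_zero]
  smul_mem' := fun c v hv => by
    show ρ t (c • v) = μ • (c • v)
    rw [map_smul, show ρ t v = μ • v from hv, smul_comm]

omit ρ in
theorem mm (ρ : Representation ℂ G V) (a b : G) (v : V) : ρ (a * b) v = ρ a (ρ b v) := by rw [map_mul]; rfl

theorem mem_ei {t : G} {μ : ℂ} {v : V} : v ∈ ei ρ t μ ↔ ρ t v = μ • v := Iff.rfl

/-- isotropic subgroups -/
structure Iso (t : G) (I : Subgroup G) : Prop where
  cube : t ^ 3 = 1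
  comm : ∀ i ∈ I, i * t = t * i
  nd : ∀ i ∈ I, i ≠ 1 → ∃ w : G, w * t = t * w ∧ (w * i = t * i * w ∨ w * i = t⁻¹ * i * w)

theorem Iso.conj {t : G} {I : Subgroup G} (h : Iso t I) (g : G) :
    Iso (g * t * g⁻¹) (I.map (MulAut.conj g).toMonoidHom) := by
  refine ⟨?_, ?_, ?_⟩
  · rw [conj_pow, h.cube, mul_one, mul_inv_cancel]
  · rintro _ ⟨i, hi, rfl⟩
    show (g * i * g⁻¹) * (g * t * g⁻¹) = (g * t * g⁻¹) * (g * i * g⁻¹)
    have := h.comm i hi
    calc (g * i * g⁻¹) * (g * t * g⁻¹) = g * (i * t) * g⁻¹ := by group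
      _ = g * (t * i) * g⁻¹ := by rw [this]
      _ = _ := by group
  · rintro _ ⟨i, hi, rfl⟩ hne
    have hi1 : i ≠ 1 := by
      rintro rfl
      exact hne (map_one _)
    obtain ⟨w, h1, h2⟩ := h.nd i hi hi1
    refine ⟨g * w * g⁻¹, ?_, ?_⟩
    · calc (g * w * g⁻¹) * (g * t * g⁻¹) = g * (w * t) * g⁻¹ := by group
        _ = g * (t * w) * g⁻¹ := by rw [h1]
        _ = _ := by group
    · rcases h2 with h2 | h2
      · left
        show (g * w * g⁻¹) * (g * i * g⁻¹) = (g * t * g⁻¹) * (g * i * g⁻¹) * (g * w * g⁻¹)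
        calc (g * w * g⁻¹) * (g * i * g⁻¹) = g * (w * i) * g⁻¹ := by group
          _ = g * (t * i * w) * g⁻¹ := by rw [h2]
          _ = _ := by group
      · right
        show (g * w * g⁻¹) * (g * i * g⁻¹) = (g * t * g⁻¹)⁻¹ * (g * i * g⁻¹) * (g * w * g⁻¹)
        calc (g * w * g⁻¹) * (g * i * g⁻¹) = g * (w * i) * g⁻¹ := by group
          _ = g * (t⁻¹ * i * w) * g⁻¹ := by rw [h2]
          _ = _ := by group

theorem card_conj (I : Subgroup G) (g : G) : Nat.card ↥(I.map (MulAut.conj g).toMonoidHom) = Nat.card ↥I :=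
  (Nat.card_congr (I.equivMapOfInjective _ (MulAut.conj g).injective).toEquiv).symm

/-- one more generator -/
theorem Iso.sup {t b s : G} {I : Subgroup G} (h : Iso t I) (hb : b ^ 3 = 1) (ht : t ≠ 1) (hbt : b * t = t * b)
    (hst : s * t = t * s) (hbI : ∀ i ∈ I, i * b = b * i) (hsI : ∀ i ∈ I, i * s = s * i)
    (hsb : s * b = t * b * s ∨ s * b = t⁻¹ * b * s) {n : ℕ} (hn : Nat.card ↥I = n) :
    ∃ J : Subgroup G, I ≤ J ∧ b ∈ J ∧ (∀ j ∈ J, ∃ i ∈ I, ∃ k : ℕ, j = i * b ^ k) ∧ Iso t J ∧ Nat.card ↥J = 3 * n := by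
  classical
  have ht3 : t * (t * t) = 1 := by
    have := h.cube
    rwa [pow_succ, pow_two, mul_assoc] at this
  have hinv : t * t = t⁻¹ := (inv_eq_of_mul_eq_one_right ht3).symm
  have hpow : ∀ (k : ℕ), ∀ i ∈ I, i * b ^ k = b ^ k * i := fun k i hi => ((show Commute i b from hbI i hi).pow_right k).eq
  let J : Subgroup G :=
    { carrier := {j | ∃ i ∈ I, ∃ k : ℕ, j = i * b ^ k}
      mul_mem' := by
        rintro _ _ ⟨i, hi, k, rfl⟩ ⟨i', hi', k', rfl⟩
        refine ⟨i * i', I.mul_mem hi hi', k + k', ?_⟩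
        rw [pow_add]
        calc i * b ^ k * (i' * b ^ k') = i * (b ^ k * i') * b ^ k' := by group
          _ = i * (i' * b ^ k) * b ^ k' := by rw [hpow k i' hi']
          _ = _ := by group
      one_mem' := ⟨1, I.one_mem, 0, by simp⟩
      inv_mem' := by
        rintro _ ⟨i, hi, k, rfl⟩
        refine ⟨i⁻¹, I.inv_mem hi, 2 * k, ?_⟩
        have h3 : b ^ (2 * k) = (b ^ k)⁻¹ := by
          rw [eq_inv_iff_mul_eq_one, ← pow_add, show 2 * k + k = 3 * k by ring, pow_mul, hb, one_pow]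
        rw [hpow _ _ (I.inv_mem hi), h3, mul_inv_rev] }
  have hIJ : I ≤ J := fun i hi => ⟨i, hi, 0, by simp⟩
  have hbJ : b ∈ J := ⟨1, I.one_mem, 1, by simp⟩
  -- the commutator of `s` with `i b ^ k`
  have sc : ∀ i ∈ I, s * i = i * s := fun i hi => (hsI i hi).symm
  have tb : ∀ i ∈ I, t * i = i * t := fun i hi => (h.comm i hi).symm
  have key1 : ∀ i ∈ I, s * (i * b) = t * (i * b) * s ∨ s * (i * b) = t⁻¹ * (i * b) * s := by
    intro i hi
    rcases hsb with h1 | h1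
    · left
      calc s * (i * b) = i * (s * b) := by rw [← mul_assoc, sc i hi, mul_assoc]
        _ = i * (t * b * s) := by rw [h1]
        _ = (i * t) * b * s := by group
        _ = (t * i) * b * s := by rw [tb i hi]
        _ = _ := by group
    · right
      have h2 : i * t⁻¹ = t⁻¹ * i := ((show Commute i t from h.comm i hi).inv_right).eq
      calc s * (i * b) = i * (s * b) := by rw [← mul_assoc, sc i hi, mul_assoc]
        _ = i * (t⁻¹ * b * s) := by rw [h1]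
        _ = (i * t⁻¹) * b * s := by group
        _ = (t⁻¹ * i) * b * s := by rw [h2]
        _ = _ := by group
  have key2 : ∀ i ∈ I, s * (i * b ^ 2) = t * (i * b ^ 2) * s ∨ s * (i * b ^ 2) = t⁻¹ * (i * b ^ 2) * s := by
    intro i hi
    have h2 : i * t⁻¹ = t⁻¹ * i := ((show Commute i t from h.comm i hi).inv_right).eq
    rcases hsb with h1 | h1
    · right
      have h3 : s * b ^ 2 = t⁻¹ * b ^ 2 * s := by
        rw [pow_two, ← hinv]
        calc s * (b * b) = (s * b) * b := by group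
          _ = (t * b * s) * b := by rw [h1]
          _ = t * b * (s * b) := by group
          _ = t * b * (t * b * s) := by rw [h1]
          _ = t * (b * t) * b * s := by group
          _ = t * (t * b) * b * s := by rw [hbt]
          _ = _ := by group
      calc s * (i * b ^ 2) = i * (s * b ^ 2) := by rw [← mul_assoc, sc i hi, mul_assoc]
        _ = (i * t⁻¹) * b ^ 2 * s := by rw [h3]; group
        _ = (t⁻¹ * i) * b ^ 2 * s := by rw [h2]
        _ = _ := by group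
    · left
      have hbt' : b * t⁻¹ = t⁻¹ * b := ((show Commute b t from hbt).inv_right).eq
      have hinv' : t⁻¹ * t⁻¹ = t := by rw [← hinv, mul_assoc, ht3, mul_one]
      have h3 : s * b ^ 2 = t * b ^ 2 * s := by
        rw [pow_two]
        calc s * (b * b) = (s * b) * b := by group
          _ = (t⁻¹ * b * s) * b := by rw [h1]
          _ = t⁻¹ * b * (s * b) := by group
          _ = t⁻¹ * b * (t⁻¹ * b * s) := by rw [h1]
          _ = t⁻¹ * (b * t⁻¹) * b * s := by group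
          _ = t⁻¹ * (t⁻¹ * b) * b * s := by rw [hbt']
          _ = (t⁻¹ * t⁻¹) * (b * b) * s := by group
          _ = _ := by rw [hinv']
      calc s * (i * b ^ 2) = i * (s * b ^ 2) := by rw [← mul_assoc, sc i hi, mul_assoc]
        _ = (i * t) * b ^ 2 * s := by rw [h3]; group
        _ = (t * i) * b ^ 2 * s := by rw [tb i hi]
        _ = _ := by group
  -- `b ∉ I`
  have notI : ∀ k : ℕ, k < 3 → k ≠ 0 → b ^ k ∉ I := by
    intro k hk hk0 hmem
    have h4 : s * b ^ k = b ^ k * s := sc _ hmem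
    have h5 : s * b ^ k = t * b ^ k * s ∨ s * b ^ k = t⁻¹ * b ^ k * s := by
      have h6 : k = 1 ∨ k = 2 := by omega
      rcases h6 with rfl | rfl
      · have := key1 1 I.one_mem
        rwa [one_mul, ← pow_one b] at this
      · have := key2 1 I.one_mem
        rwa [one_mul] at this
    rcases h5 with h5 | h5
    · rw [h4, mul_assoc] at h5
      exact ht (mul_eq_right.1 h5.symm)
    · rw [h4, mul_assoc] at h5
      exact ht (inv_eq_one.1 (mul_eq_right.1 h5.symm))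
  refine ⟨J, hIJ, hbJ, fun j hj => hj, ⟨h.cube, ?_, ?_⟩, ?_⟩
  · rintro _ ⟨i, hi, k, rfl⟩
    exact (((show Commute i t from h.comm i hi).mul_left ((show Commute b t from hbt).pow_left k))).eq
  · rintro _ ⟨i, hi, k, rfl⟩ hne
    have hk : b ^ k = b ^ (k % 3) := by
      conv_lhs => rw [← Nat.div_add_mod k 3, pow_add, pow_mul, hb, one_pow, one_mul]
    have hk3 : k % 3 = 0 ∨ k % 3 = 1 ∨ k % 3 = 2 := by omega
    rw [hk] at hne ⊢
    rcases hk3 with h0 | h0 | h0
    · rw [h0, pow_zero, mul_one] at hne ⊢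
      exact h.nd i hi hne
    · rw [h0, pow_one]
      exact ⟨s, hst, key1 i hi⟩
    · rw [h0]
      exact ⟨s, hst, key2 i hi⟩
  · let f : ↥I × Fin 3 → ↥J := fun p => ⟨p.1 * b ^ (p.2 : ℕ), p.1, p.1.2, p.2, rfl⟩
    have hf : Function.Bijective f := by
      constructor
      · rintro ⟨i, k⟩ ⟨i', k'⟩ he
        have he' : (i : G) * b ^ (k : ℕ) = i' * b ^ (k' : ℕ) := congrArg Subtype.val he
        have hkk : k = k' := by
          by_contra hne
          have aux : ∀ (i i' : ↥I) (k k' : Fin 3), (i : G) * b ^ (k : ℕ) = i' * b ^ (k' : ℕ) → (k : ℕ) < k' → False := by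
            intro i i' k k' he hlt
            apply notI ((k' : ℕ) - k) (by omega) (by omega)
            have h7 : b ^ ((k' : ℕ) - k) = (i' : G)⁻¹ * i := by
              rw [eq_inv_mul_iff_mul_eq]
              have h8 : (i' : G) * b ^ (k' : ℕ) = i' * b ^ ((k' : ℕ) - k) * b ^ (k : ℕ) := by
                rw [mul_assoc, ← pow_add]
                congr 2
                omega
              rw [h8] at he
              exact (mul_right_cancel he).symm
            rw [h7]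
            exact I.mul_mem (I.inv_mem i'.2) i.2
          rcases lt_or_gt_of_ne (fun h => hne (Fin.ext h) : (k : ℕ) ≠ k') with h9 | h9
          · exact aux i i' k k' he' h9
          · exact aux i' i k' k he'.symm h9
        subst hkk
        have : (i : G) = i' := mul_right_cancel he'
        rw [Subtype.ext this]
      · rintro ⟨_, i, hi, k, rfl⟩
        refine ⟨(⟨i, hi⟩, ⟨k % 3, Nat.mod_lt _ (by norm_num)⟩), Subtype.ext ?_⟩
        show i * b ^ (k % 3) = i * b ^ k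
        conv_rhs => rw [← Nat.div_add_mod k 3, pow_add, pow_mul, hb, one_pow, one_mul]
    rw [← Nat.card_congr (Equiv.ofBijective f hf), Nat.card_prod, hn, Nat.card_eq_fintype_card, Fintype.card_fin,
      mul_comm]

theorem Iso.bot {t : G} (h : t ^ 3 = 1) : Iso t (⊥ : Subgroup G) :=
  ⟨h, fun i hi => by rw [Subgroup.mem_bot.1 hi, one_mul, mul_one], fun i hi hne => absurd (Subgroup.mem_bot.1 hi) hne⟩

/-! ### projections -/

/-- the projection onto `ei ρ t μ` -/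
noncomputable def pj (t : G) (μ : ℂ) : V →ₗ[ℂ] V := (3 : ℂ)⁻¹ • (1 + μ ^ 2 • ρ t + μ • ρ (t * t))

theorem pj_mem {t : G} {μ : ℂ} (ht : t ^ 3 = 1) (hμ : μ ^ 3 = 1) (v : V) : pj ρ t μ v ∈ ei ρ t μ := by
  rw [mem_ei]
  show ρ t ((3 : ℂ)⁻¹ • (v + μ ^ 2 • ρ t v + μ • ρ (t * t) v)) = μ • ((3 : ℂ)⁻¹ • (v + μ ^ 2 • ρ t v + μ • ρ (t * t) v))
  have h1 : ρ t (ρ t v) = ρ (t * t) v := by rw [map_mul]; rfl
  have h2 : ρ t (ρ (t * t) v) = v := by
    have h3 : t * (t * t) = 1 := by rwa [pow_succ, pow_two, mul_assoc] at ht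
    calc ρ t (ρ (t * t) v) = ρ (t * (t * t)) v := (mm ρ _ _ _).symm
      _ = v := by rw [h3, map_one]; rfl
  rw [map_smul, map_add, map_add, map_smul, map_smul, h1, h2, smul_comm]
  congr 1
  rw [smul_add, smul_add, smul_smul, smul_smul]
  have e1 : μ * μ ^ 2 = 1 := by rw [← hμ]; ring
  have e2 : μ * μ = μ ^ 2 := by ring
  rw [e1, e2, one_smul]
  abel

theorem pj_of_mem {t : G} {μ : ℂ} (hμ : μ ^ 3 = 1) {v : V} (hv : v ∈ ei ρ t μ) : pj ρ t μ v = v := by
  rw [mem_ei] at hv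
  show (3 : ℂ)⁻¹ • (v + μ ^ 2 • ρ t v + μ • ρ (t * t) v) = v
  have h1 : ρ (t * t) v = (μ * μ) • v := by
    calc ρ (t * t) v = ρ t (ρ t v) := by rw [map_mul]; rfl
      _ = _ := by rw [hv, map_smul, hv, smul_smul]
  rw [h1, hv, smul_smul, smul_smul]
  have e1 : μ ^ 2 * μ = 1 := by rw [← hμ]; ring
  have e2 : μ * (μ * μ) = 1 := by rw [← hμ]; ring
  rw [e1, e2, one_smul]
  have e3 : v + v + v = (3 : ℂ) • v := by
    rw [show (3 : ℂ) = 1 + 1 + 1 by norm_num, add_smul, add_smul, one_smul]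
  rw [e3, smul_smul, inv_mul_cancel₀ (by norm_num), one_smul]

/-- the three projections add up to `1` -/
theorem pj_sum {t : G} {ω : ℂ} (hω : 1 + ω + ω ^ 2 = 0) (v : V) :
    pj ρ t 1 v + pj ρ t ω v + pj ρ t (ω ^ 2) v = v := by
  show (3 : ℂ)⁻¹ • (v + (1 : ℂ) ^ 2 • ρ t v + (1 : ℂ) • ρ (t * t) v) + (3 : ℂ)⁻¹ • (v + ω ^ 2 • ρ t v + ω • ρ (t * t) v) +
    (3 : ℂ)⁻¹ • (v + (ω ^ 2) ^ 2 • ρ t v + ω ^ 2 • ρ (t * t) v) = v
  have hω3 : ω ^ 3 = 1 := by linear_combination (ω - 1) * hω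
  have e4 : (ω ^ 2) ^ 2 = ω := by linear_combination ω * hω3
  rw [e4, ← smul_add, ← smul_add]
  have e5 : v + (1 : ℂ) ^ 2 • ρ t v + (1 : ℂ) • ρ (t * t) v + (v + ω ^ 2 • ρ t v + ω • ρ (t * t) v) +
      (v + ω • ρ t v + ω ^ 2 • ρ (t * t) v) = (3 : ℂ) • v + (1 + ω + ω ^ 2) • ρ t v + (1 + ω + ω ^ 2) • ρ (t * t) v := by
    module
  rw [e5, hω, zero_smul, zero_smul, add_zero, add_zero, smul_smul, inv_mul_cancel₀ (by norm_num), one_smul]

/-- `pj` commutes with everything that commutes with `t` -/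
theorem pj_comm {t g : G} (h : g * t = t * g) (μ : ℂ) (v : V) : ρ g (pj ρ t μ v) = pj ρ t μ (ρ g v) := by
  show ρ g ((3 : ℂ)⁻¹ • (v + μ ^ 2 • ρ t v + μ • ρ (t * t) v)) =
    (3 : ℂ)⁻¹ • (ρ g v + μ ^ 2 • ρ t (ρ g v) + μ • ρ (t * t) (ρ g v))
  have h1 : ρ g (ρ t v) = ρ t (ρ g v) := by
    calc ρ g (ρ t v) = ρ (g * t) v := by rw [map_mul]; rfl
      _ = ρ (t * g) v := by rw [h]
      _ = _ := by rw [map_mul]; rfl
  have h2 : ρ g (ρ (t * t) v) = ρ (t * t) (ρ g v) := by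
    have h3 : g * (t * t) = (t * t) * g := by rw [← mul_assoc, h, mul_assoc, h, mul_assoc]
    calc ρ g (ρ (t * t) v) = ρ (g * (t * t)) v := (mm ρ _ _ _).symm
      _ = ρ ((t * t) * g) v := by rw [h3]
      _ = _ := by rw [map_mul]; rfl
  rw [map_smul, map_add, map_add, map_smul, map_smul, h1, h2]

section

variable [FiniteDimensional ℂ V]

/-- `dim E_μ = tr pj` -/
theorem trace_pj {t : G} {μ : ℂ} (ht : t ^ 3 = 1) (hμ : μ ^ 3 = 1) :
    LinearMap.trace ℂ V (pj ρ t μ) = (finrank ℂ ↥(ei ρ t μ) : ℂ) := by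
  have h : LinearMap.IsProj (ei ρ t μ) (pj ρ t μ) := ⟨pj_mem ρ ht hμ, fun v hv => pj_of_mem ρ hμ hv⟩
  exact h.trace

omit [FiniteDimensional ℂ V] in
/-- the trace of `ρ i * pj` vanishes -/
theorem trace_zero {t i w : G} {μ : ℂ} (ht : t ^ 3 = 1) (hμ : μ ^ 3 = 1) (hμ1 : μ ≠ 1)
    (hw : w * t = t * w) (h : w * i = t * i * w ∨ w * i = t⁻¹ * i * w) (hi : i * t = t * i) :
    LinearMap.trace ℂ V (ρ i * pj ρ t μ) = 0 := by
  have hcW : ρ w * pj ρ t μ = pj ρ t μ * ρ w := LinearMap.ext fun v => pj_comm ρ hw μ v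
  have hc : ρ i * pj ρ t μ = pj ρ t μ * ρ i := LinearMap.ext fun v => pj_comm ρ hi μ v
  have hWW : ρ w⁻¹ * ρ w = 1 := by rw [← map_mul, inv_mul_cancel, map_one]
  have h1 : LinearMap.trace ℂ V (ρ w * (ρ i * pj ρ t μ) * ρ w⁻¹) = LinearMap.trace ℂ V (ρ i * pj ρ t μ) := by
    rw [LinearMap.trace_mul_comm, ← mul_assoc, hWW, one_mul]
  have hWW' : ρ w * ρ w⁻¹ = 1 := by rw [← map_mul, mul_inv_cancel, map_one]
  have hμ0 : μ ≠ 0 := by
    rintro rfl
    norm_num at hμ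
  -- the eigenvalue
  have ht1 : ρ t * pj ρ t μ = μ • pj ρ t μ := LinearMap.ext fun v => pj_mem ρ ht hμ v
  have ht2 : ρ t⁻¹ * pj ρ t μ = μ⁻¹ • pj ρ t μ := by
    have h3 : ρ t⁻¹ * (ρ t * pj ρ t μ) = pj ρ t μ := by
      rw [← mul_assoc, ← map_mul, inv_mul_cancel, map_one, one_mul]
    rw [ht1, mul_smul_comm] at h3
    rw [← h3, smul_smul, inv_mul_cancel₀ hμ0, one_smul, h3]
  have key : ∀ (c : ℂ) (s : G), (s = t ∨ s = t⁻¹) → ρ s * pj ρ t μ = c • pj ρ t μ → w * i = s * i * w →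
      LinearMap.trace ℂ V (ρ i * pj ρ t μ) = c * LinearMap.trace ℂ V (ρ i * pj ρ t μ) := by
    intro c s hs hs1 hs2
    have h4 : ρ w * (ρ i * pj ρ t μ) * ρ w⁻¹ = c • (ρ i * pj ρ t μ) := by
      calc ρ w * (ρ i * pj ρ t μ) * ρ w⁻¹ = (ρ w * ρ i) * (pj ρ t μ * ρ w⁻¹) := by simp only [mul_assoc]
        _ = ρ (w * i) * (pj ρ t μ * ρ w⁻¹) := by rw [map_mul]
        _ = ρ (s * i * w) * (pj ρ t μ * ρ w⁻¹) := by rw [hs2]
        _ = ρ s * ρ i * (ρ w * pj ρ t μ) * ρ w⁻¹ := by rw [map_mul, map_mul]; simp only [mul_assoc]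
        _ = ρ s * (ρ i * pj ρ t μ) * (ρ w * ρ w⁻¹) := by rw [hcW]; simp only [mul_assoc]
        _ = ρ s * (pj ρ t μ * ρ i) := by rw [hWW', mul_one, hc]
        _ = (ρ s * pj ρ t μ) * ρ i := by rw [mul_assoc]
        _ = c • (pj ρ t μ * ρ i) := by rw [hs1, smul_mul_assoc]
        _ = c • (ρ i * pj ρ t μ) := by rw [hc]
    rw [h4, map_smul, smul_eq_mul] at h1
    exact h1.symm
  rcases h with h | h
  · have h5 := key μ t (Or.inl rfl) ht1 h
    have h6 : (μ - 1) * LinearMap.trace ℂ V (ρ i * pj ρ t μ) = 0 := by linear_combination -h5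
    exact (mul_eq_zero.1 h6).resolve_left (sub_ne_zero.2 hμ1)
  · have h5 := key μ⁻¹ t⁻¹ (Or.inr rfl) ht2 h
    have h7 : μ⁻¹ ≠ 1 := fun h8 => hμ1 (inv_eq_one.1 h8)
    have h6 : (μ⁻¹ - 1) * LinearMap.trace ℂ V (ρ i * pj ρ t μ) = 0 := by linear_combination -h5
    exact (mul_eq_zero.1 h6).resolve_left (sub_ne_zero.2 h7)

/-- **`|I| dim (E ⊓ fix I) = dim E`** -/
theorem card_mul_finrank {t : G} {I : Subgroup G} (h : Iso t I) [Finite ↥I] {μ : ℂ} (hμ : μ ^ 3 = 1) (hμ1 : μ ≠ 1) :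
    Nat.card ↥I * finrank ℂ ↥(ei ρ t μ ⊓ fx ρ (I : Set G)) = finrank ℂ ↥(ei ρ t μ) := by
  classical
  have := Fintype.ofFinite ↥I
  have hc0 : (Fintype.card ↥I : ℂ) ≠ 0 := Nat.cast_ne_zero.2 Fintype.card_ne_zero
  let a : V →ₗ[ℂ] V := (Fintype.card ↥I : ℂ)⁻¹ • ∑ i : ↥I, ρ i
  have ha : ∀ v, a v = (Fintype.card ↥I : ℂ)⁻¹ • ∑ i : ↥I, ρ i v := by
    intro v
    show ((Fintype.card ↥I : ℂ)⁻¹ • ∑ i : ↥I, ρ i) v = _
    rw [LinearMap.smul_apply, LinearMap.sum_apply]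
  have h1 : LinearMap.IsProj (ei ρ t μ ⊓ fx ρ (I : Set G)) (a * pj ρ t μ) := by
    constructor
    · intro v
      have h2 := pj_mem ρ h.cube hμ v
      refine ⟨?_, ?_⟩
      · show ρ t (a (pj ρ t μ v)) = μ • a (pj ρ t μ v)
        have h10 : ∀ i : ↥I, ρ t (ρ (i : G) (pj ρ t μ v)) = μ • ρ (i : G) (pj ρ t μ v) := by
          intro i
          have h3 := h.comm i i.2
          calc ρ t (ρ (i : G) (pj ρ t μ v)) = ρ (t * i) (pj ρ t μ v) := (mm ρ _ _ _).symm
            _ = ρ (i * t) (pj ρ t μ v) := by rw [h3]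
            _ = ρ (i : G) (ρ t (pj ρ t μ v)) := mm ρ _ _ _
            _ = _ := by rw [(mem_ei ρ).1 h2, map_smul]
        rw [ha, map_smul, map_sum, Finset.sum_congr rfl fun i _ => h10 i, ← Finset.smul_sum, smul_comm]
      · intro g hg
        show ρ g (a (pj ρ t μ v)) = a (pj ρ t μ v)
        rw [ha, map_smul, map_sum]
        congr 1
        refine Fintype.sum_equiv (Equiv.mulLeft (⟨g, hg⟩ : ↥I)) _ _ fun i => ?_
        show ρ g (ρ (i : G) (pj ρ t μ v)) = ρ (g * i) (pj ρ t μ v)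
        rw [map_mul]; rfl
    · rintro v ⟨h2, h3⟩
      show a (pj ρ t μ v) = v
      rw [pj_of_mem ρ hμ h2, ha]
      have h4 : ∀ i : ↥I, ρ (i : G) v = v := fun i => h3 i i.2
      rw [Finset.sum_congr rfl fun i _ => h4 i, Finset.sum_const, Finset.card_univ, ← Nat.cast_smul_eq_nsmul ℂ,
        smul_smul, inv_mul_cancel₀ hc0, one_smul]
  have h5 := h1.trace
  have h6 : a * pj ρ t μ = (Fintype.card ↥I : ℂ)⁻¹ • ∑ i : ↥I, ρ i * pj ρ t μ := by
    show ((Fintype.card ↥I : ℂ)⁻¹ • ∑ i : ↥I, ρ i) * pj ρ t μ = _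
    rw [smul_mul_assoc, Finset.sum_mul]
  have h7 : ∑ i : ↥I, LinearMap.trace ℂ V (ρ (i : G) * pj ρ t μ) = (finrank ℂ ↥(ei ρ t μ) : ℂ) := by
    rw [Finset.sum_eq_single (1 : ↥I)]
    · rw [Subgroup.coe_one, map_one, one_mul]
      exact trace_pj ρ h.cube hμ
    · intro i _ hi
      obtain ⟨w, hw1, hw2⟩ := h.nd i i.2 fun h8 => hi (Subtype.ext h8)
      exact trace_zero ρ h.cube hμ hμ1 hw1 hw2 (h.comm i i.2)
    · intro h8
      exact absurd (Finset.mem_univ _) h8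
  rw [h6, map_smul, map_sum, h7, smul_eq_mul] at h5
  have h9 : (finrank ℂ ↥(ei ρ t μ) : ℂ) = (Fintype.card ↥I : ℂ) * (finrank ℂ ↥(ei ρ t μ ⊓ fx ρ (I : Set G)) : ℂ) := by
    rw [← h5, ← mul_assoc, mul_inv_cancel₀ hc0, one_mul]
  rw [Nat.card_eq_fintype_card]
  exact_mod_cast h9.symm

/-- **One step.** -/
theorem step {t : G} {I : Subgroup G} (ht : t ^ 3 = 1) (hc : ∀ i ∈ I, i * t = t * i) {ω : ℂ}
    (hω : 1 + ω + ω ^ 2 = 0) {F : Submodule ℂ V} (hF : F ≤ fx ρ (I : Set G)) :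
    finrank ℂ ↥F ≤ finrank ℂ ↥(F ⊓ fx ρ {t}) + (finrank ℂ ↥(ei ρ t ω ⊓ fx ρ (I : Set G)) +
      finrank ℂ ↥(ei ρ t (ω ^ 2) ⊓ fx ρ (I : Set G))) := by
  have hω3 : ω ^ 3 = 1 := by linear_combination (ω - 1) * hω
  have hω6 : (ω ^ 2) ^ 3 = 1 := by linear_combination (ω ^ 3 + 1) * hω3
  have hm : ∀ (μ : ℂ), μ ^ 3 = 1 → ∀ v ∈ F, pj ρ t μ v ∈ ei ρ t μ ⊓ fx ρ (I : Set G) := by
    intro μ hμ v hv
    refine ⟨pj_mem ρ ht hμ v, fun g hg => ?_⟩
    rw [pj_comm ρ (hc g hg), hF hv g hg]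
  let f1 : ↥F →ₗ[ℂ] ↥(ei ρ t ω ⊓ fx ρ (I : Set G)) :=
    LinearMap.codRestrict _ ((pj ρ t ω).comp F.subtype) fun v => hm ω hω3 v v.2
  let f2 : ↥F →ₗ[ℂ] ↥(ei ρ t (ω ^ 2) ⊓ fx ρ (I : Set G)) :=
    LinearMap.codRestrict _ ((pj ρ t (ω ^ 2)).comp F.subtype) fun v => hm _ hω6 v v.2
  let f := f1.prod f2
  have h1 := f.finrank_range_add_finrank_ker
  have h2 : finrank ℂ ↥(LinearMap.range f) ≤ finrank ℂ ↥(ei ρ t ω ⊓ fx ρ (I : Set G)) +
      finrank ℂ ↥(ei ρ t (ω ^ 2) ⊓ fx ρ (I : Set G)) := by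
    rw [← Module.finrank_prod]
    exact Submodule.finrank_le _
  have h3 : finrank ℂ ↥(LinearMap.ker f) ≤ finrank ℂ ↥(F ⊓ fx ρ {t}) := by
    rw [← Submodule.finrank_map_subtype_eq F (LinearMap.ker f)]
    apply Submodule.finrank_mono
    rintro _ ⟨v, hv, rfl⟩
    refine ⟨v.2, ?_⟩
    have hv' : f v = 0 := hv
    have h4 : pj ρ t ω (v : V) = 0 := congrArg Subtype.val (congrArg Prod.fst hv')
    have h5 : pj ρ t (ω ^ 2) (v : V) = 0 := congrArg Subtype.val (congrArg Prod.snd hv')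
    have h6 := pj_sum ρ (t := t) hω (v : V)
    rw [h4, h5, add_zero, add_zero] at h6
    rintro g rfl
    have h7 := pj_mem ρ ht (one_pow 3) (v : V)
    rw [mem_ei, h6, one_smul] at h7
    exact h7
  omega

end

/-! ### conjugation -/

theorem ei_conj (g t : G) (μ : ℂ) : finrank ℂ ↥(ei ρ (g * t * g⁻¹) μ) = finrank ℂ ↥(ei ρ t μ) := by
  have hgg : ∀ v, ρ g⁻¹ (ρ g v) = v := fun v => by
    calc ρ g⁻¹ (ρ g v) = ρ (g⁻¹ * g) v := by rw [map_mul]; rfl
      _ = v := by rw [inv_mul_cancel, map_one]; rfl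
  have hgg' : ∀ v, ρ g (ρ g⁻¹ v) = v := fun v => by
    calc ρ g (ρ g⁻¹ v) = ρ (g * g⁻¹) v := by rw [map_mul]; rfl
      _ = v := by rw [mul_inv_cancel, map_one]; rfl
  let e : V ≃ₗ[ℂ] V := LinearEquiv.ofLinearMap (ρ g) (ρ g⁻¹) (LinearMap.ext hgg') (LinearMap.ext hgg)
  have h : (ei ρ t μ).map (e : V →ₗ[ℂ] V) = ei ρ (g * t * g⁻¹) μ := by
    ext v
    constructor
    · rintro ⟨x, hx, rfl⟩
      have hx' : ρ t x = μ • x := hx
      show ρ (g * t * g⁻¹) (ρ g x) = μ • ρ g x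
      calc ρ (g * t * g⁻¹) (ρ g x) = ρ g (ρ t (ρ g⁻¹ (ρ g x))) := by rw [map_mul, map_mul]; rfl
        _ = _ := by rw [hgg, hx', map_smul]
    · intro hv
      have hv' : ρ (g * t * g⁻¹) v = μ • v := hv
      refine ⟨ρ g⁻¹ v, ?_, hgg' v⟩
      show ρ t (ρ g⁻¹ v) = μ • ρ g⁻¹ v
      rw [← map_smul, ← hv']
      calc ρ t (ρ g⁻¹ v) = ρ g⁻¹ (ρ g (ρ t (ρ g⁻¹ v))) := (hgg _).symm
        _ = _ := by rw [map_mul, map_mul]; rfl
  rw [← h]
  exact LinearEquiv.finrank_map_eq e (ei ρ t μ)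

theorem fx_mono {S T : Set G} (h : S ⊆ T) : fx ρ T ≤ fx ρ S := fun _ hv g hg => hv g (h hg)

end Cfsg.Agent.H186.F43
end

-- part: H186/F43/Gen
section
/-!
# `F₄(3)`: generation by simple root elements, conjugacy of long root elements, two isotropic families (helper186)
-/

set_option autoImplicit false

namespace Cfsg.Agent.H186.F43

open Cfsg.Lie Cfsg.Agent.ChevalleyStructure Cfsg.Agent.H700.F43 Cfsg.Agent.KFacts.RgdChevCoord
  Cfsg.Agent.ChevalleyStructure.CoxeterGeomTypes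

/-- the word of the reflection -/
def nw (a b : ℕ) : List (ℕ × Bool) := [(a, true), (b, false), (a, true)]

/-- its inverse -/
def nwi (a b : ℕ) : List (ℕ × Bool) := [(a, false), (b, true), (a, false)]

/-- `n_a x_{r'} n_a⁻¹ = x_r^{±1}` -/
noncomputable def okT (r a b r' : ℕ) : Bool :=
  chkE (nw a b ++ [(r', true)] ++ nwi a b) [(r, true)] || chkE (nw a b ++ [(r', true)] ++ nwi a b) [(r, false)]

def ng4 : ℕ → ℕ := fun a => if a = 33 then 14 else if a = 27 then 20 else if a = 25 then 22 else 23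

def tbl : List (ℕ × ℕ × ℕ) := [(34, 27, 33), (28, 25, 27), (30, 27, 25), (26, 24, 25), (13, 27, 14), (19, 25, 20),
  (17, 27, 22), (21, 24, 22), (35, 25, 34), (29, 24, 28), (41, 33, 30), (31, 24, 30), (12, 25, 13), (18, 24, 19),
  (6, 33, 17), (16, 24, 17), (37, 27, 35), (36, 24, 35), (42, 24, 41), (32, 25, 31), (10, 27, 12), (11, 24, 12),
  (5, 24, 6), (15, 25, 16), (38, 24, 37), (43, 25, 42), (9, 24, 10), (4, 25, 5), (39, 25, 38), (45, 27, 43),
  (8, 25, 9), (2, 27, 4), (40, 27, 39), (46, 25, 45), (7, 27, 8), (1, 25, 2), (44, 33, 40), (47, 24, 46), (3, 33, 7),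
  (0, 24, 1)]

theorem tbl_ok : ∀ e ∈ tbl, okT e.1 e.2.1 (ng4 e.2.1) e.2.2 = true := by (delta okT; rw [chkE_eq]; decide +kernel)


theorem inv_of_cube {G : Type*} [Group G] {x : G} (h : x * (x * x) = 1) : x * x = x⁻¹ :=
  (inv_eq_of_mul_eq_one_right h).symm

theorem wd_inv1 (r : ℕ) (hr : r < 48) : xr (r, false) = (xp r)⁻¹ :=
  (xr_false hr).trans (inv_of_cube (G := Gm) (xp_cube hr))

/-- the reflection element -/
noncomputable def nn (a b : ℕ) : Gm := xp a * (xp b)⁻¹ * xp a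

theorem wd_nw {a b : ℕ} (hb : b < 48) : wd (nw a b) = nn a b := by
  rw [nw, wd_cons, wd_cons, wd_single, wd_inv1 b hb, nn, mul_assoc]

theorem wd_nwi {a b : ℕ} (ha : a < 48) : wd (nwi a b) = (nn a b)⁻¹ := by
  rw [nwi, wd_cons, wd_cons, wd_single, wd_inv1 a ha, nn]
  group

theorem conj_of_okT {r a b r' : ℕ} (hr : r < 48) (ha : a < 48) (hb : b < 48) (h : okT r a b r' = true) :
    nn a b * xp r' * (nn a b)⁻¹ = xp r ∨ nn a b * xp r' * (nn a b)⁻¹ = (xp r)⁻¹ := by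
  have e : wd (nw a b ++ [(r', true)] ++ nwi a b) = nn a b * xp r' * (nn a b)⁻¹ := by
    rw [wd_append, wd_append, wd_nw hb, wd_nwi ha, wd_single]
  rw [okT, Bool.or_eq_true] at h
  rcases h with h | h
  · left
    have := word_eq h
    rw [e, wd_single] at this
    exact this
  · right
    have := word_eq h
    rw [e, wd_single, wd_inv1 r hr] at this
    exact this

/-- the simple root elements and their negatives -/
def S8 : List ℕ := [33, 27, 25, 24, 14, 20, 22, 23]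

def ckl : List (ℕ × ℕ × ℕ) → List ℕ → Bool
  | [], _ => true
  | e :: L, k => decide (e.2.1 ∈ [33, 27, 25, 24]) && decide (e.2.2 ∈ k) && decide (e.1 < 48) && ckl L (e.1 :: k)

theorem ng4_S8 : ∀ a ∈ [33, 27, 25, 24], ng4 a ∈ S8 ∧ a ∈ S8 := by decide

theorem S8_lt : ∀ a ∈ S8, a < 48 := by decide

theorem chain {H : Subgroup Gm} (h8 : ∀ r ∈ S8, xp r ∈ H) : ∀ (L : List (ℕ × ℕ × ℕ)) (k : List ℕ),
    (∀ e ∈ L, okT e.1 e.2.1 (ng4 e.2.1) e.2.2 = true) → (∀ r ∈ k, xp r ∈ H) → ckl L k = true →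
    ∀ e ∈ L, xp e.1 ∈ H := by
  intro L
  induction L with
  | nil => intro k _ _ _ e he; exact absurd he List.not_mem_nil
  | cons e L ih =>
    intro k hL hk hc
    rw [ckl, Bool.and_eq_true, Bool.and_eq_true, Bool.and_eq_true, decide_eq_true_eq, decide_eq_true_eq,
      decide_eq_true_eq] at hc
    obtain ⟨⟨⟨h1, h2⟩, h3⟩, h4⟩ := hc
    have ha := ng4_S8 _ h1
    have hn : nn e.2.1 (ng4 e.2.1) ∈ H :=
      H.mul_mem (H.mul_mem (h8 _ ha.2) (H.inv_mem (h8 _ ha.1))) (h8 _ ha.2)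
    have he : xp e.1 ∈ H := by
      have h5 := H.mul_mem (H.mul_mem hn (hk _ h2)) (H.inv_mem hn)
      rcases conj_of_okT h3 (S8_lt _ ha.2) (S8_lt _ ha.1) (hL e List.mem_cons_self) with h6 | h6
      · rwa [h6] at h5
      · rw [h6] at h5
        rw [← inv_inv (xp e.1)]
        exact H.inv_mem h5
    intro e' he'
    rcases List.mem_cons.1 he' with rfl | he'
    · exact he
    · refine ih (e.1 :: k) (fun x hx => hL x (List.mem_cons_of_mem _ hx)) ?_ h4 e' he'
      intro r hr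
      rcases List.mem_cons.1 hr with rfl | hr
      · exact he
      · exact hk r hr

theorem tbl_all : ∀ r < 48, r ∈ S8 ∨ ∃ e ∈ tbl, e.1 = r := by decide +kernel

/-- **The simple root elements and their negatives generate.** -/
theorem gen8 {H : Subgroup Gm} (h8 : ∀ r ∈ S8, xp r ∈ H) : H = ⊤ := by
  have hall : ∀ r < 48, xp r ∈ H := by
    intro r hr
    rcases tbl_all r hr with h | ⟨e, he, rfl⟩
    · exact h8 r h
    · exact chain h8 tbl S8 tbl_ok h8 (by decide +kernel) e he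
  rw [eq_top_iff]
  rintro ⟨g, hg⟩ -
  have h1 : chevF4.group (ZMod 3) ≤ H.map (chevF4.group (ZMod 3)).subtype := by
    rw [Elts.group_le_iff hF.inList]
    intro r hr t
    have hr' : r < 48 := hr
    have hcase : t = 0 ∨ t = 1 ∨ t = -1 := by revert t; decide
    rcases hcase with rfl | rfl | rfl
    · rw [Elts.xG_zero]
      exact Subgroup.one_mem _
    · exact ⟨xp r, hall r hr', coe_xc hF hr _⟩
    · exact ⟨xr (r, false), by rw [wd_inv1 r hr']; exact H.inv_mem (hall r hr'), coe_xc hF hr _⟩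
  obtain ⟨g', hg', e⟩ := h1 hg
  have : g' = ⟨g, hg⟩ := Subtype.ext e
  rw [← this]
  exact hg'

/-! ### conjugacy -/

/-- conjugate up to inversion -/
def Cj {G : Type*} [Group G] (a b : G) : Prop := ∃ g : G, g * a * g⁻¹ = b ∨ g * a * g⁻¹ = b⁻¹

theorem Cj.trans {G : Type*} [Group G] {a b c : G} (h1 : Cj a b) (h2 : Cj b c) : Cj a c := by
  obtain ⟨g, hg⟩ := h1
  obtain ⟨k, hk⟩ := h2
  refine ⟨k * g, ?_⟩
  have e : k * g * a * (k * g)⁻¹ = k * (g * a * g⁻¹) * k⁻¹ := by group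
  have e' : k * b⁻¹ * k⁻¹ = (k * b * k⁻¹)⁻¹ := by group
  rw [e]
  rcases hg with hg | hg <;> rcases hk with hk | hk <;> rw [hg]
  · exact Or.inl hk
  · exact Or.inr hk
  · right; rw [e', hk]
  · left; rw [e', hk, inv_inv]

theorem cj_of {r a b r' : ℕ} (hr : r < 48) (ha : a < 48) (hb : b < 48) (h : okT r a b r' = true) :
    Cj (xp r') (xp r) := ⟨nn a b, conj_of_okT hr ha hb h⟩

theorem path_ok : okT 30 27 20 25 = true ∧ okT 41 33 14 30 = true ∧ okT 42 24 23 41 = true ∧ okT 43 25 22 42 = true ∧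
    okT 45 27 20 43 = true ∧ okT 46 25 22 45 = true ∧ okT 47 24 23 46 = true ∧ okT 24 24 23 23 = true ∧
    okT 26 25 22 24 = true ∧ okT 31 27 20 26 = true ∧ okT 42 33 14 31 = true := by (delta okT; rw [chkE_eq]; decide +kernel)

theorem cj_42 : Cj (xp 42) (xp 47) := by
  obtain ⟨-, -, -, h4, h5, h6, h7, -⟩ := path_ok
  exact (((cj_of (by norm_num) (by norm_num) (by norm_num) h4).trans
    (cj_of (by norm_num) (by norm_num) (by norm_num) h5)).trans
    (cj_of (by norm_num) (by norm_num) (by norm_num) h6)).trans (cj_of (by norm_num) (by norm_num) (by norm_num) h7)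

theorem cj_25 : Cj (xp 25) (xp 47) := by
  obtain ⟨h1, h2, h3, -⟩ := path_ok
  exact (((cj_of (by norm_num) (by norm_num) (by norm_num) h1).trans
    (cj_of (by norm_num) (by norm_num) (by norm_num) h2)).trans
    (cj_of (by norm_num) (by norm_num) (by norm_num) h3)).trans cj_42

theorem cj_23 : Cj (xp 23) (xp 47) := by
  obtain ⟨-, -, -, -, -, -, -, h1, h2, h3, h4⟩ := path_ok
  exact ((((cj_of (by norm_num) (by norm_num) (by norm_num) h1).trans
    (cj_of (by norm_num) (by norm_num) (by norm_num) h2)).trans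
    (cj_of (by norm_num) (by norm_num) (by norm_num) h3)).trans
    (cj_of (by norm_num) (by norm_num) (by norm_num) h4)).trans cj_42

/-! ### isotropic families -/

/-- two root elements commute -/
noncomputable def cm (a b : ℕ) : Bool := chkE [(a, true), (b, true)] [(b, true), (a, true)]

theorem cm_eq {a b : ℕ} (h : cm a b = true) : xp a * xp b = xp b * xp a := by
  have := word_eq h
  rwa [wd_cons, wd_single, wd_cons, wd_single] at this

noncomputable def okS (t b s : ℕ) : Bool :=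
  chkE [(s, true), (b, true)] [(t, true), (b, true), (s, true)] ||
    chkE [(s, true), (b, true)] [(t, false), (b, true), (s, true)]

theorem okS_eq {t b s : ℕ} (ht : t < 48) (h : okS t b s = true) :
    xp s * xp b = xp t * xp b * xp s ∨ xp s * xp b = (xp t)⁻¹ * xp b * xp s := by
  rw [okS, Bool.or_eq_true] at h
  rcases h with h | h
  · left
    have := word_eq h
    rwa [wd_cons, wd_single, wd_cons, wd_cons, wd_single, ← mul_assoc] at this
  · right
    have := word_eq h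
    rwa [wd_cons, wd_single, wd_cons, wd_cons, wd_single, ← mul_assoc, wd_inv1 t ht] at this

noncomputable def okI (t : ℕ) : List (ℕ × ℕ) → List ℕ → Bool
  | [], _ => true
  | e :: L, k => cm e.1 t && cm e.2 t && (k.all fun b => cm b e.1 && cm b e.2) && okS t e.1 e.2 &&
      decide (e.1 < 48 ∧ e.2 < 48) && okI t L (e.1 :: k)

theorem xp_pow3 {r : ℕ} (hr : r < 48) : xp r ^ 3 = 1 := by
  have h := xp_cube hr
  have h2 : ∀ {G : Type} [Group G] (x : G), x * (x * x) = 1 → x ^ 3 = 1 := by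
    intro G _ x h
    rw [pow_succ, pow_two, mul_assoc, h]
  exact h2 (G := Gm) (xp r) h

theorem comm_aux {G : Type*} [Group G] {i b x : G} (h1 : i * x = x * i) (h2 : b * x = x * b) (m : ℕ) :
    i * b ^ m * x = x * (i * b ^ m) :=
  ((show Commute i x from h1).mul_left ((show Commute b x from h2).pow_left m)).eq

/-- the relations of an isotropic family -/
def OkI {G : Type*} [Group G] (t : G) (X : ℕ → G) : List (ℕ × ℕ) → List ℕ → Prop
  | [], _ => True
  | e :: L, k => X e.1 * t = t * X e.1 ∧ X e.2 * t = t * X e.2 ∧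
      (∀ b ∈ k, X b * X e.1 = X e.1 * X b ∧ X b * X e.2 = X e.2 * X b) ∧
      (X e.2 * X e.1 = t * X e.1 * X e.2 ∨ X e.2 * X e.1 = t⁻¹ * X e.1 * X e.2) ∧ X e.1 ^ 3 = 1 ∧ OkI t X L (e.1 :: k)

theorem build {G : Type*} [Group G] {t : G} {X : ℕ → G} (ht1 : t ≠ 1) : ∀ (L : List (ℕ × ℕ)) (k : List ℕ)
    (I : Subgroup G) (n : ℕ), Iso t I → Nat.card ↥I = n →
    (∀ x : G, (∀ b ∈ k, X b * x = x * X b) → ∀ i ∈ I, i * x = x * i) → OkI t X L k →
    ∃ J : Subgroup G, Iso t J ∧ Nat.card ↥J = 3 ^ L.length * n ∧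
      ∀ K : Subgroup G, I ≤ K → (∀ e ∈ L, X e.1 ∈ K) → J ≤ K := by
  intro L
  induction L with
  | nil =>
    intro k I n hI hn _ _
    exact ⟨I, hI, by rw [hn, List.length_nil, pow_zero, one_mul], fun K hK _ => hK⟩
  | cons e L ih =>
    intro k I n hI hn hk hc
    obtain ⟨h1, h2, h3, h4, h5, h7⟩ := hc
    obtain ⟨J, hIJ, hbJ, hJ, hJ1, hJ2⟩ := Iso.sup (b := X e.1) (s := X e.2) hI h5 ht1 h1 h2
      (hk _ fun b hb => (h3 b hb).1) (hk _ fun b hb => (h3 b hb).2) h4 hn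
    obtain ⟨J', g1, g2, g3⟩ := ih (e.1 :: k) J (3 * n) hJ1 hJ2 (by
      intro x hx j hj
      obtain ⟨i, hi, m, rfl⟩ := hJ j hj
      exact comm_aux (hk x (fun b hb => hx b (List.mem_cons_of_mem _ hb)) i hi) (hx _ List.mem_cons_self) m) h7
    refine ⟨J', g1, ?_, ?_⟩
    · rw [g2, List.length_cons, pow_succ]
      ring
    · intro K hK hL
      refine g3 K ?_ fun e' he' => hL e' (List.mem_cons_of_mem _ he')
      intro j hj
      obtain ⟨i, hi, m, rfl⟩ := hJ j hj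
      exact K.mul_mem (hK hi) (K.pow_mem (hL e List.mem_cons_self) m)

theorem okI_sound {t : ℕ} (ht : t < 48) : ∀ (L : List (ℕ × ℕ)) (k : List ℕ), okI t L k = true → OkI (xp t) xp L k := by
  intro L
  induction L with
  | nil => intro k _; trivial
  | cons e L ih =>
    intro k hc
    rw [okI] at hc
    simp only [Bool.and_eq_true, decide_eq_true_eq, List.all_eq_true] at hc
    obtain ⟨⟨⟨⟨⟨h1, h2⟩, h3⟩, h4⟩, h5, h6⟩, h7⟩ := hc
    exact ⟨cm_eq h1, cm_eq h2, fun b hb => ⟨cm_eq (h3 b hb).1, cm_eq (h3 b hb).2⟩, okS_eq ht h4, xp_pow3 h5, ih _ h7⟩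

def L5 : List (ℕ × ℕ) := [(26, 23), (32, 16), (39, 9), (43, 5), (46, 2)]

def L7 : List (ℕ × ℕ) := [(25, 21), (28, 18), (30, 16), (35, 11), (37, 9), (41, 5), (46, 0)]

theorem L5_ok : okI 25 L5 [] = true := by (delta okI okI._f cm okS; rw [chkE_eq]; decide +kernel)

theorem L7_ok : okI 23 L7 [] = true := by (delta okI okI._f cm okS; rw [chkE_eq]; decide +kernel)

theorem xp_ne_one {r : ℕ} (hr : r < 48) : xp r ≠ 1 := by
  intro h
  have h1 : xc hF (Cfsg.Agent.Nodes.RGDChev.vec chevF4 4 r) (1 : ZMod 3) = 1 := h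
  have h2 := congrArg (fun g : Gm => (g : GL chevF4.Idx (ZMod 3))) h1
  have h3 : Elts.xG hF.inList r (1 : ZMod 3) = 1 := (coe_xc hF hr (1 : ZMod 3)).symm.trans h2
  rw [Elts.xG_eq_one_iff hF.inList hr] at h3
  exact one_ne_zero h3

/-- **The isotropic subgroup of order `3⁵`.** -/
theorem exists_I5 : ∃ J : Subgroup Gm, Iso (xp 25) J ∧ Nat.card ↥J = 3 ^ 5 ∧ J ≤ QQ := by
  obtain ⟨J, h1, h2, h3⟩ := build (t := xp 25) (X := xp) (xp_ne_one (by norm_num)) L5 [] ⊥ 1
    (Iso.bot (xp_pow3 (by norm_num))) (Nat.card_eq_one_iff_unique.2 ⟨inferInstance, inferInstance⟩)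
    (fun x _ i hi => by rw [Subgroup.mem_bot.1 hi, one_mul, mul_one]) (okI_sound (by norm_num) _ _ L5_ok)
  refine ⟨J, h1, by rw [h2]; rfl, h3 QQ bot_le ?_⟩
  intro e he
  refine xp_mem ?_
  revert e
  decide

/-- **The isotropic subgroup of order `3⁷`.** -/
theorem exists_I7 : ∃ J : Subgroup Gm, Iso (xp 23) J ∧ Nat.card ↥J = 3 ^ 7 ∧
    ∀ K : Subgroup Gm, (∀ e ∈ L7, xp e.1 ∈ K) → J ≤ K := by
  obtain ⟨J, h1, h2, h3⟩ := build (t := xp 23) (X := xp) (xp_ne_one (by norm_num)) L7 [] ⊥ 1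
    (Iso.bot (xp_pow3 (by norm_num))) (Nat.card_eq_one_iff_unique.2 ⟨inferInstance, inferInstance⟩)
    (fun x _ i hi => by rw [Subgroup.mem_bot.1 hi, one_mul, mul_one]) (okI_sound (by norm_num) _ _ L7_ok)
  exact ⟨J, h1, by rw [h2]; rfl, fun K hK => h3 K bot_le hK⟩

end Cfsg.Agent.H186.F43
end

-- part: H186/F43/BoxA
section
/-!
# `F₄(3)`: the fixed space of `Q = 3^{1+14}` (S2464, box (A); helper186)

* `boxA_of` : `2187 · dim V^Q ≤ 55 · (dim V - dim V^Z)` for a representation without fixed vectors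
  (from: `Sp₆(3)` is generated by six transvections).
-/

set_option autoImplicit false

namespace Cfsg.Agent.H186.F43

open Cfsg.Lie Cfsg.Agent.H700.F43
open Cfsg.Agent.ClassicalGeometry.SympBasic
open Module

universe v

section Abs

variable {G : Type*} [Group G] {V : Type v} [AddCommGroup V] [Module ℂ V] (ρ : Representation ℂ G V)

/-- the dimension of `[V, t]` -/
noncomputable def nn3 (t : G) (ω : ℂ) : ℕ := finrank ℂ ↥(ei ρ t ω) + finrank ℂ ↥(ei ρ t (ω ^ 2))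

theorem ei_inv {t : G} {μ ν : ℂ} (h : μ * ν = 1) : ei ρ t⁻¹ μ = ei ρ t ν := by
  have h1 : ∀ v, ρ t⁻¹ (ρ t v) = v := fun v => by rw [← mm, inv_mul_cancel, map_one]; rfl
  have h2 : ∀ v, ρ t (ρ t⁻¹ v) = v := fun v => by rw [← mm, mul_inv_cancel, map_one]; rfl
  have h3 : ν * μ = 1 := by rw [mul_comm, h]
  ext v
  rw [mem_ei, mem_ei]
  constructor
  · intro hv
    calc ρ t v = ρ t ((ν * μ) • v) := by rw [h3, one_smul]
      _ = ν • ρ t (μ • v) := by rw [mul_smul, map_smul]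
      _ = ν • v := by rw [← hv, h2]
  · intro hv
    calc ρ t⁻¹ v = ρ t⁻¹ ((μ * ν) • v) := by rw [h, one_smul]
      _ = μ • ρ t⁻¹ (ν • v) := by rw [mul_smul, map_smul]
      _ = μ • v := by rw [← hv, h1]

theorem nn3_inv {t : G} {ω : ℂ} (hω : 1 + ω + ω ^ 2 = 0) : nn3 ρ t⁻¹ ω = nn3 ρ t ω := by
  have hω3 : ω ^ 3 = 1 := by linear_combination (ω - 1) * hω
  rw [nn3, nn3, ei_inv ρ (ν := ω ^ 2) (by rw [← hω3]; ring), ei_inv ρ (ν := ω) (by rw [← hω3]; ring), add_comm]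

theorem nn3_cj {a b : G} (h : Cj a b) {ω : ℂ} (hω : 1 + ω + ω ^ 2 = 0) : nn3 ρ a ω = nn3 ρ b ω := by
  obtain ⟨g, h | h⟩ := h
  · rw [← h, nn3, nn3, ei_conj, ei_conj]
  · rw [← nn3_inv ρ hω (t := b), ← h, nn3, nn3, ei_conj, ei_conj]

variable [FiniteDimensional ℂ V]

theorem nn3_add {t : G} (ht : t ^ 3 = 1) {ω : ℂ} (hω : 1 + ω + ω ^ 2 = 0) :
    nn3 ρ t ω + finrank ℂ ↥(fx ρ {t}) = finrank ℂ V := by
  have hω3 : ω ^ 3 = 1 := by linear_combination (ω - 1) * hω
  have hω6 : (ω ^ 2) ^ 3 = 1 := by linear_combination (ω ^ 3 + 1) * hω3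
  have h1 : ei ρ t 1 = fx ρ {t} := by
    ext v
    rw [mem_ei, one_smul]
    constructor
    · rintro h g rfl
      exact h
    · intro h
      exact h t rfl
  have h2 := trace_pj ρ ht (one_pow 3)
  have h3 := trace_pj ρ ht hω3
  have h4 := trace_pj ρ ht hω6
  have h5 : pj ρ t 1 + pj ρ t ω + pj ρ t (ω ^ 2) = 1 := LinearMap.ext fun v => pj_sum ρ hω v
  have h6 := congrArg (LinearMap.trace ℂ V) h5
  rw [map_add, map_add, h2, h3, h4, LinearMap.trace_one, h1] at h6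
  have h7 : finrank ℂ ↥(fx ρ {t}) + finrank ℂ ↥(ei ρ t ω) + finrank ℂ ↥(ei ρ t (ω ^ 2)) = finrank ℂ V := by
    exact_mod_cast h6
  rw [nn3]
  omega

/-- one step with numbers -/
theorem step_num {t : G} {I : Subgroup G} (h : Iso t I) {c : ℕ} (hc : Nat.card ↥I = c) (hc0 : c ≠ 0) {ω : ℂ}
    (hω : 1 + ω + ω ^ 2 = 0) (hω1 : ω ≠ 1) {F : Submodule ℂ V} (hF : F ≤ fx ρ (I : Set G)) :
    c * finrank ℂ ↥F ≤ c * finrank ℂ ↥(F ⊓ fx ρ {t}) + nn3 ρ t ω := by
  have : Finite ↥I := Nat.finite_of_card_ne_zero (by rw [hc]; exact hc0)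
  have hω3 : ω ^ 3 = 1 := by linear_combination (ω - 1) * hω
  have hω6 : (ω ^ 2) ^ 3 = 1 := by linear_combination (ω ^ 3 + 1) * hω3
  have hω2 : ω ^ 2 ≠ 1 := by
    intro h0
    apply hω1
    calc ω = ω ^ 3 := by rw [pow_succ, h0, one_mul]
      _ = 1 := hω3
  have h1 := step ρ h.cube h.comm hω hF
  have h2 := card_mul_finrank ρ h hω3 hω1
  have h3 := card_mul_finrank ρ h hω6 hω2
  rw [hc] at h2 h3
  calc c * finrank ℂ ↥F ≤ c * (finrank ℂ ↥(F ⊓ fx ρ {t}) + (finrank ℂ ↥(ei ρ t ω ⊓ fx ρ (I : Set G)) +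
      finrank ℂ ↥(ei ρ t (ω ^ 2) ⊓ fx ρ (I : Set G)))) := Nat.mul_le_mul_left _ h1
    _ = c * finrank ℂ ↥(F ⊓ fx ρ {t}) + (c * finrank ℂ ↥(ei ρ t ω ⊓ fx ρ (I : Set G)) +
        c * finrank ℂ ↥(ei ρ t (ω ^ 2) ⊓ fx ρ (I : Set G))) := by ring
    _ = _ := by rw [h2, h3, nn3]

/-- several steps -/
theorem steps {Q : Subgroup G} {c N : ℕ} (hc0 : c ≠ 0) {ω : ℂ} (hω : 1 + ω + ω ^ 2 = 0) (hω1 : ω ≠ 1) :
    ∀ (T : List G), (∀ t ∈ T, ∃ I : Subgroup G, Iso t I ∧ Nat.card ↥I = c ∧ I ≤ Q ∧ nn3 ρ t ω = N) →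
    ∀ F : Submodule ℂ V, F ≤ fx ρ (Q : Set G) →
      c * finrank ℂ ↥F ≤ c * finrank ℂ ↥(F ⊓ fx ρ {t | t ∈ T}) + T.length * N := by
  intro T
  induction T with
  | nil =>
    intro _ F _
    have h : F ⊓ fx ρ {t | t ∈ ([] : List G)} = F := inf_eq_left.2 fun v _ g hg => absurd hg List.not_mem_nil
    rw [h, List.length_nil, zero_mul, add_zero]
  | cons t T ih =>
    intro hT F hF
    obtain ⟨I, h1, h2, h3, h4⟩ := hT t List.mem_cons_self
    have h5 := step_num ρ h1 h2 hc0 hω hω1 (hF.trans (fx_mono ρ h3))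
    have h6 := ih (fun x hx => hT x (List.mem_cons_of_mem _ hx)) (F ⊓ fx ρ {t}) (inf_le_left.trans hF)
    have h7 : F ⊓ fx ρ {t} ⊓ fx ρ {x | x ∈ T} = F ⊓ fx ρ {x | x ∈ t :: T} := by
      ext v
      constructor
      · rintro ⟨⟨g1, g2⟩, g3⟩
        refine ⟨g1, fun g hg => ?_⟩
        rcases List.mem_cons.1 hg with rfl | hg
        · exact g2 _ rfl
        · exact g3 g hg
      · rintro ⟨g1, g2⟩
        exact ⟨⟨g1, fun g hg => g2 g (by rw [Set.mem_singleton_iff.1 hg]; exact List.mem_cons_self)⟩,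
          fun g hg => g2 g (List.mem_cons_of_mem _ hg)⟩
    rw [h7] at h6
    rw [h4] at h5
    rw [List.length_cons, Nat.succ_mul]
    omega

end Abs

theorem exists_omega : ∃ ω : ℂ, 1 + ω + ω ^ 2 = 0 ∧ ω ≠ 1 := by
  obtain ⟨ω, hω⟩ := IsAlgClosed.exists_pow_nat_eq (k := ℂ) (-3) (n := 2) (by norm_num)
  refine ⟨(-1 + ω) / 2, ?_, ?_⟩
  · linear_combination (1 / 4) * hω
  · intro h
    have h1 : ω = 3 := by linear_combination 2 * h
    rw [h1] at hω
    norm_num at hω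

/-! ### the group -/

theorem cm47 : ∀ e ∈ L7, cm e.1 47 = true := by decide +kernel

theorem L7_PP : ∀ e ∈ L7, xp e.1 ∈ PP := fun e he => H701.F43.CzP.mem_PP_iff.2 (cm_eq (cm47 e he))

theorem conj_gen {G : Type*} [Group G] {P Q : Subgroup G} {K : Subgroup ↥P} (hK : K.Normal)
    (hm : ∀ x : ↥P, x ∈ K ↔ (x : G) ∈ Q) (hQP : Q ≤ P) {g : G} (hg : g ∈ P) {q : G} (hq : q ∈ Q) :
    g * q * g⁻¹ ∈ Q := (hm _).1 (hK.conj_mem ⟨q, hQP hq⟩ ((hm _).2 hq) ⟨g, hg⟩)

theorem exists_gen {G H : Type*} [Group G] [Group H] {P : Subgroup G} (f : ↥P →* H) {x : G} (hx : x ∈ P) (g : ↥P) :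
    ∃ t : ↥P, (t : G) = (g : G) * x * (g : G)⁻¹ ∧ f t = f g * f ⟨x, hx⟩ * (f g)⁻¹ :=
  ⟨g * ⟨x, hx⟩ * g⁻¹, rfl, by rw [map_mul, map_mul, map_inv]⟩

theorem conj_QQ {g : Gm} (hg : g ∈ PP) {q : Gm} (hq : q ∈ QQ) : g * q * g⁻¹ ∈ QQ :=
  conj_gen (G := Gm) (K := ff.ker) inferInstance (fun _ => ker_mem) QQ_le hg hq

theorem conj_tv (g : Sp) (v : V6) (c : F3) : g * transv v c * g⁻¹ = transv (g.1.mulVec v) c := by
  rw [mul_inv_eq_iff_eq_mul]
  exact Subtype.ext (mul_sympTransvection g.2 v c)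

/-- the `t_i` -/
theorem exists_t {w : V6} (hw : w ≠ 0) : ∃ g : ↥PP, ∃ t : ↥PP, (t : Gm) = g * xp 25 * (g : Gm)⁻¹ ∧ ff t = transv w 1 := by
  have h25 : xp 25 ∈ PP := xp_PP (by decide : 25 ∈ rC)
  have he : e3v ≠ 0 := by
    intro h
    have := congrFun h (Sum.inl 2)
    revert this
    decide
  obtain ⟨A, hA⟩ := H150.F43.Swap.exists_mulVec e3v w he hw
  obtain ⟨g, hg⟩ := ff_surj A
  obtain ⟨t, ht1, ht2⟩ := exists_gen (G := Gm) ff h25 g
  refine ⟨g, t, ht1, ?_⟩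
  have h1 : ff ⟨xp 25, h25⟩ = transv e3v 1 := Subtype.ext tv_eq
  rw [ht2, h1, hg, conj_tv, hA]

theorem rC_S8 : ∀ r ∈ S8, r ∈ rC ∨ r = 24 ∨ r = 23 := by decide

/-- **Box (A).** -/
theorem boxA_of (hg6 : ∃ v : Fin 6 → V6, (∀ i, v i ≠ 0) ∧
    Subgroup.closure (Set.range fun i => (transv (v i) 1 : Sp)) = ⊤) {V : Type v} [AddCommGroup V] [Module ℂ V]
    [FiniteDimensional ℂ V] (ρ : Representation ℂ Gm V) (h : fx ρ Set.univ = ⊥) :
    2187 * finrank ℂ ↥(fx ρ (QQ : Set Gm)) ≤ 55 * (finrank ℂ V - finrank ℂ ↥(fx ρ {xp 47})) := by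
  obtain ⟨ω, hω, hω1⟩ := exists_omega
  obtain ⟨w, hw0, hw⟩ := hg6
  obtain ⟨I5, hI, hIc, hIQ⟩ := exists_I5
  obtain ⟨I7, hJ, hJc, hJP⟩ := exists_I7
  choose g t ht hft using fun i => exists_t (hw0 i)
  have hN := nn3_add ρ (xp_pow3 (r := 47) (by norm_num)) hω
  -- the six steps
  have h1 := steps ρ (Q := QQ) (c := 3 ^ 5) (N := nn3 ρ (xp 47) ω) (by norm_num) hω hω1
    (List.ofFn fun i => ((t i : ↥PP) : Gm)) (by
      intro x hx
      obtain ⟨i, rfl⟩ := (List.mem_ofFn' _ _).1 hx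
      refine ⟨I5.map (MulAut.conj (g i : Gm)).toMonoidHom, ?_, ?_, ?_, ?_⟩
      · show Iso ((t i : ↥PP) : Gm) _
        rw [ht i]
        exact hI.conj _
      · rw [card_conj, hIc]
      · rintro _ ⟨q, hq, rfl⟩
        exact conj_QQ (g i).2 (hIQ hq)
      · show nn3 ρ ((t i : ↥PP) : Gm) ω = _
        rw [ht i, nn3, ei_conj, ei_conj]
        exact nn3_cj ρ cj_25 hω) (fx ρ (QQ : Set Gm)) le_rfl
  rw [List.length_ofFn] at h1
  -- the fixed space of `PP`
  have h2 : fx ρ (QQ : Set Gm) ⊓ fx ρ {x | x ∈ List.ofFn fun i => ((t i : ↥PP) : Gm)} ≤ fx ρ (PP : Set Gm) := by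
    rintro v ⟨hv1, hv2⟩
    let S : Subgroup Gm :=
      { carrier := {x | ρ x v = v}
        mul_mem' := by
          intro a b ha hb
          show ρ (a * b) v = v
          rw [mm, show ρ b v = v from hb, show ρ a v = v from ha]
        one_mem' := by
          show ρ 1 v = v
          rw [map_one]; rfl
        inv_mem' := by
          intro a ha
          show ρ a⁻¹ v = v
          have ha' : ρ a v = v := ha
          calc ρ a⁻¹ v = ρ a⁻¹ (ρ a v) := by rw [ha']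
            _ = v := by rw [← mm, inv_mul_cancel, map_one]; rfl }
    have e1 : ff.ker ≤ S.subgroupOf PP := fun x hx => hv1 _ (ker_mem.1 hx)
    have e2 : (S.subgroupOf PP).map ff = ⊤ := by
      rw [eq_top_iff, ← hw, Subgroup.closure_le]
      rintro _ ⟨i, rfl⟩
      exact ⟨t i, hv2 _ ((List.mem_ofFn' _ _).2 ⟨i, rfl⟩), hft i⟩
    have e3 : S.subgroupOf PP = ⊤ := by
      have e4 := Subgroup.comap_map_eq ff (S.subgroupOf PP)
      rw [e2, Subgroup.comap_top, sup_eq_left.2 e1] at e4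
      exact e4.symm
    intro x hx
    have e5 : (⟨x, hx⟩ : ↥PP) ∈ S.subgroupOf PP := by rw [e3]; exact Subgroup.mem_top _
    exact e5
  -- the last step
  have h3 := step_num ρ hJ hJc (by norm_num) hω hω1
    (F := fx ρ (QQ : Set Gm) ⊓ fx ρ {x | x ∈ List.ofFn fun i => ((t i : ↥PP) : Gm)})
    (h2.trans (fx_mono ρ (hJP PP L7_PP)))
  rw [nn3_cj ρ cj_23 hω] at h3
  have h4 : fx ρ (QQ : Set Gm) ⊓ fx ρ {x | x ∈ List.ofFn fun i => ((t i : ↥PP) : Gm)} ⊓ fx ρ {xp 23} = ⊥ := by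
    rw [eq_bot_iff, ← h]
    rintro v ⟨hv1, hv2⟩
    have hv3 := h2 hv1
    let S : Subgroup Gm :=
      { carrier := {x | ρ x v = v}
        mul_mem' := by
          intro a b ha hb
          show ρ (a * b) v = v
          rw [mm, show ρ b v = v from hb, show ρ a v = v from ha]
        one_mem' := by
          show ρ 1 v = v
          rw [map_one]; rfl
        inv_mem' := by
          intro a ha
          show ρ a⁻¹ v = v
          have ha' : ρ a v = v := ha
          calc ρ a⁻¹ v = ρ a⁻¹ (ρ a v) := by rw [ha']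
            _ = v := by rw [← mm, inv_mul_cancel, map_one]; rfl }
    have e1 : S = ⊤ := by
      apply gen8
      intro r hr
      rcases rC_S8 r hr with h5 | rfl | rfl
      · exact hv3 _ (xp_PP h5)
      · exact hv3 _ (QQ_le (xp_mem (by decide)))
      · exact hv2 _ rfl
    intro x _
    have e2 : x ∈ S := by rw [e1]; exact Subgroup.mem_top _
    exact e2
  rw [h4, finrank_bot, mul_zero, zero_add] at h3
  omega

end Cfsg.Agent.H186.F43
end

-- part: H188/F43/GenSix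
section
/-!
# `Sp₆(3)` is generated by six transvections (S2464, row `F₄(3)`, box (A); helper188)

The chain `e₁, f₁, e₁ + e₂, f₂, e₂ + e₃, f₃`. Vectors are coded by their six base 3 digits; a kernel table moves every
nonzero vector to `e₁` by the six transvections.

* `gen6` : the statement of helper186.
-/

set_option autoImplicit false

namespace Cfsg.Agent.H188.F43

open Matrix
open Cfsg.Agent.H700.F43
open Cfsg.Agent.ClassicalGeometry.SympBasic

/-- the digits -/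
def dg (n k : ℕ) : ℕ := n / 3 ^ k % 3

/-- the number of six digits -/
def enc (d : ℕ → ℕ) : ℕ := d 0 + 3 * d 1 + 9 * d 2 + 27 * d 3 + 81 * d 4 + 243 * d 5

theorem dg_enc {d : ℕ → ℕ} (h : ∀ k, d k < 3) {k : ℕ} (hk : k < 6) : dg (enc d) k = d k := by
  have h0 := h 0
  have h1 := h 1
  have h2 := h 2
  have h3 := h 3
  have h4 := h 4
  have h5 := h 5
  interval_cases k <;> simp only [dg, enc] <;> norm_num only [_root_.Nat.div_one] <;> omega

theorem enc_lt {d : ℕ → ℕ} (h : ∀ k, d k < 3) : enc d < 729 := by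
  have h0 := h 0
  have h1 := h 1
  have h2 := h 2
  have h3 := h 3
  have h4 := h 4
  have h5 := h 5
  simp only [enc]
  omega

/-- the vector of a code -/
def vec (n : ℕ) : V6 := Sum.elim (fun i => (dg n i.1 : F3)) fun i => (dg n (i.1 + 3) : F3)

/-- the form on the codes -/
def fN (n m : ℕ) : ℕ :=
  dg n 3 * dg m 0 + dg n 4 * dg m 1 + dg n 5 * dg m 2 + 2 * (dg n 0 * dg m 3 + dg n 1 * dg m 4 + dg n 2 * dg m 5)

/-- the transvection on the codes -/
def stN (m n : ℕ) : ℕ := enc fun k => (dg n k + fN n m * dg m k) % 3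

theorem form_vec (n m : ℕ) : Cfsg.sympForm 3 F3 (vec n) (vec m) = (fN n m : F3) := by
  have hJ : Matrix.J (Fin 3) F3 *ᵥ vec m = Sum.elim (-fun i : Fin 3 => (dg m (i.1 + 3) : F3)) fun i => (dg m i.1 : F3) := by
    rw [vec, Matrix.J, Matrix.fromBlocks_mulVec]
    congr 1
    · simp [Matrix.neg_mulVec]
    · simp
  have h2 : (2 : F3) = -1 := by decide
  rw [Cfsg.sympForm, hJ, vec, sumElim_dotProduct_sumElim]
  simp only [dotProduct, Fin.sum_univ_three, fN, Pi.neg_apply]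
  push_cast
  rw [h2]
  simp only [_root_.Fin.isValue, _root_.Fin.coe_ofNat_eq_mod, _root_.Nat.zero_mod, _root_.zero_add, _root_.mul_neg, _root_.Nat.one_mod, _root_.Nat.reduceAdd, _root_.Nat.mod_succ, _root_.neg_mul, _root_.one_mul, _root_.neg_add_rev]
  ring

theorem transv_vec (n m : ℕ) : (transv (vec m) 1 : Sp).1 *ᵥ vec n = vec (stN m n) := by
  rw [coe_transv, sympTransvection_mulVec, form_vec, one_mul]
  have key : ∀ k, k < 6 → ((dg (stN m n) k : ℕ) : F3) = dg n k + (fN n m : F3) * dg m k := by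
    intro k hk
    rw [stN, dg_enc (fun k => Nat.mod_lt _ (by norm_num)) hk, ZMod.natCast_mod]
    push_cast
    rfl
  funext a
  rcases a with i | i
  · exact (key i.1 (by omega)).symm
  · exact (key (i.1 + 3) (by omega)).symm

/-- the code of a vector -/
def cd (v : V6) : ℕ := enc fun k =>
  if k = 0 then (v (Sum.inl 0)).val else if k = 1 then (v (Sum.inl 1)).val else if k = 2 then (v (Sum.inl 2)).val else
    if k = 3 then (v (Sum.inr 0)).val else if k = 4 then (v (Sum.inr 1)).val else (v (Sum.inr 2)).val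

theorem vec_cd (v : V6) : vec (cd v) = v := by
  have h : ∀ k : ℕ, (if k = 0 then (v (Sum.inl 0)).val else if k = 1 then (v (Sum.inl 1)).val else if k = 2 then
      (v (Sum.inl 2)).val else if k = 3 then (v (Sum.inr 0)).val else if k = 4 then (v (Sum.inr 1)).val else
      (v (Sum.inr 2)).val) < 3 := by
    intro k
    split_ifs <;> exact ZMod.val_lt _
  funext a
  rcases a with i | i <;> fin_cases i <;>
    simp only [vec, cd, Sum.elim_inl, Sum.elim_inr] <;> rw [dg_enc h (by norm_num)] <;> simp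

theorem cd_lt (v : V6) : cd v < 729 := by
  refine enc_lt fun k => ?_
  split_ifs <;> exact ZMod.val_lt _

/-- the generator to be applied -/
def tab : ℕ := 0x5b6db6db6db6db2492492db6db6db6c96d92492496db6db6db6db6c924924b6db6db6db6db5b6db045b6db6db6db6dadb6da4adb6db6db6db6d6db48956db6cb2db6d96c91c724b6db6db6db6c924924925b2db6cb6db659248dc92db6db6db6db6d6db6d256db6db6db6db6b6db648b6db6db6db6db5b4db255b6db6db6db6db2492492db6db6db6db6d92492496cb6db6db6db6c924924b6db6596db6db5c924925b6db6db6db648db92492d96db65b6db2c71c9249249249249249236da6926dc9249248dc91b6db2449247249249248da6922a49249249249246db6c11249249249249236db69291c92491b91c91b4d229369b68a6db6d244a45021b6db4936d24924924810db6d935b6db2692c9640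

/-- the distance -/
def rks : ℕ := 0xa4ad29421494292a4ad29429494ad4b5316951d06425484a96a59d06424e952d8b62d49429495312a62d49429495ad4b6b16a4a1494a0c83a1495a98b5a96b52d8c5a9893a0e8318e84254b4a92a4254852d8b4a948521493a5695b58a5a98b5318b5b58b6292b5292a52d2b52d4c62d4b5a94b5ad4c5212849d095254b6296a5a52a4254b5a54b4ad2b5a56f531cc5a96c6a98c531cc5316a629494ad474a128521076b1695a96a6314b424e952ce84a92a31cab6292a5b18d62d495ad4b6a12b525074a58d5a98e6adaa4ad4a49d283a50a4ad4a4ad6a4292b531484a1273a127425484a1274a9084a96952d2b4ad485310a62d2a4ad4a62d2b6b14c5a98b5a94b5a1495256b5258b5256a5a98b4a92a4254b4254b4a94b4a9694a96c52d8a5a98c531e95b56a4ad6d5b18a6398b5250a420e74a0c83a0e939cc6314a731cc852126394e8498e84a12531085194c74212a4a0e94a12b3a14941cc8414e731d28399074a10729cc641d285252839cc4314e6420c731ca531cc7424e83a0c53108531ca649d274a0c851d2b52128524c8394e941909429294252a3a50942949414a4194831112741d063a127425484a96919043214611290a429485410a629285a9c43208651000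

/-- the codes of the six vectors -/
def gc : ℕ → ℕ
  | 0 => 1
  | 1 => 27
  | 2 => 4
  | 3 => 81
  | 4 => 12
  | _ => 243

/-- the index of the generator -/
def gi (n : ℕ) : ℕ := (tab >>> (3 * n)) % 8

/-- the distance -/
def rk (n : ℕ) : ℕ := (rks >>> (5 * n)) % 32

theorem check : ∀ n < 729, n = 0 ∨ n = 1 ∨ (stN (gc (gi n)) n ≠ 0 ∧ gi n < 6 ∧ rk (stN (gc (gi n)) n) < rk n) := by
  decide +kernel

/-- the six vectors -/
def v6 (i : Fin 6) : V6 := vec (gc i.1)

/-- the group -/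
def H6 : Subgroup Sp := Subgroup.closure (Set.range fun i => (transv (v6 i) 1 : Sp))

theorem gen_mem {i : ℕ} (hi : i < 6) : (transv (vec (gc i)) 1 : Sp) ∈ H6 := Subgroup.subset_closure ⟨⟨i, hi⟩, rfl⟩

/-- every nonzero vector is moved to the first one -/
theorem exists_move (r : ℕ) : ∀ n < 729, n ≠ 0 → rk n ≤ r → ∃ g ∈ H6, g.1 *ᵥ vec n = vec 1 := by
  induction r with
  | zero =>
    intro n hn h0 hr
    rcases check n hn with h | h | ⟨-, -, h⟩
    · exact absurd h h0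
    · exact ⟨1, one_mem _, by rw [h]; exact Matrix.one_mulVec _⟩
    · omega
  | succ r ih =>
    intro n hn h0 hr
    rcases check n hn with h | h | ⟨h1, h2, h3⟩
    · exact absurd h h0
    · exact ⟨1, one_mem _, by rw [h]; exact Matrix.one_mulVec _⟩
    · obtain ⟨g, hg, he⟩ := ih (stN (gc (gi n)) n) (enc_lt fun k => Nat.mod_lt _ (by norm_num)) h1 (by omega)
      refine ⟨g * transv (vec (gc (gi n))) 1, mul_mem hg (gen_mem h2), ?_⟩
      rw [coe_mul_mulVec, transv_vec]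
      exact he

theorem first_mem (c : F3) : (transv (vec 1) c : Sp) ∈ H6 := by
  have h1 : (transv (vec 1) 1 : Sp) ∈ H6 := gen_mem (i := 0) (by norm_num)
  have h2 : ∀ c d : F3, (transv (vec 1) c : Sp) * transv (vec 1) d = transv (vec 1) (c + d) := fun c d =>
    Subtype.ext (sympTransvection_mul (vec 1) c d)
  have h3 : (transv (vec 1) 0 : Sp) = 1 := Subtype.ext (sympTransvection_zero _)
  have hc : c = 0 ∨ c = 1 ∨ c = 1 + 1 := by
    revert c
    decide
  rcases hc with rfl | rfl | rfl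
  · rw [h3]
    exact one_mem _
  · exact h1
  · rw [← h2]
    exact mul_mem h1 h1

theorem transv_mem (v : V6) (c : F3) : (transv v c : Sp) ∈ H6 := by
  by_cases hv : v = 0
  · have h0 : (transv v c : Sp) = 1 := by
      apply Subtype.ext
      rw [coe_transv, ← Matrix.mulVec_injective.eq_iff]
      funext x
      rw [sympTransvection_mulVec, hv, smul_zero, add_zero]
      exact (Matrix.one_mulVec x).symm
    rw [h0]
    exact one_mem _
  · have h0 : cd v ≠ 0 := by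
      intro h0
      apply hv
      rw [← vec_cd v, h0]
      funext a
      rcases a with i | i <;> simp [vec, dg]
    obtain ⟨g, hg, he⟩ := exists_move _ (cd v) (cd_lt v) h0 le_rfl
    rw [vec_cd] at he
    have h1 := Cfsg.Agent.H750.F43.conj_transv g v c
    rw [he] at h1
    have h2 : (transv v c : Sp) = g⁻¹ * transv (vec 1) c * g := by
      rw [← h1]
      group
    rw [h2]
    exact mul_mem (mul_mem (inv_mem hg) (first_mem c)) hg

theorem H6_top : H6 = ⊤ := by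
  rw [eq_top_iff, ← Cfsg.Agent.S0765.result (F := F3) 3, Subgroup.closure_le]
  rintro A ⟨w, c, h⟩
  have h1 : A = transv w c := Subtype.ext h
  rw [h1]
  exact transv_mem w c

/-- **`Sp₆(3)` is generated by six transvections** -/
theorem gen6 : ∃ v : Fin 6 → V6, (∀ i, v i ≠ 0) ∧
    Subgroup.closure (Set.range fun i => (transv (v i) 1 : Sp)) = ⊤ := by
  refine ⟨v6, fun i => ?_, H6_top⟩
  fin_cases i <;> · intro h; exact absurd h (by decide +kernel)

end Cfsg.Agent.H188.F43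
end

-- part: H186/F43/BoxAFin
section
/-!
# `F₄(3)`: box (A) without hypotheses (S2464; helper186)
-/

set_option autoImplicit false

namespace Cfsg.Agent.H186.F43

open Cfsg.Lie Cfsg.Agent.H700.F43
open Module

universe v

/-- **Box (A).** `2187 · dim V^Q ≤ 55 · (dim V - dim V^Z)`. -/
theorem boxA {V : Type v} [AddCommGroup V] [Module ℂ V] [FiniteDimensional ℂ V] (ρ : Representation ℂ Gm V)
    (h : fx ρ Set.univ = ⊥) :
    2187 * finrank ℂ ↥(fx ρ (QQ : Set Gm)) ≤ 55 * (finrank ℂ V - finrank ℂ ↥(fx ρ {xp 47})) :=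
  boxA_of H188.F43.gen6 ρ h

end Cfsg.Agent.H186.F43
end

-- part: H186/F43/Mzero
section
/-!
# `F₄(3)`: box T2, `m₀ ≤ (13/243) b` with `b = (χ(1) - χ(z))/3` (S2464; helper186)
-/

set_option autoImplicit false

namespace Cfsg.Agent.H186.F43

open Cfsg.Lie Cfsg.Agent.H700.F43
open Module

universe v

theorem re_omega {ω : ℂ} (hω : 1 + ω + ω ^ 2 = 0) : ω.re = -1 / 2 ∧ (ω ^ 2).re = -1 / 2 := by
  have h1 := congrArg Complex.re hω
  have h2 := congrArg Complex.im hω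
  simp only [Complex.add_re, Complex.one_re, Complex.add_im, Complex.one_im, pow_two, Complex.mul_re, Complex.mul_im,
    Complex.zero_re, Complex.zero_im] at h1 h2
  have h3 : ω.im * (1 + 2 * ω.re) = 0 := by linarith
  have h4 : ω.im ≠ 0 := by
    intro h0
    rw [h0] at h1
    linarith only [h1, _root_.sq_nonneg (2 * ω.re + 1 * 1 : ℝ)]
  have h5 : ω.re = -1 / 2 := by
    rcases mul_eq_zero.1 h3 with h | h
    · exact absurd h h4
    · linarith
  refine ⟨h5, ?_⟩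
  rw [pow_two, Complex.mul_re]
  rw [h5] at h1 ⊢
  linarith

/-- `Re χ(t) = χ(1) - (3/2) dim [V, t]` for `t³ = 1` -/
theorem re_trace {G : Type*} [Group G] {V : Type v} [AddCommGroup V] [Module ℂ V] [FiniteDimensional ℂ V]
    (ρ : Representation ℂ G V) {t : G} (ht : t ^ 3 = 1) :
    (LinearMap.trace ℂ V (ρ t)).re = (finrank ℂ V : ℝ) - 3 / 2 * ((finrank ℂ V : ℝ) - finrank ℂ ↥(fx ρ {t})) := by
  obtain ⟨ω, hω, hω1⟩ := exists_omega
  have hω3 : ω ^ 3 = 1 := by linear_combination (ω - 1) * hω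
  have hω6 : (ω ^ 2) ^ 3 = 1 := by linear_combination (ω ^ 3 + 1) * hω3
  have h1 : ei ρ t 1 = fx ρ {t} := by
    ext v
    rw [mem_ei, one_smul]
    constructor
    · rintro h g rfl
      exact h
    · intro h
      exact h t rfl
  have h2 := trace_pj ρ ht (one_pow 3)
  have h3 := trace_pj ρ ht hω3
  have h4 := trace_pj ρ ht hω6
  rw [h1] at h2
  have e1 : ∀ μ : ℂ, μ ^ 3 = 1 → ∀ v, ρ t (pj ρ t μ v) = μ • pj ρ t μ v := fun μ hμ v => pj_mem ρ ht hμ v
  have h5 : ρ t = pj ρ t 1 + ω • pj ρ t ω + ω ^ 2 • pj ρ t (ω ^ 2) := by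
    apply LinearMap.ext
    intro v
    conv_lhs => rw [← pj_sum ρ (t := t) hω v]
    rw [map_add, map_add, e1 1 (one_pow 3), e1 ω hω3, e1 _ hω6, one_smul]
    rfl
  have h6 := congrArg (LinearMap.trace ℂ V) h5
  rw [map_add, map_add, map_smul, map_smul, h2, h3, h4, smul_eq_mul, smul_eq_mul] at h6
  have h7 := nn3_add ρ ht hω
  rw [nn3] at h7
  have h8 : (finrank ℂ V : ℝ) = (finrank ℂ ↥(ei ρ t ω) : ℝ) + finrank ℂ ↥(ei ρ t (ω ^ 2)) + finrank ℂ ↥(fx ρ {t}) := by
    exact_mod_cast h7.symm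
  obtain ⟨r1, r2⟩ := re_omega hω
  rw [h6, h8]
  simp only [Complex.add_re, Complex.mul_re, Complex.natCast_re, Complex.natCast_im, mul_zero, sub_zero, r1, r2]
  ring

/-- **Box T2.** `m₀ ≤ (13/243) b`, `b = (χ(1) - Re χ(z))/3`. -/
theorem m0_le {V : Type v} [AddCommGroup V] [Module ℂ V] [FiniteDimensional ℂ V] (ρ : Representation ℂ Gm V)
    (h : fx ρ Set.univ = ⊥) :
    (finrank ℂ ↥(fx ρ (QQ : Set Gm)) : ℝ) ≤
      13 / 243 * (((finrank ℂ V : ℝ) - (LinearMap.trace ℂ V (ρ (xp 47))).re) / 3) := by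
  have h1 := boxA ρ h
  have h2 := re_trace ρ (xp_pow3 (r := 47) (by norm_num))
  have h3 : finrank ℂ ↥(fx ρ {xp 47}) ≤ finrank ℂ V := Submodule.finrank_le _
  rw [h2]
  have h4 : (2187 : ℝ) * finrank ℂ ↥(fx ρ (QQ : Set Gm)) ≤ 55 * ((finrank ℂ V : ℝ) - finrank ℂ ↥(fx ρ {xp 47})) := by
    have h5 : ((2187 * finrank ℂ ↥(fx ρ (QQ : Set Gm)) : ℕ) : ℝ) ≤
        ((55 * (finrank ℂ V - finrank ℂ ↥(fx ρ {xp 47})) : ℕ) : ℝ) := Nat.cast_le.2 h1
    rw [Nat.cast_mul, Nat.cast_mul, Nat.cast_sub h3] at h5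
    exact_mod_cast h5
  have h6 : (0 : ℝ) ≤ (finrank ℂ V : ℝ) - finrank ℂ ↥(fx ρ {xp 47}) := by
    rw [sub_nonneg]
    exact_mod_cast h3
  linarith only [h4]

end Cfsg.Agent.H186.F43
end

private theorem dce_4b69bd41af11 : _root_.True := by
  try have : _root_.True := by simp only [_root_.Cfsg.Agent.H186.F43.okI.eq_1]
  try have : _root_.True := by simp only [_root_.Cfsg.sympForm.eq_1]
  try have : _root_.True := by simp only [_root_.Cfsg.Agent.H186.F43.nn.eq_1]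
  try have : _root_.True := by simp only [_root_.Cfsg.Agent.H186.F43.ckl.eq_2]
  try have : _root_.True := by simp only [_root_.Cfsg.Agent.H186.F43.okS.eq_1]
  try have : _root_.True := by simp only [_root_.Cfsg.Agent.H186.F43.nn3.eq_1]
  try have : _root_.True := by simp only [_root_.Cfsg.Agent.H186.F43.ckl.eq_def]
  try have : _root_.True := by simp only [_root_.Cfsg.Agent.H188.F43.vec.eq_1]
  try have : _root_.True := by simp only [_root_.Cfsg.Agent.H188.F43.dg.eq_1]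
  try have : _root_.True := by simp only [_root_.Cfsg.Agent.H186.F43.okI.eq_2]
  try have : _root_.True := by simp only [_root_.Cfsg.Agent.H186.F43.okI.eq_def]
  try have : _root_.True := by simp only [_root_.Cfsg.Agent.H186.F43.okT.eq_1]
  try have : _root_.True := by simp only [_root_.Cfsg.Agent.H188.F43.stN.eq_1]
  try have : _root_.True := by simp only [_root_.Cfsg.Agent.H186.F43.ckl.eq_1]
  try have : _root_.True := by simp only [_root_.Cfsg.Agent.H188.F43.fN.eq_1]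
  try have : _root_.True := by simp only [_root_.Cfsg.Agent.H186.F43.nwi.eq_1]
  try have : _root_.True := by simp only [_root_.Cfsg.Agent.H188.F43.enc.eq_1]
  try have : _root_.True := by simp only [_root_.Cfsg.Agent.H186.F43.nw.eq_1]
  try have : _root_.True := by simp only [_root_.Cfsg.Agent.H188.F43.cd.eq_1]
  exact _root_.True.intro
end

-- part: H520/FC/Final
section
prune_inst 0x56000410862020820040586112000850d0004b000600000e8240144000083228d82e1400c0011161a0aa20100010020020000500040000004000000000101001008020611400000a00098001184410000000000000000000000000000000004004010000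
set_option linter.all false
open scoped Cfsg.Agent.FastGrp

-- part: H520/FC/Fin0
section
/-!
# S2464, `F₄(q)`, `q = 5, 7, 17`: the bound from the spin layer and the mixed elements (helper520)
-/

set_option autoImplicit false
set_option linter.unusedSectionVars false

namespace Cfsg.Agent.H520.FC

open Subgroup CoxeterSystem Cfsg.Agent.ChevalleyStructure.CoxeterGeom Cfsg.Agent.Tits.Core
  Cfsg.Agent.Tits.Exchange Cfsg.Agent.Nodes.Reps Cfsg.Agent.Nodes.BNOf Cfsg.Agent.Nodes.StabComb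
  Cfsg.Agent.Nodes.Bruhat Cfsg.Agent.Nodes.OppDec Cfsg.Agent.Nodes.LeviDec Cfsg.Agent.Nodes.NormX
  Cfsg.Agent.Nodes.Coroot Cfsg.Agent.Nodes.RGDChev Cfsg.Agent.KFacts.RgdPar Cfsg.Agent.KFacts.RgdTI
  Cfsg.Agent.KFacts.RgdCent Cfsg.Agent.KFacts.RgdChevCoord Cfsg.Agent.Nodes.ChevCls
  Cfsg.Agent.OddHalf.NI.ModelChev Cfsg.Agent.H225.PPow Cfsg.Agent.Tits.Roots
open Cfsg.Lie Cfsg.Agent.ChevalleyStructure Cfsg.Agent.ChevalleyStructure.Elts
  Cfsg.Agent.ChevalleyStructure.RootVec Cfsg.Agent.ChevalleyStructure.NPerm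
  Cfsg.Agent.ChevalleyStructure.CoxeterGeomTypes
open Cfsg.Agent.H701.F43.Cent (hF cF)

universe u

variable {K : Type u} [Field K]

/-- `2 ≠ 0` -/
theorem two_ne (hq : Nat.card K = 5 ∨ Nat.card K = 7 ∨ Nat.card K = 17) : (2 : K) ≠ 0 := by
  have hfin : Finite K := Nat.finite_of_card_ne_zero (by omega)
  obtain ⟨p, hp⟩ := CharP.exists K
  have hpf : Fact p.Prime := ⟨CharP.char_is_prime K p⟩
  have h1 := p_eq p hq
  intro h2
  have h3 : ((2 : ℕ) : K) = 0 := by exact_mod_cast h2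
  rw [CharP.cast_eq_zero_iff K p] at h3
  have h4 := Nat.le_of_dvd (by norm_num) h3
  omega

/-- `OC3` -/
theorem oc3 [Finite K] (h2 : (2 : K) ≠ 0) : OC3 K := fun _ hu hu' => Cfsg.Agent.H797.FQ.oc3 h2 hu hu'

/-- the bound, from the spin layer and the mixed elements -/
theorem cb_of2 {p : ℕ} [Fact p.Prime] [CharP K p] (hq : Nat.card K = 5 ∨ Nat.card K = 7 ∨ Nat.card K = 17)
    (h0 : OB3 K) {c : ℕ} (hc : c = 2 ∨ c = 10 ∧ Nat.card K = 17)
    (hM : ∀ u s : ↥(chevF4.group K), u * s = s * u → u ≠ 1 → u ∈ XT K → s ≠ 1 → (orderOf s).Coprime p →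
      10 * Nat.card ↥(Subgroup.centralizer ({u * s} : Set ↥(chevF4.group K))) < d2 (Nat.card K) ^ 2)
    {g : ↥(chevF4.group K)} (hg : p ∣ orderOf g) (hl : ¬ Lng g) :
    c * Nat.card ↥(Subgroup.centralizer ({g} : Set ↥(chevF4.group K))) < d2 (Nat.card K) ^ 2 := by
  have hfin : Finite K := Nat.finite_of_card_ne_zero (by omega)
  have h2 := two_ne hq
  refine cbc_of hq (oc3 h2) h0 (fun u hu hc => Cfsg.Agent.H7.FC.center_U h2 hu hc) hc (fun u s a b d e f => ?_) hg hl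
  refine lt_of_le_of_lt (Nat.mul_le_mul_right _ ?_) (hM u s a b d e f)
  omega

end Cfsg.Agent.H520.FC
end

-- part: H520/FC/Fin1
section
/-!
# S2464, `F₄(q)`: `OB3` (helper520)
-/

set_option autoImplicit false
set_option linter.unusedSectionVars false

namespace Cfsg.Agent.H520.FC

open Subgroup CoxeterSystem Cfsg.Agent.ChevalleyStructure.CoxeterGeom Cfsg.Agent.Tits.Core
  Cfsg.Agent.Tits.Exchange Cfsg.Agent.Nodes.Reps Cfsg.Agent.Nodes.BNOf Cfsg.Agent.Nodes.StabComb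
  Cfsg.Agent.Nodes.Bruhat Cfsg.Agent.Nodes.OppDec Cfsg.Agent.Nodes.LeviDec Cfsg.Agent.Nodes.NormX
  Cfsg.Agent.Nodes.Coroot Cfsg.Agent.Nodes.RGDChev Cfsg.Agent.KFacts.RgdPar Cfsg.Agent.KFacts.RgdTI
  Cfsg.Agent.KFacts.RgdCent Cfsg.Agent.KFacts.RgdChevCoord Cfsg.Agent.Nodes.ChevCls
  Cfsg.Agent.OddHalf.NI.ModelChev Cfsg.Agent.H225.PPow Cfsg.Agent.Tits.Roots
open Cfsg.Lie Cfsg.Agent.ChevalleyStructure Cfsg.Agent.ChevalleyStructure.Elts
  Cfsg.Agent.ChevalleyStructure.RootVec Cfsg.Agent.ChevalleyStructure.NPerm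
  Cfsg.Agent.ChevalleyStructure.CoxeterGeomTypes
open Cfsg.Agent.H701.F43.Cent (hF cF)

universe u

variable {K : Type u} [Field K]

/-- **`OB3`** -/
theorem ob3 [Finite K] (h2 : (2 : K) ≠ 0) : OB3 K := by
  intro u hu hl
  by_cases h : u ∈ RGD.Sup (XX chevF4 4 K)
      {x | x ∈ NotJ cF hF.isCartan {k | k ≠ 0} ∧ 2 ≤ x 0}
  · exact Cfsg.Agent.H446.FC.ob3_v7 h2 h hl
  · have h1 := Cfsg.Agent.H930.FC.spin hu h
    have h3 : (Nat.card K - 1) ^ 2 * Nat.card K ^ 5 ≤ (Nat.card K - 1) * Nat.card K ^ 6 := by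
      calc (Nat.card K - 1) ^ 2 * Nat.card K ^ 5 = (Nat.card K - 1) * ((Nat.card K - 1) * Nat.card K ^ 5) := by ring
        _ ≤ (Nat.card K - 1) * (Nat.card K * Nat.card K ^ 5) :=
            Nat.mul_le_mul_left _ (Nat.mul_le_mul_right _ (Nat.sub_le _ _))
        _ = (Nat.card K - 1) * Nat.card K ^ 6 := by ring
    calc (Nat.card K - 1) ^ 2 * Nat.card K ^ 5 ≤ (Nat.card K - 1) * Nat.card K ^ 6 := h3
      _ ≤ Nat.card ↥(cls (PK K {k | k ≠ 0}) u) := h1
      _ ≤ 2 * Nat.card ↥(cls (PK K {k | k ≠ 0}) u) := Nat.le_mul_of_pos_left _ (by norm_num)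

/-- the bound, from the mixed elements -/
theorem cb_of3 {p : ℕ} [Fact p.Prime] [CharP K p] (hq : Nat.card K = 5 ∨ Nat.card K = 7 ∨ Nat.card K = 17)
    {c : ℕ} (hc : c = 2 ∨ c = 10 ∧ Nat.card K = 17)
    (hM : ∀ u s : ↥(chevF4.group K), u * s = s * u → u ≠ 1 → u ∈ XT K → s ≠ 1 → (orderOf s).Coprime p →
      10 * Nat.card ↥(Subgroup.centralizer ({u * s} : Set ↥(chevF4.group K))) < d2 (Nat.card K) ^ 2)
    {g : ↥(chevF4.group K)} (hg : p ∣ orderOf g) (hl : ¬ Lng g) :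
    c * Nat.card ↥(Subgroup.centralizer ({g} : Set ↥(chevF4.group K))) < d2 (Nat.card K) ^ 2 := by
  have hfin : Finite K := Nat.finite_of_card_ne_zero (by omega)
  exact cb_of2 hq (ob3 (two_ne hq)) hc hM hg hl

end Cfsg.Agent.H520.FC
end

-- part: H520/FC/Idx
section
/-!
# S2464, `F₄(q)`: long root elements have centralizers of index prime to `p` (helper520)
-/

set_option autoImplicit false
set_option linter.unusedSectionVars false

namespace Cfsg.Agent.H520.FC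

open Subgroup CoxeterSystem Cfsg.Agent.ChevalleyStructure.CoxeterGeom Cfsg.Agent.Tits.Core
  Cfsg.Agent.Tits.Exchange Cfsg.Agent.Nodes.Reps Cfsg.Agent.Nodes.BNOf Cfsg.Agent.Nodes.StabComb
  Cfsg.Agent.Nodes.Bruhat Cfsg.Agent.Nodes.OppDec Cfsg.Agent.Nodes.LeviDec Cfsg.Agent.Nodes.NormX
  Cfsg.Agent.Nodes.Coroot Cfsg.Agent.Nodes.RGDChev Cfsg.Agent.KFacts.RgdPar Cfsg.Agent.KFacts.RgdTI
  Cfsg.Agent.KFacts.RgdCent Cfsg.Agent.KFacts.RgdChevCoord Cfsg.Agent.Nodes.ChevCls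
  Cfsg.Agent.OddHalf.NI.ModelChev Cfsg.Agent.H225.PPow Cfsg.Agent.Tits.Roots
open Cfsg.Lie Cfsg.Agent.ChevalleyStructure Cfsg.Agent.ChevalleyStructure.Elts
  Cfsg.Agent.ChevalleyStructure.RootVec Cfsg.Agent.ChevalleyStructure.NPerm
  Cfsg.Agent.ChevalleyStructure.CoxeterGeomTypes
open Cfsg.Agent.H701.F43.Cent (hF cF VV MM J3 comm_theta)

universe u

variable {K : Type u} [Field K]

theorem U_le : RGD.Sup (XX chevF4 4 K) (RGD.Pos cF hF.isCartan) ≤ VV K ⊔ MM K := by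
  refine RGD.Sup_le fun x hx => ?_
  rcases mem_PosJ_or_NotJ J3 hx.1 hx.2 with h1 | h1
  · exact le_trans (RGD.le_Sup (PosJ_subset J3 h1)) le_sup_right
  · exact le_trans (RGD.le_Sup h1) le_sup_left

/-- long root elements -/
theorem index_of_lng [Finite K] (p : ℕ) [Fact p.Prime] [CharP K p] {g : ↥(chevF4.group K)} (hl : Lng g) :
    ¬ p ∣ (centralizer ({g} : Set ↥(chevF4.group K))).index := by
  have hW := finite_W hF cF
  have hfin : Finite ↥(chevF4.group K) := inferInstance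
  have hG := KFacts.RgdFilt.GG_eq_top (T := TT chevF4 K) (G1_eq_top hF (K := K) cF)
  have R := rgd (K := K) hF cF p
  obtain ⟨a, ha⟩ := hl
  obtain ⟨S, hS⟩ := KFacts.RgdAutFacts.exists_sylow R hG
  have h1 : (S : Subgroup ↥(chevF4.group K)) ≤ centralizer {a * g * a⁻¹} := by
    rw [hS]
    intro t ht
    rw [mem_centralizer_singleton_iff]
    exact comm_theta (U_le ht) ha
  have h2 : (centralizer ({g} : Set ↥(chevF4.group K))).index = (centralizer ({a * g * a⁻¹} : Set ↥(chevF4.group K))).index := by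
    have h3 := card_cent_conj a (a * g * a⁻¹)
    have h4 : a⁻¹ * (a * g * a⁻¹) * a = g := by group
    rw [h4] at h3
    have h5 := (centralizer ({g} : Set ↥(chevF4.group K))).index_mul_card
    have h6 := (centralizer ({a * g * a⁻¹} : Set ↥(chevF4.group K))).index_mul_card
    rw [← h6, h3] at h5
    exact Nat.eq_of_mul_eq_mul_right Nat.card_pos h5
  rw [h2]
  intro hcon
  exact S.not_dvd_index (hcon.trans (index_dvd_of_le h1))

end Cfsg.Agent.H520.FC
end

-- part: H374/TC/CuDef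
section
/-!
# The statement C16 (helper374, S2464, `F₄(q)`)

`C16 K` : an element outside `U` which commutes with a nontrivial element of the root group of the highest root fixes at
most `q ^ 16` elements of `U`.
-/

set_option autoImplicit false

namespace Cfsg.Agent.H374.TC.Cu

open Cfsg.Agent.Nodes.BNOf Cfsg.Agent.Nodes.RGDChev Cfsg.Agent.KFacts.RgdChevCoord Cfsg.Lie
open Cfsg.Agent.H701.F43.Cent (hF cF)
open Cfsg.Agent.H520.FC

universe u

/-- the Sylow `p`-subgroup `U` -/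
abbrev UK (K : Type u) [Field K] : Subgroup ↥(chevF4.group K) :=
  RGD.Sup (XX chevF4 4 K) (RGD.Pos cF hF.isCartan)

/-- elements outside `U` -/
def C16 (K : Type u) [Field K] : Prop :=
  ∀ s u : ↥(chevF4.group K), u ≠ 1 → u ∈ XT K → u * s = s * u → s ∉ UK K →
    Nat.card ↥(UK K ⊓ Subgroup.centralizer ({s} : Set ↥(chevF4.group K))) ≤ Nat.card K ^ 16

end Cfsg.Agent.H374.TC.Cu
end

-- part: H962/FC/Mixed
section
/-!
# S2464, `F₄(q)`, `q = 5, 7, 17`: the mixed elements (for helper520; the bound `C16` is helper374's)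

* `card_mixed` : `|C(u s)| ≤ q^16 (q - 1) (q² - 1) (q⁴ - 1) (q⁶ - 1)`;
* `mixed_of`, `mixed10_of` : `Mixed K p` from it, also with the factor 10.
-/

set_option autoImplicit false
set_option linter.unusedSectionVars false

namespace Cfsg.Agent.H962.FC

open CoxeterSystem Cfsg.Agent.ChevalleyStructure.CoxeterGeom Cfsg.Agent.Tits.Roots Cfsg.Agent.Tits.Core
  Cfsg.Agent.Tits.Exchange Cfsg.Agent.Nodes.Reps Cfsg.Agent.Nodes.BNOf Cfsg.Agent.Nodes.StabComb
  Cfsg.Agent.Nodes.Bruhat Cfsg.Agent.Nodes.OppDec Cfsg.Agent.Nodes.LeviDec Cfsg.Agent.Nodes.NormX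
  Cfsg.Agent.Nodes.Coroot Cfsg.Agent.Nodes.RGDChev Cfsg.Agent.KFacts.RgdPar Cfsg.Agent.KFacts.RgdTI
  Cfsg.Agent.KFacts.RgdCent Cfsg.Agent.KFacts.RgdChevCoord Cfsg.Agent.Nodes.ChevCls
  Cfsg.Agent.OddHalf.NI.ModelChev Cfsg.Agent.H225.PPow
open Cfsg.Lie Cfsg.Agent.ChevalleyStructure Cfsg.Agent.ChevalleyStructure.Elts
  Cfsg.Agent.ChevalleyStructure.RootVec Cfsg.Agent.ChevalleyStructure.NPerm
  Cfsg.Agent.ChevalleyStructure.CoxeterGeomTypes
open Cfsg.Agent.H701.F43.Cent (hF cF comm_theta cent mem_NotJ mem_RootsJ VV MM isRoot_theta)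
open Cfsg.Agent.H520.FC
open Cfsg.Agent.H374.TC.Cu (C16)

universe u

/-! ### groups -/

section grp

variable {G : Type*} [Group G]

/-- commuting elements of coprime orders are powers of their product -/
theorem centralizer_mul_le [Finite G] {u s : G} (h : u * s = s * u) (hc : (orderOf u).Coprime (orderOf s)) :
    Subgroup.centralizer ({u * s} : Set G) ≤ Subgroup.centralizer {u} ⊓ Subgroup.centralizer {s} := by
  have hcm : Commute u s := h
  have key : ∀ {a b : G}, Commute a b → (orderOf a).Coprime (orderOf b) → ∃ k : ℕ, (a * b) ^ k = a := by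
    intro a b hab hcop
    obtain ⟨k, h1, h2⟩ := Nat.chineseRemainder hcop 1 0
    refine ⟨k, ?_⟩
    rw [hab.mul_pow]
    have h3 : a ^ k = a := by
      conv_rhs => rw [← pow_one a]
      exact pow_eq_pow_iff_modEq.2 h1
    have h4 : b ^ k = 1 := by
      rw [← pow_zero b]
      exact pow_eq_pow_iff_modEq.2 h2
    rw [h3, h4, mul_one]
  intro g hg
  rw [Subgroup.mem_centralizer_singleton_iff] at hg
  have hg' : Commute g (u * s) := hg
  obtain ⟨k, hk⟩ := key hcm hc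
  obtain ⟨l, hl⟩ := key hcm.symm hc.symm
  rw [Subgroup.mem_inf, Subgroup.mem_centralizer_singleton_iff, Subgroup.mem_centralizer_singleton_iff]
  constructor
  · have := hg'.pow_right k
    rwa [hk] at this
  · have h5 : s * u = u * s := h.symm
    rw [h5] at hl
    have := hg'.pow_right l
    rwa [hl] at this

/-- the order of a group whose `p`-subgroups have order at most `B` -/
theorem card_le_of_p [Finite G] {p a B M : ℕ} [hp : Fact p.Prime] (H : Subgroup G) (hd : Nat.card ↥H ∣ p ^ a * M)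
    (hM : 0 < M) (hB : ∀ R : Subgroup G, R ≤ H → IsPGroup p ↥R → Nat.card ↥R ≤ B) :
    Nat.card ↥H ≤ B * M := by
  obtain ⟨Q⟩ : Nonempty (Sylow p ↥H) := inferInstance
  have h1 : Nat.card ↥((Q : Subgroup ↥H).map H.subtype) = Nat.card ↥(Q : Subgroup ↥H) :=
    Nat.card_congr ((Q : Subgroup ↥H).equivMapOfInjective H.subtype H.subtype_injective).symm.toEquiv
  have h2 := hB _ (Subgroup.map_subtype_le _) (Q.isPGroup'.map H.subtype)
  rw [h1] at h2
  have h3 : Nat.card ↥(Q : Subgroup ↥H) * (Q : Subgroup ↥H).index = Nat.card ↥H := Subgroup.card_mul_index _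
  have h4 : ((Q : Subgroup ↥H).index).Coprime (p ^ a) := by
    refine Nat.Coprime.pow_right a ?_
    rw [Nat.coprime_comm, hp.out.coprime_iff_not_dvd]
    exact Q.not_dvd_index
  have h5 : (Q : Subgroup ↥H).index ∣ M :=
    h4.dvd_of_dvd_mul_left ((Dvd.intro_left _ h3).trans hd)
  rw [← h3]
  exact Nat.mul_le_mul h2 (Nat.le_of_dvd hM h5)

end grp

variable {K : Type u} [Field K] [Finite K]

/-- the group `U` -/
abbrev UU (K : Type u) [Field K] : Subgroup ↥(chevF4.group K) :=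
  RGD.Sup (XX chevF4 4 K) (RGD.Pos cF hF.isCartan)

theorem UU_le (p : ℕ) [Fact p.Prime] [CharP K p] : UU K ≤ VV K ⊔ MM K := by
  refine RGD.Sup_le fun x hx => ?_
  have h3 : 0 ≤ x 3 := hx.2 3
  rcases h3.lt_or_eq with h4 | h4
  · exact le_trans (RGD.le_Sup (mem_NotJ.2 ⟨hx.1, h4⟩)) le_sup_left
  · exact le_trans (RGD.le_Sup (mem_RootsJ.2 ⟨hx.1, h4.symm⟩)) le_sup_right

theorem UU_le_cent (p : ℕ) [Fact p.Prime] [CharP K p] {u : ↥(chevF4.group K)} (hu : u ∈ XT K) :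
    UU K ≤ Subgroup.centralizer {u} := by
  intro g hg
  rw [Subgroup.mem_centralizer_singleton_iff]
  exact comm_theta (UU_le p hg) hu

theorem cent_le (p : ℕ) [Fact p.Prime] [CharP K p] {u : ↥(chevF4.group K)} (hu1 : u ≠ 1) (hu : u ∈ XT K) :
    Subgroup.centralizer {u} ≤ PK K {k | k ≠ 3} := by
  intro g hg
  rw [Subgroup.mem_centralizer_singleton_iff] at hg
  have C := (coords (K := K) hF cF p).coord _ isRoot_theta
  obtain ⟨c, rfl⟩ := (C.mem _).1 hu
  have hc0 : c ≠ 0 := by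
    rintro rfl
    exact hu1 C.zero
  obtain ⟨v, hv, m, hm, rfl⟩ := cent hc0 hg
  have h2 : MM K ≤ PK K {k | k ≠ 3} := by
    refine RGD.Sup_le fun x hx => ?_
    exact le_trans (X_le_LJ hx) LJ_le_PJ
  exact mul_mem (VJ_le_PJ hv) (h2 hm)

/-- the prime to `p` part of the order of the parabolic -/
def MP (q : ℕ) : ℕ := ((1 + q) * ((1 + q) * (1 + q ^ 2)) * ((1 + q + q ^ 2) * (1 + q ^ 3))) * (q - 1) ^ 4

theorem card_PK : Nat.card ↥(PK K {k | k ≠ 3}) = Nat.card K ^ 24 * MP (Nat.card K) := by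
  rw [H744.FC.card_ne3, MP]
  ring

theorem MP_coprime (p : ℕ) [hp : Fact p.Prime] [CharP K p] : ¬ p ∣ MP (Nat.card K) := by
  obtain ⟨n, hn0, hn⟩ : ∃ n, n ≠ 0 ∧ Nat.card K = p ^ n := by
    have := Fintype.ofFinite K
    obtain ⟨n, -, h⟩ := FiniteField.card K p
    exact ⟨n, n.2.ne', by rw [Nat.card_eq_fintype_card]; exact h⟩
  have hd : p ∣ Nat.card K := by
    rw [hn]
    exact dvd_pow_self p hn0
  have hpos : 0 < Nat.card K := Nat.card_pos
  have h1 : ∀ k : ℕ, ¬ p ∣ 1 + Nat.card K * k := by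
    intro k h
    have h2 : p ∣ 1 := (Nat.dvd_add_left (hd.mul_right k)).1 h
    exact hp.out.one_lt.ne' (Nat.dvd_one.1 h2)
  have h2 : ¬ p ∣ Nat.card K - 1 := by
    intro h
    have h3 : p ∣ 1 := by
      have h4 := Nat.dvd_sub hd h
      have h5 : Nat.card K - (Nat.card K - 1) = 1 := by omega
      rwa [h5] at h4
    exact hp.out.one_lt.ne' (Nat.dvd_one.1 h3)
  have e1 : (1 + Nat.card K) = 1 + Nat.card K * 1 := by ring
  have e2 : (1 + Nat.card K ^ 2) = 1 + Nat.card K * Nat.card K := by ring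
  have e3 : (1 + Nat.card K + Nat.card K ^ 2) = 1 + Nat.card K * (1 + Nat.card K) := by ring
  have e4 : (1 + Nat.card K ^ 3) = 1 + Nat.card K * (Nat.card K ^ 2) := by ring
  intro h
  rw [MP] at h
  rcases (hp.out.dvd_mul).1 h with h | h
  · rcases (hp.out.dvd_mul).1 h with h | h
    · rcases (hp.out.dvd_mul).1 h with h | h
      · rw [e1] at h; exact h1 _ h
      · rcases (hp.out.dvd_mul).1 h with h | h
        · rw [e1] at h; exact h1 _ h
        · rw [e2] at h; exact h1 _ h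
    · rcases (hp.out.dvd_mul).1 h with h | h
      · rw [e3] at h; exact h1 _ h
      · rw [e4] at h; exact h1 _ h
  · exact h2 (hp.out.dvd_of_dvd_pow h)

/-- a `p`-subgroup of the centraliser of `u s` has order at most `q^16` -/
theorem card_p_le (p : ℕ) [hp : Fact p.Prime] [CharP K p] (h16 : C16 K) {u s : ↥(chevF4.group K)} (hus : u * s = s * u)
    (hu1 : u ≠ 1) (hu : u ∈ XT K) (hs1 : s ≠ 1) (hs : (orderOf s).Coprime p) {R : Subgroup ↥(chevF4.group K)}
    (hRp : IsPGroup p ↥R) (hRu : R ≤ Subgroup.centralizer {u}) (hRs : R ≤ Subgroup.centralizer {s}) :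
    Nat.card ↥R ≤ Nat.card K ^ 16 := by
  have : Finite ↥(chevF4.group K) := inferInstance
  have RR := rgd (K := K) hF cF p
  have hUp : IsPGroup p ↥(UU K) := RR.isPGroup_of_pos fun _ hx => hx
  have hUu := UU_le_cent p hu
  -- `U` is a Sylow subgroup of `C(u)`
  have hidx : ¬ p ∣ (UU K).relIndex (Subgroup.centralizer {u}) := by
    intro hd
    apply MP_coprime (K := K) p
    have h1 : (UU K).relIndex (Subgroup.centralizer {u}) ∣ MP (Nat.card K) := by
      have h2 : Nat.card ↥(UU K) * (UU K).relIndex (Subgroup.centralizer {u}) =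
          Nat.card ↥(Subgroup.centralizer ({u} : Set ↥(chevF4.group K))) := by
        have h5 := Subgroup.relIndex_mul_relIndex (⊥ : Subgroup ↥(chevF4.group K)) (UU K) _ bot_le hUu
        rwa [Subgroup.relIndex_bot_left, Subgroup.relIndex_bot_left] at h5
      have h3 : Nat.card ↥(Subgroup.centralizer ({u} : Set ↥(chevF4.group K))) ∣ Nat.card K ^ 24 * MP (Nat.card K) := by
        rw [← card_PK]
        exact Subgroup.card_dvd_of_le (cent_le p hu1 hu)
      rw [← h2, H744.FC.card_U] at h3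
      exact Nat.dvd_of_mul_dvd_mul_left (pow_pos Nat.card_pos 24) h3
    exact hd.trans h1
  obtain ⟨c, hc, hcR⟩ := Lib.GoldschmidtFusion.exists_conj_le_in hUp hidx hRu hRp
  rw [Subgroup.mem_centralizer_singleton_iff] at hc
  have hcu : c * u * c⁻¹ = u := by rw [hc, mul_inv_cancel_right]
  -- the conjugate of `s`
  have hs2 : c * s * c⁻¹ ∉ UU K := by
    intro h
    apply hs1
    have h3 : c * s * c⁻¹ = 1 := by
      refine eq_one_of_isPGroup (k := orderOf s) hUp h ?_ hs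
      rw [conj_pow, pow_orderOf_eq_one, mul_one, mul_inv_cancel]
    have h4 : s = c⁻¹ * (c * s * c⁻¹) * c := by group
    rw [h4, h3]
    group
  have hcs : u * (c * s * c⁻¹) = c * s * c⁻¹ * u := by
    have h3 : u * (c * s * c⁻¹) = c * u * c⁻¹ * (c * s * c⁻¹) := by rw [hcu]
    have h4 : c * s * c⁻¹ * u = c * s * c⁻¹ * (c * u * c⁻¹) := by rw [hcu]
    rw [h3, h4]
    have h5 : c * u * c⁻¹ * (c * s * c⁻¹) = c * (u * s) * c⁻¹ := by group
    have h6 : c * s * c⁻¹ * (c * u * c⁻¹) = c * (s * u) * c⁻¹ := by group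
    rw [h5, h6, hus]
  have h7 := h16 (c * s * c⁻¹) u hu1 hu hcs hs2
  have h8 : R.map (MulAut.conj c).toMonoidHom ≤ UU K ⊓ Subgroup.centralizer {c * s * c⁻¹} := by
    refine le_inf hcR ?_
    rintro _ ⟨r, hr, rfl⟩
    have h9 := hRs hr
    rw [Subgroup.mem_centralizer_singleton_iff] at h9 ⊢
    show c * r * c⁻¹ * (c * s * c⁻¹) = c * s * c⁻¹ * (c * r * c⁻¹)
    have h5 : c * r * c⁻¹ * (c * s * c⁻¹) = c * (r * s) * c⁻¹ := by group
    have h6 : c * s * c⁻¹ * (c * r * c⁻¹) = c * (s * r) * c⁻¹ := by group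
    rw [h5, h6, h9]
  have h10 : Nat.card ↥(R.map (MulAut.conj c).toMonoidHom) = Nat.card ↥R :=
    Nat.card_congr (R.equivMapOfInjective (MulAut.conj c).toMonoidHom (MulAut.conj c).injective).symm.toEquiv
  rw [← h10]
  exact (Subgroup.card_le_of_le h8).trans h7

theorem card_mixed (p : ℕ) [hp : Fact p.Prime] [CharP K p] (h16 : C16 K) {u s : ↥(chevF4.group K)}
    (hus : u * s = s * u) (hu1 : u ≠ 1) (hu : u ∈ XT K) (hs1 : s ≠ 1) (hs : (orderOf s).Coprime p) :
    Nat.card ↥(Subgroup.centralizer ({u * s} : Set ↥(chevF4.group K))) ≤ Nat.card K ^ 16 * MP (Nat.card K) := by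
  have : Finite ↥(chevF4.group K) := inferInstance
  obtain ⟨a, ha⟩ : ∃ a, Nat.card K ^ 24 = p ^ a := by
    have := Fintype.ofFinite K
    obtain ⟨n, -, h⟩ := FiniteField.card K p
    exact ⟨n * 24, by rw [Nat.card_eq_fintype_card, h, pow_mul]⟩
  have hcop : (orderOf u).Coprime (orderOf s) := by
    have h1 : u ^ p = 1 := by
      have C := (coords (K := K) hF cF p).coord _ isRoot_theta
      obtain ⟨c, rfl⟩ := (C.mem _).1 hu
      have key : ∀ k : ℕ, (xc hF (vec chevF4 4 47) c) ^ k = (xc hF (vec chevF4 4 47) ((k : K) * c) : ↥(chevF4.group K)) := by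
        intro k
        induction k with
        | zero => rw [pow_zero, Nat.cast_zero, zero_mul, C.zero]
        | succ k ih => rw [pow_succ, ih, Nat.cast_succ, add_mul, one_mul, C.add]
      rw [key, CharP.cast_eq_zero, zero_mul, C.zero]
    exact (Nat.Coprime.coprime_dvd_right (orderOf_dvd_of_pow_eq_one h1) hs).symm
  have hle := centralizer_mul_le hus hcop
  refine card_le_of_p (p := p) (a := a) _ ?_ ?_ ?_
  · rw [← ha, ← card_PK]
    exact Subgroup.card_dvd_of_le (le_trans (le_trans hle inf_le_left) (cent_le p hu1 hu))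
  · exact Nat.pos_of_ne_zero fun h => MP_coprime (K := K) p (by rw [h]; exact dvd_zero p)
  · intro R hR hRp
    have hR' := le_trans hR hle
    exact card_p_le p h16 hus hu1 hu hs1 hs hRp (le_trans hR' inf_le_left) (le_trans hR' inf_le_right)

/-- **The mixed elements, with the factor 10.** -/
theorem mixed10_of {p : ℕ} [hp : Fact p.Prime] [CharP K p] (hq : Nat.card K = 5 ∨ Nat.card K = 7 ∨ Nat.card K = 17)
    (h16 : C16 K) : ∀ u s : ↥(chevF4.group K), u * s = s * u → u ≠ 1 → u ∈ XT K → s ≠ 1 → (orderOf s).Coprime p →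
      10 * Nat.card ↥(Subgroup.centralizer ({u * s} : Set ↥(chevF4.group K))) < d2 (Nat.card K) ^ 2 := by
  intro u s hus hu1 hu hs1 hs
  have h1 := card_mixed p h16 hus hu1 hu hs1 hs
  refine lt_of_le_of_lt (Nat.mul_le_mul_left 10 h1) ?_
  rcases hq with h | h | h <;> rw [h, MP, d2] <;> norm_num

end Cfsg.Agent.H962.FC
end

-- part: H374/TC/CuGen
section
/-!
# Fixed points of an element outside `U` on `U` (helper374, S2464, `F₄(q)`)

`R` a root group datum, `f` a functional which is nonnegative on the positive roots, `Sf f` the roots with `1 ≤ f`.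

* `mem_PW` : `U ∩ k⁻¹ U k`;
* `mem_two` : `a ∈ Sup X S`, `k a k⁻¹ ∈ Sup X S` implies `a ∈ Sup X {x ∈ S | w x ∈ S}`;
* `B_nrm` : `B` normalises `Sup X (Sf f)`;
* `card_step` : `|Sup X S ∩ C| ≤ |X x| |Sup X S' ∩ C|`;
* `le_of_rep` : `s = b k`, `w x ∉ S` : the element `x` is not used;
* `le_of_tor` : the same for `s = t v`.
-/

set_option autoImplicit false
set_option linter.unusedSectionVars false

namespace Cfsg.Agent.H374.TC.Cu

open CoxeterSystem Cfsg.Agent.ChevalleyStructure.CoxeterGeom Cfsg.Agent.Tits.Roots Cfsg.Agent.Tits.Core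
  Cfsg.Agent.Tits.RootComb Cfsg.Agent.Nodes.Comb Cfsg.Agent.Nodes.Reps Cfsg.Agent.Nodes.BNOf
  Cfsg.Agent.Nodes.StabComb Cfsg.Agent.Nodes.Bruhat Cfsg.Agent.Nodes.OppDec Cfsg.Agent.Nodes.LeviDec
  Cfsg.Agent.Nodes.NormalForm Cfsg.Agent.Nodes.Unique Cfsg.Agent.KFacts.RgdPar
  Cfsg.Agent.KFacts.RgdBorelTits Cfsg.Agent.KFacts.RgdFilt
open scoped commutatorElement

variable {I W Y : Type*} [Fintype I] [DecidableEq I] [Group W] [Group Y] {M : CoxeterMatrix I}
  {cs : CoxeterSystem M W} {A : I → I → ℤ} {h : IsCartan M A} {p : ℕ} {T : Subgroup Y} {n : I → Y}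
  {X : (I → ℤ) → Subgroup Y} (R : RGD cs h p T n X)

include R

/-- `U ∩ k⁻¹ U k` -/
theorem mem_PW [Finite W] {w : W} {k : Y} (hk : Rp cs R.nsys w k) {r : Y} (hr : r ∈ RGD.Sup X (RGD.Pos cs h))
    (hkr : k * r * k⁻¹ ∈ RGD.Sup X (RGD.Pos cs h)) : r ∈ RGD.Sup X (PW cs h w) := by
  obtain ⟨b, hb, c, hc, rfl⟩ := exists_PW_NW R w hr
  have hb' : k * b * k⁻¹ ∈ RGD.Sup X (RGD.Pos cs h) :=
    conj_mem_Sup R hk (S' := RGD.Pos cs h) (fun x hx => hx.1) (fun x hx => ⟨hx.1.act _, hx.2.2⟩) hb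
  have hc' : k * c * k⁻¹ ∈ RGD.Sup X (RGD.Pos cs h) := by
    have e : k * c * k⁻¹ = (k * b * k⁻¹)⁻¹ * (k * (b * c) * k⁻¹) := by group
    rw [e]
    exact mul_mem (inv_mem hb') hkr
  have hc'' : k * c * k⁻¹ ∈ UN cs h X :=
    conj_mem_Sup R hk (S' := _root_.Cfsg.Agent.Nodes.OppDec.Neg cs h) (fun x hx => hx.1) (fun x hx => ⟨hx.1.act _, hx.2.2⟩) hc
  have h1 : k * c * k⁻¹ ∈ RGD.Sup X (RGD.Pos cs h) ⊓ UN cs h X := ⟨hc', hc''⟩
  rw [U_inf_UN R, Subgroup.mem_bot] at h1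
  have h2 : c = 1 := by
    have e : c = k⁻¹ * (k * c * k⁻¹) * k := by group
    rw [e, h1]; group
  rw [h2, mul_one]
  exact hb

omit R in
theorem closed_PW (w : W) : Closed cs h (PW cs h w) := by
  have e : PW cs h w = Fut cs h w⁻¹ := by
    ext x
    show _ ↔ IsRoot cs h x ∧ 0 ≤ x ∧ 0 ≤ rep cs h w⁻¹⁻¹ x
    rw [inv_inv]
    exact Iff.rfl
  rw [e]
  exact closed_fut _

/-- two memberships -/
theorem mem_two [Finite W] {w : W} {k : Y} (hk : Rp cs R.nsys w k) {S : Set (I → ℤ)} (hS : S ⊆ RGD.Pos cs h)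
    (hc : Closed cs h S) {r : Y} (hr : r ∈ RGD.Sup X S) (hkr : k * r * k⁻¹ ∈ RGD.Sup X S) :
    r ∈ RGD.Sup X {x | x ∈ S ∧ rep cs h w x ∈ S} := by
  have h1 := mem_PW R hk (RGD.Sup_mono hS hr) (RGD.Sup_mono hS hkr)
  have hPW : PW cs h w ⊆ RGD.Pos cs h := fun x hx => ⟨hx.1, hx.2.1⟩
  have h2 : r ∈ RGD.Sup X (S ∩ PW cs h w) := by
    rw [← inf_eq R hS hPW hc (closed_PW w)]
    exact ⟨hr, h1⟩
  set S2 : Set (I → ℤ) := {y | rep cs h w⁻¹ y ∈ S ∩ PW cs h w} with hS2
  have hS2P : S2 ⊆ RGD.Pos cs h := by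
    intro y hy
    have h3 : rep cs h w⁻¹ y ∈ PW cs h w := hy.2
    refine ⟨?_, ?_⟩
    · have h4 := h3.1.act w
      rwa [rep_apply_inv] at h4
    · have h4 := h3.2.2
      rwa [rep_apply_inv] at h4
  have hc2 : Closed cs h S2 := Cfsg.Agent.KFacts.RgdInd.closed_act (hc.inter (closed_PW w)) w⁻¹
  have h3 : k * r * k⁻¹ ∈ RGD.Sup X S2 := by
    refine conj_mem_Sup R hk (fun x hx => (hS hx.1).1) (fun x hx => ?_) h2
    show rep cs h w⁻¹ (rep cs h w x) ∈ S ∩ PW cs h w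
    rw [rep_inv_apply]
    exact hx
  have h4 : k * r * k⁻¹ ∈ RGD.Sup X (S ∩ S2) := by
    rw [← inf_eq R hS hS2P hc hc2]
    exact ⟨hkr, h3⟩
  have h5 : k⁻¹ * (k * r * k⁻¹) * k ∈ RGD.Sup X {x | x ∈ S ∧ rep cs h w x ∈ S} := by
    refine conj_mem_Sup' R hk (fun x hx => (hS hx.1).1) (fun x hx => ?_) h4
    refine ⟨hx.2.1, ?_⟩
    rw [rep_apply_inv]
    exact hx.1
  have e : k⁻¹ * (k * r * k⁻¹) * k = r := by group
  rwa [e] at h5

omit R in
/-- the roots with `1 ≤ f` -/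
def Sf (cs : CoxeterSystem M W) (h : IsCartan M A) (f : I → ℝ) : Set (I → ℤ) := {x | IsRoot cs h x ∧ 1 ≤ ev f x}

omit R in
theorem VV_F2 (f : I → ℝ) : VV cs h (F2 X X) f = RGD.Sup X (Sf cs h f) := by
  apply le_antisymm
  · refine FS_le fun z hz => ?_
    by_cases h1 : 1 ≤ ev f z
    · show F2 X X z (ev f z) ≤ _
      rw [F2_self h1]
      exact RGD.le_Sup (S := Sf cs h f) ⟨hz, h1⟩
    · show F2 X X z (ev f z) ≤ _
      rw [F2_zero (not_le.1 h1)]
      exact bot_le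
  · refine RGD.Sup_le fun z hz => ?_
    have h1 := le_FS (G := fun z => F2 X X z (ev f z)) (S := {z | IsRoot cs h z}) hz.1
    have h2 : F2 X X z (ev f z) = X z := F2_self hz.2
    calc X z = F2 X X z (ev f z) := h2.symm
      _ ≤ _ := h1

/-- `B` normalises `Sup X (Sf f)` -/
theorem B_nrm (hFi : Filt R (F2 X X)) {f : I → ℝ} (hf : ∀ x ∈ RGD.Pos cs h, 0 ≤ ev f x) :
    RGD.B cs h T X ≤ Subgroup.normalizer (RGD.Sup X (Sf cs h f) : Set Y) := by
  rw [← VV_F2]
  refine le_trans ?_ (Pf_le_normalizer hFi f)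
  refine sup_le le_sup_left (le_trans ?_ le_sup_right)
  exact RGD.Sup_mono fun x hx => ⟨hx.1, hf x hx⟩

omit R in
theorem conj_nrm {N : Subgroup Y} {b a : Y} (hb : b ∈ Subgroup.normalizer (N : Set Y)) (ha : a ∈ N) :
    b⁻¹ * a * b ∈ N := by
  have h1 := (Subgroup.mem_normalizer_iff.1 (inv_mem hb) a).1 ha
  rwa [inv_inv] at h1

/-- `s = b k` : the root `x` with `w x ∉ S` is not used -/
theorem le_of_rep [Finite W] {w : W} {k b s : Y} (hk : Rp cs R.nsys w k) (hs : s = b * k) {S S' : Set (I → ℤ)}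
    (hS : S ⊆ RGD.Pos cs h) (hc : Closed cs h S) (hb : b ∈ Subgroup.normalizer (RGD.Sup X S : Set Y)) {x : I → ℤ}
    (hSS : ∀ y ∈ S, y = x ∨ y ∈ S') (hx : rep cs h w x ∉ S) :
    RGD.Sup X S ⊓ Subgroup.centralizer {s} ≤ RGD.Sup X S' ⊓ Subgroup.centralizer {s} := by
  rintro a ⟨ha, hac⟩
  refine ⟨?_, hac⟩
  have h1 : a * s = s * a := Subgroup.mem_centralizer_singleton_iff.1 hac
  have h2 : k * a * k⁻¹ = b⁻¹ * a * b := by
    have h3 : b * k * a = a * (b * k) := by rw [← hs, h1]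
    calc k * a * k⁻¹ = b⁻¹ * (b * k * a) * k⁻¹ := by group
      _ = b⁻¹ * a * b := by rw [h3]; group
  have h3 : k * a * k⁻¹ ∈ RGD.Sup X S := by
    rw [h2]
    exact conj_nrm hb ha
  have h4 := mem_two R hk hS hc ha h3
  refine RGD.Sup_mono (fun y hy => ?_) h4
  rcases hSS y hy.1 with rfl | h5
  · exact absurd hy.2 hx
  · exact h5

omit R in
/-- the number of elements -/
theorem card_step [Finite Y] {A B : Subgroup Y} (C : Subgroup Y) (hBA : B ≤ A) :
    Nat.card ↥(A ⊓ C) ≤ B.relIndex A * Nat.card ↥(B ⊓ C) := by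
  have e : B ⊓ C = B ⊓ (A ⊓ C) := by
    rw [← inf_assoc, inf_eq_left.2 hBA]
  have h0 : B.relIndex A ≠ 0 := by
    have h1 : (B.subgroupOf A).FiniteIndex := inferInstance
    exact h1.index_ne_zero
  have h1 : (B ⊓ (A ⊓ C)).relIndex (A ⊓ C) = B.relIndex (A ⊓ C) := Subgroup.inf_relIndex_right _ _
  have h2 : B.relIndex (A ⊓ C) ≤ B.relIndex A := Subgroup.relIndex_le_of_le_right inf_le_left h0
  have h3 : Nat.card ↥(B ⊓ (A ⊓ C)) * (B ⊓ (A ⊓ C)).relIndex (A ⊓ C) = Nat.card ↥(A ⊓ C) := by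
    rw [← Subgroup.relIndex_bot_left, ← Subgroup.relIndex_bot_left (A ⊓ C)]
    exact Subgroup.relIndex_mul_relIndex _ _ _ bot_le inf_le_right
  rw [e, ← h3, h1, mul_comm]
  exact Nat.mul_le_mul_right _ h2

omit R in
theorem Sup_singleton (x : I → ℤ) : RGD.Sup X {x} = X x := by
  apply le_antisymm
  · refine RGD.Sup_le fun z hz => ?_
    rw [Set.mem_singleton_iff.1 hz]
  · exact RGD.le_Sup (Set.mem_singleton x)

theorem X_inf_N [Finite W] {x : I → ℤ} (hx : x ∈ RGD.Pos cs h) {S' : Set (I → ℤ)} (hS' : S' ⊆ RGD.Pos cs h)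
    (hc' : Closed cs h S') (hxS : x ∉ S') {u : Y} (hu : u ∈ X x) (hu' : u ∈ RGD.Sup X S') : u = 1 := by
  have h1 := inf_eq R (S := {x}) (S' := S') (by rintro _ rfl; exact hx) hS'
    (Cfsg.Agent.KFacts.RgdInd.closed_singleton hx.1) hc'
  have h2 : ({x} : Set (I → ℤ)) ∩ S' = ∅ := by
    rw [Set.eq_empty_iff_forall_notMem]
    rintro y ⟨hy, hy'⟩
    rw [Set.mem_singleton_iff.1 hy] at hy'
    exact hxS hy'
  rw [h2, Sup_empty] at h1
  have h3 : u ∈ RGD.Sup X {x} ⊓ RGD.Sup X S' := ⟨by rw [Sup_singleton]; exact hu, hu'⟩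
  rw [h1, Subgroup.mem_bot] at h3
  exact h3

/-- `[U, X x] ≤ Sup X (Sf f \ {x})` -/
theorem comm_N (hFi : Filt R (F2 X X)) {f : I → ℝ} (hf : ∀ x ∈ RGD.Pos cs h, 0 ≤ ev f x) {x : I → ℤ}
    (hx : x ∈ RGD.Pos cs h) (hxS : x ∈ Sf cs h f) (hab : ∀ u ∈ X x, ∀ v ∈ X x, u * v = v * u)
    (hn : RGD.B cs h T X ≤ Subgroup.normalizer (RGD.Sup X (Sf cs h f \ {x}) : Set Y)) {u v : Y} (hu : u ∈ X x)
    (hv : v ∈ RGD.Sup X (RGD.Pos cs h)) : v * u * v⁻¹ * u⁻¹ ∈ RGD.Sup X (Sf cs h f \ {x}) := by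
  set N := RGD.Sup X (Sf cs h f \ {x}) with hN
  have key : ∀ v ∈ RGD.Sup X (RGD.Pos cs h), ∀ u ∈ X x, v * u * v⁻¹ * u⁻¹ ∈ N := by
    intro v hv
    unfold RGD.Sup at hv
    have hmem : v ∈ RGD.B cs h T X := RGD.U_le_B (by unfold RGD.Sup; exact hv)
    let K : Subgroup Y :=
      { carrier := {v | v ∈ RGD.B cs h T X ∧ ∀ u ∈ X x, v * u * v⁻¹ * u⁻¹ ∈ N}
        one_mem' := ⟨one_mem _, fun u _ => by
          have e : (1 : Y) * u * 1⁻¹ * u⁻¹ = 1 := by group
          rw [e]; exact one_mem _⟩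
        mul_mem' := by
          rintro a b ⟨ha, ha'⟩ ⟨hb, hb'⟩
          refine ⟨mul_mem ha hb, fun u hu => ?_⟩
          have e : a * b * u * (a * b)⁻¹ * u⁻¹ = (a * (b * u * b⁻¹ * u⁻¹) * a⁻¹) * (a * u * a⁻¹ * u⁻¹) := by group
          rw [e]
          exact mul_mem ((Subgroup.mem_normalizer_iff.1 (hn ha) _).1 (hb' u hu)) (ha' u hu)
        inv_mem' := by
          rintro a ⟨ha, ha'⟩
          refine ⟨inv_mem ha, fun u hu => ?_⟩
          have e : a⁻¹ * u * a⁻¹⁻¹ * u⁻¹ = a⁻¹ * (a * u * a⁻¹ * u⁻¹)⁻¹ * a := by group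
          rw [e]
          exact conj_nrm (hn ha) (inv_mem (ha' u hu)) }
    have hle : RGD.Sup X (RGD.Pos cs h) ≤ K := by
      refine RGD.Sup_le fun y hy v hv => ?_
      refine ⟨RGD.X_le_B hy.1 hy.2 hv, fun u hu => ?_⟩
      by_cases hyx : y = x
      · subst hyx
        have e : v * u * v⁻¹ * u⁻¹ = 1 := by
          rw [hab v hv u hu]; group
        rw [e]; exact one_mem _
      · have hne : x ≠ -y := by
          intro e
          have h1 : x ≤ 0 := by rw [e]; exact neg_nonpos.2 hy.2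
          exact hx.1.ne_zero (le_antisymm h1 hx.2)
        have h1 := hFi.comm f x y hxS.1 hy.1 (fun e => hyx e.symm) hne (lt_of_lt_of_le one_pos hxS.2) (hf y hy) u
          (by rw [F2_self hxS.2]; exact hu) v hv
        have h2 : FS (fun z => F2 X X z (ev f z)) {z | Btwn cs h x y z} ≤ N := by
          refine FS_le fun z hz => ?_
          by_cases h3 : 1 ≤ ev f z
          · show F2 X X z (ev f z) ≤ _
            rw [F2_self h3]
            refine RGD.le_Sup (S := Sf cs h f \ {x}) ⟨⟨hz.1, h3⟩, ?_⟩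
            intro e
            exact btwn_ne_left hx.1 hy.1 hx.2 hy.2 (fun e => hyx e.symm) hz (Set.mem_singleton_iff.1 e)
          · show F2 X X z (ev f z) ≤ _
            rw [F2_zero (not_le.1 h3)]
            exact bot_le
        have e : v * u * v⁻¹ * u⁻¹ = ⁅u, v⁆⁻¹ := by
          rw [commutatorElement_def]; group
        rw [e]
        exact inv_mem (h2 h1)
    exact (hle hv).2
  exact key v hv u hu

/-- `s = t v` : the root `x` is not used if `t` has no fixed points on `X x` -/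
theorem le_of_tor [Finite W] (hFi : Filt R (F2 X X)) {f : I → ℝ} (hf : ∀ x ∈ RGD.Pos cs h, 0 ≤ ev f x)
    (hS : Sf cs h f ⊆ RGD.Pos cs h) (hc : Closed cs h (Sf cs h f)) {x : I → ℤ} (hxS : x ∈ Sf cs h f)
    (hc' : Closed cs h (Sf cs h f \ {x})) (hab : ∀ u ∈ X x, ∀ v ∈ X x, u * v = v * u)
    (hn : RGD.B cs h T X ≤ Subgroup.normalizer (RGD.Sup X (Sf cs h f \ {x}) : Set Y)) {t v s : Y} (ht : t ∈ T)
    (hv : v ∈ RGD.Sup X (RGD.Pos cs h)) (hs : s = t * v) (hct : ∀ u ∈ X x, t * u = u * t → u = 1) :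
    RGD.Sup X (Sf cs h f) ⊓ Subgroup.centralizer {s} ≤ RGD.Sup X (Sf cs h f \ {x}) ⊓ Subgroup.centralizer {s} := by
  rintro a ⟨ha, hac⟩
  refine ⟨?_, hac⟩
  have h1 : a * s = s * a := Subgroup.mem_centralizer_singleton_iff.1 hac
  obtain ⟨u, hu, c, hc0, rfl⟩ := (mem_peel R hS hc hxS).1 ha
  set N := RGD.Sup X (Sf cs h f \ {x}) with hN
  have hvB : v ∈ RGD.B cs h T X := RGD.U_le_B hv
  have hxP := hS hxS
  have huB : u ∈ RGD.B cs h T X := RGD.X_le_B hxP.1 hxP.2 hu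
  have h2 : v * u * v⁻¹ * u⁻¹ ∈ N := comm_N R hFi hf hxP hxS hab hn hu hv
  have h3 : v * c * v⁻¹ ∈ N := (Subgroup.mem_normalizer_iff.1 (hn hvB) _).1 hc0
  have h4 : u⁻¹ * (v * u * v⁻¹ * u⁻¹) * u ∈ N := conj_nrm (hn huB) h2
  set c2 := u⁻¹ * (v * u * v⁻¹ * u⁻¹) * u * (v * c * v⁻¹) with hc2
  have h5 : c2 ∈ N := mul_mem h4 h3
  have htB : t ∈ RGD.B cs h T X := (le_sup_left : T ≤ RGD.B cs h T X) ht
  have h6 : t * c2 * t⁻¹ ∈ N := (Subgroup.mem_normalizer_iff.1 (hn htB) _).1 h5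
  have h7 : t * u * t⁻¹ ∈ X x := by
    have h8 : cj t (X x) = X x := R.tor x hxP.1 t ht
    rw [← h8]
    exact conj_mem_cj.2 hu
  have h8 : u * c = t * u * t⁻¹ * (t * c2 * t⁻¹) := by
    have e1 : u * c = s * (u * c) * s⁻¹ := by rw [← h1]; group
    calc u * c = s * (u * c) * s⁻¹ := e1
      _ = t * u * t⁻¹ * (t * c2 * t⁻¹) := by rw [hs, hc2]; group
  have h9 : (t * u * t⁻¹)⁻¹ * u = t * c2 * t⁻¹ * c⁻¹ := by
    have e1 : u = t * u * t⁻¹ * (t * c2 * t⁻¹) * c⁻¹ := by rw [← h8]; group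
    nth_rewrite 2 [e1]
    group
  have h10 : (t * u * t⁻¹)⁻¹ * u = 1 := by
    refine X_inf_N R hxP (fun y hy => hS hy.1) hc' (fun hy => hy.2 rfl) (mul_mem (inv_mem h7) hu) ?_
    rw [h9]
    exact mul_mem h6 (inv_mem hc0)
  have h11 : t * u * t⁻¹ = u := by
    have := inv_mul_eq_one.1 h10
    exact this
  have h12 : u = 1 := hct u hu (mul_inv_eq_iff_eq_mul.1 h11)
  rw [h12, one_mul]
  exact hc0

end Cfsg.Agent.H374.TC.Cu
end

-- part: H374/TC/CuTab
section
/-!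
# The chain of the groups `Sup X (SS m)` in `F₄(q)` (helper374)

`SS m` : the roots with numbers `m, …, 47` (`24 ≤ m`); the order of the numbers is the order of
`phi x = 1000 x₀ + 100 x₁ + 10 x₂ + x₃`.

* `Sf_eq` : `SS m = Sf (fm m)`; `closed_SS`; `B_nrm_SS`; `relIndex_SS`;
* `cn ω` : the number of `r ∈ 24, …, 47` with `w r ≥ r`; `cn_le` : at most 16 for `1 ≠ w ∈ W(C₃)`.
-/

set_option autoImplicit false
set_option linter.unusedSectionVars false

namespace Cfsg.Agent.H374.TC.Cu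

open CoxeterSystem Cfsg.Agent.ChevalleyStructure.CoxeterGeom Cfsg.Agent.Tits.Roots Cfsg.Agent.Tits.Core
  Cfsg.Agent.Tits.RootComb Cfsg.Agent.Nodes.Comb Cfsg.Agent.Nodes.Reps Cfsg.Agent.Nodes.BNOf
  Cfsg.Agent.Nodes.StabComb Cfsg.Agent.Nodes.Bruhat Cfsg.Agent.Nodes.OppDec Cfsg.Agent.Nodes.LeviDec
  Cfsg.Agent.Nodes.NormalForm Cfsg.Agent.Nodes.Unique Cfsg.Agent.Nodes.NormX Cfsg.Agent.Nodes.Coroot
  Cfsg.Agent.KFacts.RgdPar Cfsg.Agent.KFacts.RgdChevCoord
  Cfsg.Agent.KFacts.RgdBorelTits Cfsg.Agent.KFacts.RgdFilt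
open Cfsg.Agent.KFacts.RgdTI (cpr_rep_left)
open Cfsg.Lie Cfsg.Agent.ChevalleyStructure Cfsg.Agent.ChevalleyStructure.Elts
  Cfsg.Agent.ChevalleyStructure.RootVec Cfsg.Agent.ChevalleyStructure.RootVecTab
  Cfsg.Agent.ChevalleyStructure.NPerm Cfsg.Agent.ChevalleyStructure.CoxeterGeomTypes
open Cfsg.Agent.Nodes Cfsg.Agent.Nodes.RGDChev
open Cfsg.Agent.H701.F43.Cent (hF cF nroots finW)
open Cfsg.Agent.H520.FC

universe u

/-- the order of the roots -/
def phi (x : Fin 4 → ℤ) : ℤ := 1000 * x 0 + 100 * x 1 + 10 * x 2 + x 3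

theorem phi_tab : ∀ m < 48, ∀ r < 48, 24 ≤ m →
    (phi (vec chevF4 4 m) ≤ phi (vec chevF4 4 r) ↔ m ≤ r) := by decide +kernel

theorem phi_pos : ∀ m < 48, 24 ≤ m → 0 < phi (vec chevF4 4 m) := by decide +kernel

/-- the weights -/
def wt : Fin 4 → ℝ := ![1000, 100, 10, 1]

/-- the functional of the root `m` -/
noncomputable def fm (m : ℕ) : Fin 4 → ℝ := fun i => wt i / (phi (vec chevF4 4 m) : ℝ)

theorem ev_fm (m : ℕ) (x : Fin 4 → ℤ) : ev (fm m) x = (phi x : ℝ) / (phi (vec chevF4 4 m) : ℝ) := by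
  show ∑ i, (x i : ℝ) * (wt i / (phi (vec chevF4 4 m) : ℝ)) = _
  rw [Fin.sum_univ_four]
  show (x 0 : ℝ) * (1000 / _) + (x 1 : ℝ) * (100 / _) + (x 2 : ℝ) * (10 / _) + (x 3 : ℝ) * (1 / _) = _
  unfold phi
  push_cast
  ring

/-- the roots with numbers at least `m` -/
def SS (m : ℕ) : Set (Fin 4 → ℤ) := {x | ∃ r, m ≤ r ∧ r < 48 ∧ x = vec chevF4 4 r}

theorem root_cases {x : Fin 4 → ℤ} (hx : IsRoot cF hF.isCartan x) : ∃ r < 48, x = vec chevF4 4 r := by
  obtain ⟨r, hr, e⟩ := (isRoot_iff hF cF x).1 hx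
  rw [nroots] at hr
  exact ⟨r, hr, e.symm⟩

theorem root_vec {r : ℕ} (hr : r < 48) : IsRoot cF hF.isCartan (vec chevF4 4 r) :=
  (isRoot_iff hF cF _).2 ⟨r, by rw [nroots]; exact hr, rfl⟩

theorem vec_inj' {r s : ℕ} (hr : r < 48) (hs : s < 48) (e : vec chevF4 4 r = vec chevF4 4 s) : r = s :=
  vec_inj hF (r := r) (s := s) (by rw [nroots]; exact hr) (by rw [nroots]; exact hs) e

theorem Sf_eq {m : ℕ} (h24 : 24 ≤ m) (hm : m < 48) : Sf cF hF.isCartan (fm m) = SS m := by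
  have hp : (0 : ℝ) < (phi (vec chevF4 4 m) : ℝ) := by exact_mod_cast phi_pos m hm h24
  ext x
  constructor
  · rintro ⟨hx, h1⟩
    obtain ⟨r, hr, rfl⟩ := root_cases hx
    rw [ev_fm, one_le_div hp] at h1
    exact ⟨r, (phi_tab m hm r hr h24).1 (by exact_mod_cast h1), hr, rfl⟩
  · rintro ⟨r, hmr, hr, rfl⟩
    refine ⟨root_vec hr, ?_⟩
    rw [ev_fm, one_le_div hp]
    exact_mod_cast (phi_tab m hm r hr h24).2 hmr

theorem SS_pos {m : ℕ} (h24 : 24 ≤ m) : SS m ⊆ RGD.Pos cF hF.isCartan := by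
  rintro x ⟨r, hmr, hr, rfl⟩
  exact ⟨root_vec hr, (Cfsg.Agent.SigZero.FFourTwo.nonneg_iff hr).2 (le_trans h24 hmr)⟩

theorem SS_24 : SS 24 = RGD.Pos cF hF.isCartan := by
  refine Set.Subset.antisymm (SS_pos le_rfl) ?_
  rintro x ⟨hx, h0⟩
  obtain ⟨r, hr, rfl⟩ := root_cases hx
  exact ⟨r, (Cfsg.Agent.SigZero.FFourTwo.nonneg_iff hr).1 h0, hr, rfl⟩

theorem SS_48 : SS 48 = ∅ := by
  rw [Set.eq_empty_iff_forall_notMem]
  rintro x ⟨r, h1, h2, -⟩
  omega

theorem SS_diff {m : ℕ} (hm : m < 48) : SS m \ {vec chevF4 4 m} = SS (m + 1) := by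
  ext x
  constructor
  · rintro ⟨⟨r, hmr, hr, rfl⟩, hne⟩
    refine ⟨r, ?_, hr, rfl⟩
    rcases Nat.lt_or_eq_of_le hmr with h | h
    · exact h
    · subst h
      exact absurd rfl hne
  · rintro ⟨r, hmr, hr, rfl⟩
    refine ⟨⟨r, by omega, hr, rfl⟩, fun e => ?_⟩
    have := vec_inj' hr hm (Set.mem_singleton_iff.1 e)
    omega

theorem cart_le : ∀ i < 4, ∀ r < 48, chevF4.cartan i r ≤ 2 := by decide +kernel

theorem cpr_le {x z : Fin 4 → ℤ} (hx : IsRoot cF hF.isCartan x) (hz : IsRoot cF hF.isCartan z) :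
    cpr cF hF.isCartan x z ≤ 2 := by
  obtain ⟨w, i, rfl⟩ := hz
  have h1 : cpr cF hF.isCartan x (rep cF hF.isCartan w (sr i)) =
      cpr cF hF.isCartan (rep cF hF.isCartan w⁻¹ x) (sr i) :=
    ((cpr_rep_left w⁻¹ x (isRoot_sr cF hF.isCartan i)).trans (by rw [inv_inv])).symm
  rw [h1]
  obtain ⟨r, hr, e⟩ := root_cases (hx.act w⁻¹)
  rw [e, Cfsg.Agent.Nodes.ChevCls.cpr_vec hF cF i (by rw [nroots]; exact hr)]
  exact cart_le i i.2 r hr

theorem closed_SS {m : ℕ} (h24 : 24 ≤ m) : Closed cF hF.isCartan (SS m) := by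
  rintro x ⟨r, hmr, hr, rfl⟩ y ⟨s, hms, hs, rfl⟩ z ⟨hz, c, a, b, hc, ha, hb, e⟩
  obtain ⟨v, hv, rfl⟩ := root_cases hz
  by_cases hm : m < 48
  swap
  · omega
  refine ⟨v, ?_, hv, rfl⟩
  have h1 : c * 2 = a * cpr cF hF.isCartan (vec chevF4 4 r) (vec chevF4 4 v) +
      b * cpr cF hF.isCartan (vec chevF4 4 s) (vec chevF4 4 v) := by
    have h2 : cpr cF hF.isCartan (c • vec chevF4 4 v) (vec chevF4 4 v) =
        cpr cF hF.isCartan (a • vec chevF4 4 r + b • vec chevF4 4 s) (vec chevF4 4 v) := by rw [e]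
    rw [cpr_add cF hF.isCartan _ _ hz, cpr_smul cF hF.isCartan _ _ hz, cpr_smul cF hF.isCartan _ _ hz,
      cpr_smul cF hF.isCartan _ _ hz, cpr_self cF hF.isCartan hz] at h2
    exact h2
  have h2 := cpr_le (root_vec hr) hz
  have h3 := cpr_le (root_vec hs) hz
  have h4 : c ≤ a + b := by nlinarith only [ha, hb, h1, h2, h3]
  have h5 : c * phi (vec chevF4 4 v) = a * phi (vec chevF4 4 r) + b * phi (vec chevF4 4 s) := by
    have h6 : ∀ k, c * vec chevF4 4 v k = a * vec chevF4 4 r k + b * vec chevF4 4 s k := by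
      intro k
      have := congrFun e k
      simpa only [Pi.add_apply, Pi.smul_apply, smul_eq_mul, _root_.Int.zsmul_eq_mul, _root_.zsmul_eq_mul, _root_.Pi.mul_apply, _root_.Pi.intCast_apply, _root_.Int.cast_eq] using this
    unfold phi
    linear_combination 1000 * h6 0 + 100 * h6 1 + 10 * h6 2 + h6 3
  have h6 := (phi_tab m hm r hr h24).2 hmr
  have h7 := (phi_tab m hm s hs h24).2 hms
  have h8 := phi_pos m hm h24
  apply (phi_tab m hm v hv h24).1
  by_contra h9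
  push Not at h9
  have h10 : c * phi (vec chevF4 4 v) < c * phi (vec chevF4 4 m) := mul_lt_mul_of_pos_left h9 hc
  have h11 : c * phi (vec chevF4 4 m) ≤ (a + b) * phi (vec chevF4 4 m) := mul_le_mul_of_nonneg_right h4 h8.le
  have h12 : a * phi (vec chevF4 4 m) ≤ a * phi (vec chevF4 4 r) := mul_le_mul_of_nonneg_left h6 ha.le
  have h13 : b * phi (vec chevF4 4 m) ≤ b * phi (vec chevF4 4 s) := mul_le_mul_of_nonneg_left h7 hb.le
  have h14 : (a + b) * phi (vec chevF4 4 m) = a * phi (vec chevF4 4 m) + b * phi (vec chevF4 4 m) := by ring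
  linarith only [h5, h10, h11, h12, h13]

theorem ev_nonneg {m : ℕ} (h24 : 24 ≤ m) (hm : m < 48) : ∀ x ∈ RGD.Pos cF hF.isCartan, 0 ≤ ev (fm m) x := by
  intro x hx
  rw [ev_fm]
  refine div_nonneg ?_ ?_
  · have h0 : ∀ k, 0 ≤ x k := fun k => hx.2 k
    have : 0 ≤ phi x := by
      unfold phi
      have h1 := h0 0
      have h2 := h0 1
      have h3 := h0 2
      have h4 := h0 3
      omega
    exact_mod_cast this
  · exact_mod_cast (phi_pos m hm h24).le

section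

variable (K : Type u) [Field K] [Finite K]

/-- `B` -/
abbrev BK : Subgroup ↥(chevF4.group K) := RGD.B cF hF.isCartan (TT chevF4 K) (XX chevF4 4 K)

theorem F2_restrict (x : Fin 4 → ℤ) (s : ℝ) : (F2 (XV chevF4 4 K) (XV chevF4 4 K) x s).subgroupOf (chevF4.group K) =
    F2 (XX chevF4 4 K) (XX chevF4 4 K) x s := by
  rcases lt_or_ge s 1 with h1 | h1
  · rw [F2_zero h1, F2_zero h1, Subgroup.bot_subgroupOf]
  · rw [F2_self h1, F2_self h1]

/-- the filtration -/
theorem filtF (p : ℕ) [Fact p.Prime] [CharP K p] :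
    Filt (rgd (K := K) hF cF p) (F2 (XX chevF4 4 K) (XX chevF4 4 K)) := by
  have h1 := Cfsg.Agent.KFacts.RgdFiltChev.filt (K := K) hF cF p
  have h2 : (fun x s => (F2 (XV chevF4 4 K) (XV chevF4 4 K) x s).subgroupOf (chevF4.group K)) =
      F2 (XX chevF4 4 K) (XX chevF4 4 K) := by
    funext x s
    exact F2_restrict K x s
  rw [h2] at h1
  exact h1

theorem B_nrm_SS {m : ℕ} (h24 : 24 ≤ m) (hm : m ≤ 48) :
    BK K ≤ Subgroup.normalizer (RGD.Sup (XX chevF4 4 K) (SS m) : Set ↥(chevF4.group K)) := by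
  obtain ⟨p, hp⟩ := CharP.exists K
  have : Fact p.Prime := ⟨CharP.char_is_prime K p⟩
  rcases Nat.lt_or_eq_of_le hm with h | h
  · rw [← Sf_eq h24 h]
    exact B_nrm (rgd (K := K) hF cF p) (filtF K p) (ev_nonneg h24 h)
  · rw [h, SS_48, Sup_empty]
    exact bot_normal _

theorem card_SS {m : ℕ} (h24 : 24 ≤ m) (hm : m ≤ 48) :
    Nat.card ↥(RGD.Sup (XX chevF4 4 K) (SS m)) = Nat.card K ^ (48 - m) := by
  classical
  obtain ⟨p, hp⟩ := CharP.exists K
  have : Fact p.Prime := ⟨CharP.char_is_prime K p⟩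
  have e : (((List.range' m (48 - m)).toFinset.image (vec chevF4 4) : Finset (Fin 4 → ℤ)) : Set (Fin 4 → ℤ)) =
      SS m := by
    ext x
    rw [Finset.coe_image, Set.mem_image]
    constructor
    · rintro ⟨r, hr, rfl⟩
      rw [Finset.mem_coe, List.mem_toFinset, List.mem_range'_1] at hr
      exact ⟨r, hr.1, by omega, rfl⟩
    · rintro ⟨r, hmr, hr, rfl⟩
      refine ⟨r, ?_, rfl⟩
      rw [Finset.mem_coe, List.mem_toFinset, List.mem_range'_1]
      omega
  have h1 := Cfsg.Agent.Nodes.CardSup.card_sup (rgd (K := K) hF cF p)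
    (s := (List.range' m (48 - m)).toFinset.image (vec chevF4 4)) (by rw [e]; exact SS_pos h24)
    (by rw [e]; exact closed_SS h24)
  rw [e] at h1
  rw [h1, Finset.prod_congr rfl (g := fun _ => Nat.card K) ?_, Finset.prod_const, Finset.card_image_of_injOn,
    List.toFinset_card_of_nodup List.nodup_range', List.length_range']
  · intro r hr s hs e
    rw [Finset.mem_coe, List.mem_toFinset, List.mem_range'_1] at hr hs
    exact vec_inj' (by omega) (by omega) e
  · intro x hx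
    rw [Finset.mem_image] at hx
    obtain ⟨r, hr, rfl⟩ := hx
    rw [List.mem_toFinset, List.mem_range'_1] at hr
    exact Cfsg.Agent.H744.FC.card_X K (root_vec (by omega))

theorem SS_succ_le (m : ℕ) : RGD.Sup (XX chevF4 4 K) (SS (m + 1)) ≤ RGD.Sup (XX chevF4 4 K) (SS m) := by
  refine RGD.Sup_mono ?_
  rintro x ⟨r, hmr, hr, rfl⟩
  exact ⟨r, by omega, hr, rfl⟩

theorem relIndex_SS {m : ℕ} (h24 : 24 ≤ m) (hm : m < 48) :
    (RGD.Sup (XX chevF4 4 K) (SS (m + 1))).relIndex (RGD.Sup (XX chevF4 4 K) (SS m)) = Nat.card K := by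
  have h1 := Subgroup.relIndex_mul_relIndex ⊥ _ _ bot_le (SS_succ_le K m)
  rw [Subgroup.relIndex_bot_left, Subgroup.relIndex_bot_left, card_SS K h24 hm.le, card_SS K (by omega) (by omega)]
    at h1
  have h2 : 48 - m = (48 - (m + 1)) + 1 := by omega
  rw [h2, pow_succ] at h1
  have h3 : 0 < Nat.card K := Nat.card_pos
  exact Nat.eq_of_mul_eq_mul_left (pow_pos h3 _) h1

end

/-- the number of `r ∈ 24, …, 47` which do not decrease -/
def cn (ω : List (Fin 4)) : ℕ :=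
  ((List.range' 24 24).filter fun r => decide (r ≤ Cfsg.Agent.SigZero.FFourTwo.act ω r)).length

theorem cn_le : ∀ ω ∈ Cfsg.Agent.SigZero.FFourTwo.LC,
    Cfsg.Agent.SigZero.FFourTwo.key ω = Cfsg.Agent.SigZero.FFourTwo.key [] ∨ cn ω ≤ 16 := by decide +kernel

end Cfsg.Agent.H374.TC.Cu
end

-- part: H962/FC/Tor
section
/-!
# S2464, `F₄(q)`: the positive root groups centralised by an element of the torus (for helper374, helper520)

* `tor16` : `t ≠ 1` in the torus centralises at most 16 of the 24 positive root groups.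
-/

set_option autoImplicit false
set_option linter.unusedSectionVars false

namespace Cfsg.Agent.H962.FC

open CoxeterSystem Cfsg.Agent.ChevalleyStructure.CoxeterGeom Cfsg.Agent.Tits.Roots Cfsg.Agent.Tits.Core
  Cfsg.Agent.Nodes.Reps Cfsg.Agent.Nodes.BNOf Cfsg.Agent.Nodes.RGDChev Cfsg.Agent.KFacts.RgdChevCoord
open Cfsg.Lie Cfsg.Agent.ChevalleyStructure Cfsg.Agent.ChevalleyStructure.Elts
  Cfsg.Agent.ChevalleyStructure.RootVec Cfsg.Agent.ChevalleyStructure.NPerm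
  Cfsg.Agent.ChevalleyStructure.CoxeterGeomTypes
open Cfsg.Agent.H701.F43.Cent (hF cF)

universe u

variable {K : Type u} [Field K] [Finite K]

/-- the character is additive in the root -/
theorem ch_vadd {t : ↥(chevF4.group K)} (ht : t ∈ TT chevF4 K) {r s : ℕ} {i : Fin 4} (hr : r < chevF4.nroots)
    (hs : s < chevF4.nroots) (h : vec chevF4 4 s = vec chevF4 4 r + sr i) :
    ch hF (vec chevF4 4 s) t = ch hF (vec chevF4 4 r) t * ch hF (sr i) t := by
  obtain ⟨p, hp⟩ := CharP.exists K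
  have : Fact p.Prime := ⟨CharP.char_is_prime K p⟩
  have h0 : ∀ j : Fin 4, ch hF (sr j) t ≠ 0 := fun j => by
    rw [← vec_simple hF j]
    exact (act hF (_root_.Cfsg.Agent.ChevalleyStructure.NPerm.simple_lt hF.inList (lt_rank hF j)) ht).1
  rw [PRankPar.Chev.ch_prod hF cF p _ (isRoot_vec hF cF hs) t ht,
    PRankPar.Chev.ch_prod hF cF p _ (isRoot_vec hF cF hr) t ht]
  conv_rhs => rw [PRankPar.Chev.ch_prod hF cF p (sr i) (isRoot_sr cF hF.isCartan i) t ht]
  rw [← Finset.prod_mul_distrib, h]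
  exact Finset.prod_congr rfl fun j _ => by rw [Pi.add_apply, zpow_add₀ (h0 j)]

theorem ch_of_comm {t : ↥(chevF4.group K)} (ht : t ∈ TT chevF4 K) {r : ℕ} (hr : r < chevF4.nroots)
    (h : ∀ v ∈ XX chevF4 4 K (vec chevF4 4 r), t * v = v * t) : ch hF (vec chevF4 4 r) t = 1 := by
  obtain ⟨p, hp⟩ := CharP.exists K
  have : Fact p.Prime := ⟨CharP.char_is_prime K p⟩
  apply ch_eq hF hr ht
  rw [h _ (((coords (K := K) hF cF p).coord _ (isRoot_vec hF cF hr)).mem _ |>.2 ⟨1, rfl⟩), mul_inv_cancel_right]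

/-- the seven pairs `(b, b + αᵢ)` -/
def prs : Fin 4 → List (ℕ × ℕ) := ![
  [(27, 34), (28, 35), (29, 36), (30, 37), (31, 38), (32, 39), (40, 44)],
  [(25, 28), (33, 34), (26, 29), (35, 37), (36, 38), (39, 40), (43, 44)],
  [(24, 26), (27, 28), (34, 35), (31, 32), (38, 39), (42, 43), (45, 46)],
  [(25, 26), (28, 29), (30, 31), (35, 36), (37, 38), (41, 42), (46, 47)]]

theorem prs_tab : ∀ i : Fin 4, ∀ b ∈ prs i, b.1 < chevF4.nroots ∧ b.2 < chevF4.nroots ∧
    ∀ j : Fin 4, vec chevF4 4 b.2 j = vec chevF4 4 b.1 j + (if j = i then 1 else 0) := by decide +kernel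

theorem simple_tab : ∀ i : Fin 4, chevF4.simple i = (![33, 27, 25, 24] : Fin 4 → ℕ) i := by decide +kernel

theorem cnt (f : ℕ → Bool) : ((List.range' 24 24).filter f).length =
    (f 24).toNat + (f 25).toNat + (f 26).toNat + (f 27).toNat + (f 28).toNat + (f 29).toNat + (f 30).toNat +
    (f 31).toNat + (f 32).toNat + (f 33).toNat + (f 34).toNat + (f 35).toNat + (f 36).toNat + (f 37).toNat +
    (f 38).toNat + (f 39).toNat + (f 40).toNat + (f 41).toNat + (f 42).toNat + (f 43).toNat + (f 44).toNat +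
    (f 45).toNat + (f 46).toNat + (f 47).toNat := by
  have h : ∀ (a : ℕ) (l : List ℕ), ((a :: l).filter f).length = (f a).toNat + (l.filter f).length := by
    intro a l
    rw [List.filter_cons]
    cases f a
    · simp
    · simp [Nat.add_comm]
  show ((24 :: 25 :: 26 :: 27 :: 28 :: 29 :: 30 :: 31 :: 32 :: 33 :: 34 :: 35 :: 36 :: 37 :: 38 :: 39 :: 40 :: 41 ::
    42 :: 43 :: 44 :: 45 :: 46 :: [47] : List ℕ).filter f).length = _
  simp only [h, List.filter_nil, List.length_nil]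
  omega

theorem cnt_le (f : ℕ → Bool) (i : Fin 4) (h0 : f ((![33, 27, 25, 24] : Fin 4 → ℕ) i) = false)
    (h1 : ∀ b ∈ prs i, ¬ (f b.1 = true ∧ f b.2 = true)) : ((List.range' 24 24).filter f).length ≤ 16 := by
  have hle : ∀ n, (f n).toNat ≤ 1 := fun n => Bool.toNat_le _
  have h2 : ∀ b ∈ prs i, (f b.1).toNat + (f b.2).toNat ≤ 1 := by
    intro b hb
    have := h1 b hb
    revert this
    cases f b.1 <;> cases f b.2 <;> simp
  have h3 : (f ((![33, 27, 25, 24] : Fin 4 → ℕ) i)).toNat = 0 := by rw [h0]; rfl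
  rw [cnt]
  have a1 := hle 24
  have a2 := hle 25
  have a3 := hle 26
  have a4 := hle 27
  have a5 := hle 28
  have a6 := hle 29
  have a7 := hle 30
  have a8 := hle 31
  have a9 := hle 32
  have a10 := hle 33
  have a11 := hle 34
  have a12 := hle 35
  have a13 := hle 36
  have a14 := hle 37
  have a15 := hle 38
  have a16 := hle 39
  have a17 := hle 40
  have a18 := hle 41
  have a19 := hle 42
  have a20 := hle 43
  have a21 := hle 44
  have a22 := hle 45
  have a23 := hle 46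
  have a24 := hle 47
  fin_cases i
  all_goals
    simp only [prs, Fin.zero_eta, Fin.mk_one, Fin.reduceFinMk, Matrix.cons_val, List.mem_cons, List.not_mem_nil,
      or_false, forall_eq_or_imp, forall_eq] at h2 h3
    obtain ⟨b1, b2, b3, b4, b5, b6, b7⟩ := h2
    omega

open Classical in
/-- **An element `t ≠ 1` of the torus centralises at most 16 of the 24 positive root groups.** -/
theorem tor16 {t : ↥(chevF4.group K)} (ht : t ∈ TT chevF4 K) (h1 : t ≠ 1) :
    ((List.range' 24 24).filter fun r => decide (∀ v ∈ XX chevF4 4 K (vec chevF4 4 r), t * v = v * t)).length ≤ 16 := by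
  obtain ⟨p, hp⟩ := CharP.exists K
  have : Fact p.Prime := ⟨CharP.char_is_prime K p⟩
  obtain ⟨i, hi⟩ : ∃ i, ch hF (sr i) t ≠ 1 := by
    by_contra hc
    push Not at hc
    exact h1 (PRankPar.Chev.faithful hF cF p t ht hc)
  refine cnt_le _ i ?_ ?_
  · rw [decide_eq_false_iff_not]
    intro hc
    apply hi
    rw [← simple_tab i] at hc
    have h2 := ch_of_comm ht (_root_.Cfsg.Agent.ChevalleyStructure.NPerm.simple_lt hF.inList (lt_rank hF i)) hc
    rwa [vec_simple hF i] at h2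
  · intro b hb hc
    rw [decide_eq_true_eq, decide_eq_true_eq] at hc
    obtain ⟨hb1, hb2, hb3⟩ := prs_tab i b hb
    have h2 := ch_of_comm ht hb1 hc.1
    have h3 := ch_of_comm ht hb2 hc.2
    have h4 : vec chevF4 4 b.2 = vec chevF4 4 b.1 + sr i := by
      funext j
      rw [hb3 j, Pi.add_apply]
      by_cases hj : j = i
      · subst hj
        rw [if_pos rfl, sr_self]
      · rw [if_neg hj, sr_ne hj]
    rw [ch_vadd ht hb1 hb2 h4, h2, one_mul] at h3
    exact hi h3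

end Cfsg.Agent.H962.FC
end

-- part: H374/TC/CuMain
section
/-!
# C16 for `F₄(q)` (helper374, S2464)

* `chain` : the chain of the groups `Sup X (SS m)`;
* `c16` : `C16 K`.
-/

set_option autoImplicit false
set_option linter.unusedSectionVars false

namespace Cfsg.Agent.H374.TC.Cu

open CoxeterSystem Cfsg.Agent.ChevalleyStructure.CoxeterGeom Cfsg.Agent.Tits.Roots Cfsg.Agent.Tits.Core
  Cfsg.Agent.Tits.RootComb Cfsg.Agent.Nodes.Comb Cfsg.Agent.Nodes.Reps Cfsg.Agent.Nodes.BNOf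
  Cfsg.Agent.Nodes.StabComb Cfsg.Agent.Nodes.Bruhat Cfsg.Agent.Nodes.OppDec Cfsg.Agent.Nodes.LeviDec
  Cfsg.Agent.Nodes.NormalForm Cfsg.Agent.Nodes.Unique Cfsg.Agent.Nodes.NormX Cfsg.Agent.Nodes.Coroot
  Cfsg.Agent.KFacts.RgdPar Cfsg.Agent.KFacts.RgdChevCoord
  Cfsg.Agent.KFacts.RgdBorelTits Cfsg.Agent.KFacts.RgdFilt
open Cfsg.Lie Cfsg.Agent.ChevalleyStructure Cfsg.Agent.ChevalleyStructure.Elts
  Cfsg.Agent.ChevalleyStructure.RootVec Cfsg.Agent.ChevalleyStructure.RootVecTab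
  Cfsg.Agent.ChevalleyStructure.NPerm Cfsg.Agent.ChevalleyStructure.CoxeterGeomTypes
open Cfsg.Agent.Nodes Cfsg.Agent.Nodes.RGDChev
open Cfsg.Agent.H701.F43.Cent (hF cF nroots finW)
open Cfsg.Agent.H520.FC
open Cfsg.Agent.SigZero.FFourTwo (LC chkLC key mem_WJ_iff rep_word eq_of_key)

universe u

variable {K : Type u} [Field K] [Finite K]

theorem chain (C : Subgroup ↥(chevF4.group K)) (P : ℕ → Prop) [DecidablePred P]
    (hP : ∀ m, 24 ≤ m → m < 48 → ¬ P m → RGD.Sup (XX chevF4 4 K) (SS m) ⊓ C ≤ RGD.Sup (XX chevF4 4 K) (SS (m + 1)) ⊓ C) :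
    Nat.card ↥(UK K ⊓ C) ≤ Nat.card K ^ ((List.range' 24 24).filter fun r => decide (P r)).length := by
  have key : ∀ k ≤ 24, Nat.card ↥(RGD.Sup (XX chevF4 4 K) (SS (48 - k)) ⊓ C) ≤
      Nat.card K ^ ((List.range' (48 - k) k).filter fun r => decide (P r)).length := by
    intro k
    induction k with
    | zero =>
      intro _
      have h1 : RGD.Sup (XX chevF4 4 K) (SS (48 - 0)) = ⊥ := by
        rw [Nat.sub_zero, SS_48, Sup_empty]
      rw [h1, bot_inf_eq, Subgroup.card_bot]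
      exact Nat.one_le_pow _ _ Nat.card_pos
    | succ k ih =>
      intro hk
      have ih' := ih (by omega)
      set m := 48 - (k + 1) with hm
      have e1 : 48 - k = m + 1 := by omega
      rw [e1] at ih'
      have e2 : List.range' m (k + 1) = m :: List.range' (m + 1) k := List.range'_succ
      rw [e2]
      by_cases hPm : P m
      · rw [List.filter_cons_of_pos (by simpa using hPm), List.length_cons, pow_succ, mul_comm]
        refine (card_step C (SS_succ_le K m)).trans ?_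
        rw [relIndex_SS K (by omega) (by omega)]
        exact Nat.mul_le_mul_left _ ih'
      · rw [List.filter_cons_of_neg (by simpa using hPm)]
        exact (Nat.card_mono (Set.toFinite _) (hP m (by omega) (by omega) hPm)).trans ih'
  have h1 := key 24 le_rfl
  rw [show 48 - 24 = 24 from rfl, SS_24] at h1
  exact h1

theorem SS_mem {m : ℕ} (hm : m < 48) : ∀ y ∈ SS m, y = vec chevF4 4 m ∨ y ∈ SS (m + 1) := by
  intro y hy
  by_cases h : y = vec chevF4 4 m
  · exact Or.inl h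
  · right
    rw [← SS_diff hm]
    exact ⟨hy, h⟩

/-- `s = b k` -/
theorem case_rep {p : ℕ} [Fact p.Prime] [CharP K p] {ω : List (Fin 4)} (hω : cn ω ≤ 16)
    {b k : ↥(chevF4.group K)} (hb : b ∈ BK K)
    (hk : Rp cF (rgd (K := K) hF cF p).nsys (cF.wordProd ω) k) :
    Nat.card ↥(UK K ⊓ Subgroup.centralizer ({b * k} : Set ↥(chevF4.group K))) ≤ Nat.card K ^ 16 := by
  refine (chain (Subgroup.centralizer {b * k}) (fun r => r ≤ Cfsg.Agent.SigZero.FFourTwo.act ω r) ?_).trans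
    (Nat.pow_le_pow_right Nat.card_pos hω)
  intro m h24 hm hP
  refine le_of_rep (rgd (K := K) hF cF p) hk rfl (SS_pos h24) (closed_SS h24) (B_nrm_SS K h24 hm.le hb)
    (SS_mem hm) ?_
  rintro ⟨r, hmr, hr, e⟩
  have h1 := rep_word cF ω hm
  have h2 : vec chevF4 4 (Cfsg.Agent.SigZero.FFourTwo.act ω m) = vec chevF4 4 r := by
    rw [← h1.1]
    exact e
  have h3 := vec_inj' h1.2 hr h2
  apply hP
  rw [h3]
  exact hmr

/-- `s = t v` -/
theorem case_tor {p : ℕ} [Fact p.Prime] [CharP K p] {t v : ↥(chevF4.group K)} (ht : t ∈ TT chevF4 K) (h1 : t ≠ 1)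
    (hv : v ∈ UK K) :
    Nat.card ↥(UK K ⊓ Subgroup.centralizer ({t * v} : Set ↥(chevF4.group K))) ≤ Nat.card K ^ 16 := by
  classical
  refine (chain (Subgroup.centralizer {t * v}) (fun r => ∀ v ∈ XX chevF4 4 K (vec chevF4 4 r), t * v = v * t)
    ?_).trans (Nat.pow_le_pow_right Nat.card_pos (Cfsg.Agent.H962.FC.tor16 ht h1))
  intro m h24 hm hP
  have C := (coords (K := K) hF cF p).coord _ (root_vec hm)
  have e := Sf_eq h24 hm
  have e' : Sf cF hF.isCartan (fm m) \ {vec chevF4 4 m} = SS (m + 1) := by rw [e, SS_diff hm]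
  have h2 := le_of_tor (rgd (K := K) hF cF p) (filtF K p) (ev_nonneg h24 hm) (by rw [e]; exact SS_pos h24)
    (by rw [e]; exact closed_SS h24) (x := vec chevF4 4 m) (by rw [e]; exact ⟨m, le_rfl, hm, rfl⟩)
    (by rw [e']; exact closed_SS (by omega)) ?_ (by rw [e']; exact B_nrm_SS K (by omega) (by omega)) ht hv rfl ?_
  · rw [e', e] at h2
    exact h2
  · intro u hu v hv
    obtain ⟨a, rfl⟩ := (C.mem u).1 hu
    obtain ⟨b, rfl⟩ := (C.mem v).1 hv
    rw [← C.add, ← C.add, add_comm]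
  · intro u hu htu
    obtain ⟨a, rfl⟩ := (C.mem u).1 hu
    by_contra hne
    have ha : a ≠ 0 := by
      rintro rfl
      exact hne C.zero
    apply hP
    have hact := C.act t ht
    have h3 := hact a
    rw [htu, mul_inv_cancel_right] at h3
    have h4 := C.inj h3
    have h5 : ch hF (vec chevF4 4 m) t = 1 := by
      have h6 : ch hF (vec chevF4 4 m) t * a = 1 * a := by rw [one_mul]; exact h4.symm
      exact mul_right_cancel₀ ha h6
    intro v hv
    obtain ⟨b, rfl⟩ := (C.mem v).1 hv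
    have h6 := hact b
    rw [h5, one_mul] at h6
    exact mul_inv_eq_iff_eq_mul.1 h6

/-- **C16.** -/
theorem c16 : C16 K := by
  intro s u hu1 hu hus hs
  obtain ⟨p, hp⟩ := CharP.exists K
  have : Fact p.Prime := ⟨CharP.char_is_prime K p⟩
  have R := rgd (K := K) hF cF p
  have h1 : s ∈ PK K {k | k ≠ 3} := Cfsg.Agent.H744.FC.cent_le_PK hu hu1
    (Subgroup.mem_centralizer_singleton_iff.2 hus.symm)
  obtain ⟨w, hw, b1, hb1, k, hk, b2, hb2, rfl⟩ := (mem_PJ_iff_cell R).1 h1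
  have hJ : ({k | k ≠ 3} : Set (Fin 4)) = {i | i ∈ ([0, 1, 2] : List (Fin 4))} := by
    ext i
    (revert i; simp only [_root_.Fin.forall_fin_succ, Fin.isValue, _root_.ne_eq, _root_.Set.mem_ofPred_eq, _root_.List.mem_cons, _root_.List.not_mem_nil, _root_.or_false, Fin.reduceEq, _root_.not_false_eq_true, _root_.zero_ne_one, _root_.or_self, _root_.Fin.succ_ne_zero, _root_.false_or, _root_.Fin.succ_zero_eq_one, _root_.Fin.succ_one_eq_two, _root_.or_true, Fin.reduceSucc, _root_.not_true_eq_false, _root_.IsEmpty.forall_iff, _root_.and_self])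
  rw [hJ] at hw
  obtain ⟨ω, hω, rfl⟩ := (mem_WJ_iff cF chkLC w).1 hw
  rcases cn_le ω hω with h2 | h2
  · -- `s ∈ B`
    have h3 : cF.wordProd ω = 1 := by
      rw [eq_of_key cF h2, wordProd_nil]
    rw [h3] at hk
    have hkT : k ∈ TT chevF4 K := hk.mem_of_one
    have hsB : b1 * k * b2 ∈ BK K := mul_mem (mul_mem hb1 ((le_sup_left : TT chevF4 K ≤ BK K) hkT)) hb2
    obtain ⟨t, ht, v, hv, e⟩ := R.mem_B.1 hsB
    rw [e] at hs ⊢
    have ht1 : t ≠ 1 := by
      rintro rfl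
      exact hs (by rw [one_mul]; exact hv)
    exact case_tor (p := p) ht ht1 hv
  · have h3 := case_rep (p := p) h2 (mul_mem hb2 hb1) hk
    refine le_trans ?_ h3
    have hb2n := R.B_le_normalizer_U hb2
    refine Nat.card_le_card_of_injective (fun a => ⟨b2 * a.1 * b2⁻¹,
      (Subgroup.mem_normalizer_iff.1 hb2n _).1 a.2.1, ?_⟩) ?_
    · have h4 : a.1 * (b1 * k * b2) = b1 * k * b2 * a.1 := Subgroup.mem_centralizer_singleton_iff.1 a.2.2
      refine Subgroup.mem_centralizer_singleton_iff.2 ?_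
      calc b2 * a.1 * b2⁻¹ * (b2 * b1 * k) = b2 * (a.1 * (b1 * k * b2)) * b2⁻¹ := by group
        _ = b2 * b1 * k * (b2 * a.1 * b2⁻¹) := by rw [h4]; group
    · intro a a' h5
      have h6 : b2 * a.1 * b2⁻¹ = b2 * a'.1 * b2⁻¹ := congrArg Subtype.val h5
      exact Subtype.ext (mul_left_cancel (mul_right_cancel h6))

end Cfsg.Agent.H374.TC.Cu
end

-- part: H520/FC/Final
section
/-!
# S2464, `F₄(q)`, `q = 5, 7, 17`: **the bound for `|C(g)|`** (helper520)
-/

set_option autoImplicit false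
set_option linter.unusedSectionVars false

namespace Cfsg.Agent.H520.FC

open Subgroup Cfsg.Lie

universe u

variable {K : Type u} [Field K]

/-- the bound with the factor `c` -/
theorem cbc {p : ℕ} [Fact p.Prime] [CharP K p] (hq : Nat.card K = 5 ∨ Nat.card K = 7 ∨ Nat.card K = 17)
    {c : ℕ} (hc : c = 2 ∨ c = 10 ∧ Nat.card K = 17) {g : ↥(chevF4.group K)} (hg : p ∣ orderOf g) (hl : ¬ Lng g) :
    c * Nat.card ↥(centralizer ({g} : Set ↥(chevF4.group K))) < d2 (Nat.card K) ^ 2 := by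
  have hfin : Finite K := Nat.finite_of_card_ne_zero (by omega)
  exact cb_of3 hq hc (Cfsg.Agent.H962.FC.mixed10_of hq Cfsg.Agent.H374.TC.Cu.c16) hg hl

/-- the bound, for `g` whose class has order divisible by `p` -/
theorem hcb {p : ℕ} [Fact p.Prime] [CharP K p] (hq : Nat.card K = 5 ∨ Nat.card K = 7 ∨ Nat.card K = 17)
    {c : ℕ} (hc : c = 2 ∨ c = 10 ∧ Nat.card K = 17) (g : ↥(chevF4.group K)) (hg : p ∣ orderOf g)
    (hi : p ∣ (centralizer ({g} : Set ↥(chevF4.group K))).index) :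
    c * Nat.card ↥(centralizer ({g} : Set ↥(chevF4.group K))) < d2 (Nat.card K) ^ 2 := by
  have hfin : Finite K := Nat.finite_of_card_ne_zero (by omega)
  exact cbc hq hc hg fun hl => index_of_lng p hl hi

end Cfsg.Agent.H520.FC
end

private theorem dce_ae0f2f6521f3 : _root_.True := by
  try have : _root_.True := by simp only [_root_.Cfsg.Agent.KFacts.RgdChevCoord.ch.congr_simp]
  try have : _root_.True := by simp only [_root_.Cfsg.Agent.H962.FC.MP.eq_1]
  try have : _root_.True := by simp only [_root_.Cfsg.Agent.H962.FC.prs.eq_1]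
  exact _root_.True.intro
end
end
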