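import Cfsg.Agent.H46.TL.Ord_m3
import Cfsg.Agent.Lib.FieldFour
import Cfsg.Agent.Lib.Refl
import Cfsg.Agent.Prune
set_option linter.all false
prune_inst 0x7f00000000000000000000000000000000000000000000000000000000000000000000000000000000000000000000000000000000000000000000000000000000000000000000000000000000000000003fffffffffffffffffffffffffffbeffbdffffffff
open scoped Cfsg.Agent.FastGrp

-- part: H46/TL/QFour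
section
/-!
# The fixed pairs over the field with 4 elements
-/

set_option autoImplicit false
set_option maxRecDepth 100000
set_option maxHeartbeats 0

namespace Cfsg.Agent.H46.TL.QFour

open Matrix Cfsg.Agent.H962.PP

open Cfsg.Agent.Lib.FieldFour

def M : Matrix (Fin 4) (Fin 4) (F4) := !![0, 0, 0, 1; 1, 0, 0, F4.w; 0, 1, 0, 1; 0, 0, 1, F4.w]
def M2 : Matrix (Fin 4) (Fin 4) (F4) := !![0, 0, 1, F4.w; 0, 0, F4.w, F4.w; 1, 0, 1, 0; 0, 1, F4.w, F4.w]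
def M4 : Matrix (Fin 4) (Fin 4) (F4) := !![1, F4.w, F4.w, F4.v; F4.w, F4.w, 1, F4.v; 1, 0, 0, F4.w; F4.w, F4.w, F4.v, 1]
def M8 : Matrix (Fin 4) (Fin 4) (F4) := !![1, 0, F4.w, F4.w; 1, 1, F4.v, 1; F4.w, 1, F4.v, 1; 0, F4.w, F4.w, 0]
def M16 : Matrix (Fin 4) (Fin 4) (F4) := !![F4.w, 1, 0, 0; 1, 0, 1, 0; F4.w, 0, 0, 1; 1, 0, 0, 0]
theorem M_pow : M ^ 17 = 1 := by
  have e1 : M ^ 1 = M := pow_one _
  have e2 : M ^ 2 = M2 := (pow_add M 1 1).trans (by rw [e1]; decide +kernel)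
  have e4 : M ^ 4 = M4 := (pow_add M 2 2).trans (by rw [e2]; decide +kernel)
  have e8 : M ^ 8 = M8 := (pow_add M 4 4).trans (by rw [e4]; decide +kernel)
  have e16 : M ^ 16 = M16 := (pow_add M 8 8).trans (by rw [e8]; decide +kernel)
  have e17 : M ^ 17 = 1 := (pow_add M 16 1).trans (by rw [e16, e1]; decide +kernel)
  exact e17

def N : Matrix (Fin 4) (Fin 4) (F4) := !![0, 0, 0, 1; 1, 0, 0, 1; 0, 1, 0, F4.w; 0, 0, 1, 1]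
def N2 : Matrix (Fin 4) (Fin 4) (F4) := !![0, 0, 1, 1; 0, 0, 1, 0; 1, 0, F4.w, F4.v; 0, 1, 1, F4.v]
def N4 : Matrix (Fin 4) (Fin 4) (F4) := !![1, 1, F4.v, 0; 1, 0, F4.w, F4.v; F4.w, F4.v, 1, F4.w; 1, F4.v, 0, 1]
def N8 : Matrix (Fin 4) (Fin 4) (F4) := !![1, F4.v, F4.w, F4.w; 1, F4.w, 1, 0; 1, 0, 1, F4.w; F4.v, F4.w, F4.w, F4.v]
def N16 : Matrix (Fin 4) (Fin 4) (F4) := !![1, 1, 0, 0; F4.w, 0, 1, 0; 1, 0, 0, 1; 1, 0, 0, 0]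
theorem N_pow : N ^ 17 = 1 := by
  have e1 : N ^ 1 = N := pow_one _
  have e2 : N ^ 2 = N2 := (pow_add N 1 1).trans (by rw [e1]; decide +kernel)
  have e4 : N ^ 4 = N4 := (pow_add N 2 2).trans (by rw [e2]; decide +kernel)
  have e8 : N ^ 8 = N8 := (pow_add N 4 4).trans (by rw [e4]; decide +kernel)
  have e16 : N ^ 16 = N16 := (pow_add N 8 8).trans (by rw [e8]; decide +kernel)
  have e17 : N ^ 17 = 1 := (pow_add N 16 1).trans (by rw [e16, e1]; decide +kernel)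
  exact e17

theorem irr_f : Irreducible (kt (F4.w : F4) 1 F4.w) :=
  kt_irr (by decide +kernel) (by decide +kernel)

theorem irr_g : Irreducible (kt (1 : F4) F4.w 1) :=
  kt_irr (by decide +kernel) (by decide +kernel)

theorem sp0 : ∃ X Y : Matrix (Fin 4) (Fin 4) (F4), Y * X = BB (F4.w : F4) 1 ∧
    (∀ j, (X ^ 4 + (F4.w : F4) • X ^ 3 + (1 : F4) • X ^ 2 + (F4.w : F4) • X + 1 : Matrix (Fin 4) (Fin 4) (F4)) j 0 = 0) ∧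
    (∀ j, (Y ^ 4 + (1 : F4) • Y ^ 3 + (F4.w : F4) • Y ^ 2 + (1 : F4) • Y + 1 : Matrix (Fin 4) (Fin 4) (F4)) j 0 = 0) :=
  ⟨!![F4.v, F4.w, 1, 1; F4.v, 0, F4.v, 1; F4.v, 0, F4.v, 0; F4.v, F4.w, 0, F4.w], !![F4.w, 0, F4.v, 1; F4.w, F4.v, 0, F4.v; 0, 1, 1, 0; 1, 1, 1, 1], by decide +kernel, by decide +kernel, by decide +kernel⟩

theorem sp1 : ∃ X Y : Matrix (Fin 4) (Fin 4) (F4), Y * X = BB (F4.v : F4) 1 ∧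
    (∀ j, (X ^ 4 + (F4.w : F4) • X ^ 3 + (1 : F4) • X ^ 2 + (F4.w : F4) • X + 1 : Matrix (Fin 4) (Fin 4) (F4)) j 0 = 0) ∧
    (∀ j, (Y ^ 4 + (1 : F4) • Y ^ 3 + (F4.w : F4) • Y ^ 2 + (1 : F4) • Y + 1 : Matrix (Fin 4) (Fin 4) (F4)) j 0 = 0) :=
  ⟨!![F4.v, F4.v, F4.v, 1; 0, F4.w, F4.w, 1; 0, 1, 0, 1; F4.w, F4.w, 1, F4.v], !![F4.v, F4.w, F4.w, 1; F4.v, 0, F4.w, F4.w; F4.v, F4.w, F4.v, 1; F4.v, 1, F4.w, 1], by decide +kernel, by decide +kernel, by decide +kernel⟩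

theorem sp_cases : ∀ t d : F4, d ^ 2 = 1 → (∀ x : F4, x ^ 2 - t * x + d ≠ 0) →
    (t = F4.w ∧ d = 1) ∨ (t = F4.v ∧ d = 1) := by decide +kernel

theorem cyc4 : ∀ t : F4, ∃ a : F4, a ≠ 0 ∧ ∃ b : F4, b ≠ 0 ∧ ∃ Y : F4, Y ≠ 1 ∧
    Y * (a * F4.w - 2 + a * b * t - Y) = a ^ 4 * G4 1 F4.w 1 b := by decide +kernel

theorem one4 : ∀ k : F4, k ≠ 0 → ∀ t : F4, ∃ a : F4, a ≠ 0 ∧ ∃ b : F4, b ≠ 0 ∧ ∃ Y : F4, Y ≠ 1 ∧ Y ≠ a * b * k ∧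
    (a * b * k) * (Y * (a * F4.w - 1 + a * b * t - Y)) = a ^ 4 * G4 1 F4.w 1 b := by decide +kernel

theorem chk4 : Chk4 (F4) F4.w 1 F4.w 1 F4.w 1 where
  cyc := fun t => by
    obtain ⟨a, ha, b, hb, Y, hY, h⟩ := cyc4 t
    exact ⟨a, b, Y, ha, hb, hY, h⟩
  one := fun k t hk => by
    obtain ⟨a, ha, b, hb, Y, hY, hYk, h⟩ := one4 k hk t
    exact ⟨a, b, Y, ha, hb, hY, hYk, h⟩
  two := fun t d hd hx => by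
    rcases sp_cases t d hd hx with ⟨rfl, rfl⟩ | ⟨rfl, rfl⟩
    · exact sp0
    · exact sp1
  exc := by decide +kernel

theorem irr_p : Irreducible (qt (0 : F4) 1 0 0 (-1)) :=
  qt_irr (by decide +kernel) (by decide +kernel)

theorem irr_h : Irreducible (qt (1 : F4) 1 0 1 (-1)) :=
  qt_irr (by decide +kernel) (by decide +kernel)

theorem cyc5 : ∀ t : F4, ∃ a : F4, a ≠ 0 ∧ ∃ b : F4, b ≠ 0 ∧ ∃ Y : F4, Y ≠ 1 ∧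
    Y * (a * 0 - 3 + a * b * t - Y) + a ^ 5 * G5 1 1 0 1 b = 0 := by decide +kernel

theorem one5 : ∀ k : F4, k ≠ 0 → ∀ t : F4, ∃ a : F4, a ≠ 0 ∧ ∃ b : F4, b ≠ 0 ∧ ∃ Y : F4, Y ≠ 1 ∧ Y ≠ a * b * k ∧
    (a * b * k) * (Y * (a * 0 - 2 + a * b * t - Y)) + a ^ 5 * G5 1 1 0 1 b = 0 := by decide +kernel

theorem two5 : ∀ s t : F4, ∃ a : F4, a ≠ 0 ∧ ∃ b : F4, b ≠ 0 ∧ a * b * s ≠ 1 ∧ ∃ Y : F4, Y ≠ 1 ∧ Y ≠ a * b * s - 1 ∧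
    (a * b * s - 1) * (Y * (a * 0 - 1 + a * b * t - Y)) + a ^ 5 * G5 1 1 0 1 b = 0 := by decide +kernel

theorem chk5 : Chk5 (F4) 0 1 0 0 1 1 0 1 where
  cyc := fun t => by
    obtain ⟨a, ha, b, hb, Y, hY, h⟩ := cyc5 t
    exact ⟨a, b, Y, ha, hb, hY, h⟩
  one := fun k t hk => by
    obtain ⟨a, ha, b, hb, Y, hY, hYk, h⟩ := one5 k hk t
    exact ⟨a, b, Y, ha, hb, hY, hYk, h⟩
  two := fun s t => by
    obtain ⟨a, ha, b, hb, hs, Y, hY, hYk, h⟩ := two5 s t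
    exact ⟨a, b, Y, ha, hb, hY, hs, hYk, h⟩
  exc := by decide +kernel

theorem four : ∃ c d : SpecialLinearGroup (Fin 4) (F4), Pr 4 (F4) c d :=
  four_pr (M := M) (N := N) chk4 irr_f irr_g (by rw [F4.natCard]; norm_num) (by decide +kernel) (by decide +kernel)
    M_pow N_pow (by norm_num) (by norm_num)

theorem five : ∃ c d : SpecialLinearGroup (Fin 5) (F4), Pr 5 (F4) c d :=
  five_pr chk5 irr_p irr_h (q := 4) (N := 341) F4.natCard (by norm_num) (by norm_num)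

end Cfsg.Agent.H46.TL.QFour
end

-- part: H46/TL/QFive
section
/-!
# The fixed pairs over the field with 5 elements
-/

set_option autoImplicit false
set_option maxRecDepth 100000
set_option maxHeartbeats 0

namespace Cfsg.Agent.H46.TL.QFive

open Matrix Cfsg.Agent.H962.PP

instance fact : Fact (Nat.Prime 5) := ⟨by norm_num⟩

def M : Matrix (Fin 4) (Fin 4) (ZMod 5) := !![0, 0, 0, 4; 1, 0, 0, 3; 0, 1, 0, 4; 0, 0, 1, 3]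
def M2 : Matrix (Fin 4) (Fin 4) (ZMod 5) := !![0, 0, 4, 2; 0, 0, 3, 3; 1, 0, 4, 0; 0, 1, 3, 3]
def M4 : Matrix (Fin 4) (Fin 4) (ZMod 5) := !![4, 2, 2, 1; 3, 3, 1, 4; 4, 0, 0, 2; 3, 3, 4, 2]
def M8 : Matrix (Fin 4) (Fin 4) (ZMod 5) := !![3, 2, 4, 3; 2, 2, 0, 0; 2, 4, 1, 3; 3, 1, 2, 2]
def M12 : Matrix (Fin 4) (Fin 4) (ZMod 5) := !![3, 1, 0, 0; 4, 0, 1, 0; 3, 0, 0, 1; 4, 0, 0, 0]
theorem M_pow : M ^ 13 = 1 := by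
  have e1 : M ^ 1 = M := pow_one _
  have e2 : M ^ 2 = M2 := (pow_add M 1 1).trans (by rw [e1]; decide +kernel)
  have e4 : M ^ 4 = M4 := (pow_add M 2 2).trans (by rw [e2]; decide +kernel)
  have e8 : M ^ 8 = M8 := (pow_add M 4 4).trans (by rw [e4]; decide +kernel)
  have e12 : M ^ 12 = M12 := (pow_add M 8 4).trans (by rw [e8, e4]; decide +kernel)
  have e13 : M ^ 13 = 1 := (pow_add M 12 1).trans (by rw [e12, e1]; decide +kernel)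
  exact e13

def N : Matrix (Fin 4) (Fin 4) (ZMod 5) := !![0, 0, 0, 4; 1, 0, 0, 2; 0, 1, 0, 0; 0, 0, 1, 2]
def N2 : Matrix (Fin 4) (Fin 4) (ZMod 5) := !![0, 0, 4, 3; 0, 0, 2, 3; 1, 0, 0, 2; 0, 1, 2, 4]
def N4 : Matrix (Fin 4) (Fin 4) (ZMod 5) := !![4, 3, 1, 0; 2, 3, 1, 1; 0, 2, 3, 1; 2, 4, 0, 3]
def N8 : Matrix (Fin 4) (Fin 4) (ZMod 5) := !![2, 3, 0, 4; 1, 1, 3, 2; 1, 1, 1, 3; 2, 0, 1, 3]
def N12 : Matrix (Fin 4) (Fin 4) (ZMod 5) := !![2, 1, 0, 0; 0, 0, 1, 0; 2, 0, 0, 1; 4, 0, 0, 0]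
theorem N_pow : N ^ 13 = 1 := by
  have e1 : N ^ 1 = N := pow_one _
  have e2 : N ^ 2 = N2 := (pow_add N 1 1).trans (by rw [e1]; decide +kernel)
  have e4 : N ^ 4 = N4 := (pow_add N 2 2).trans (by rw [e2]; decide +kernel)
  have e8 : N ^ 8 = N8 := (pow_add N 4 4).trans (by rw [e4]; decide +kernel)
  have e12 : N ^ 12 = N12 := (pow_add N 8 4).trans (by rw [e8, e4]; decide +kernel)
  have e13 : N ^ 13 = 1 := (pow_add N 12 1).trans (by rw [e12, e1]; decide +kernel)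
  exact e13

theorem irr_f : Irreducible (kt (2 : ZMod 5) 1 2) :=
  kt_irr (by decide +kernel) (by decide +kernel)

theorem irr_g : Irreducible (kt (3 : ZMod 5) 0 3) :=
  kt_irr (by decide +kernel) (by decide +kernel)

theorem sp0 : ∃ X Y : Matrix (Fin 4) (Fin 4) (ZMod 5), Y * X = BB (1 : ZMod 5) 1 ∧
    (∀ j, (X ^ 4 + (2 : ZMod 5) • X ^ 3 + (1 : ZMod 5) • X ^ 2 + (2 : ZMod 5) • X + 1 : Matrix (Fin 4) (Fin 4) (ZMod 5)) j 0 = 0) ∧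
    (∀ j, (Y ^ 4 + (3 : ZMod 5) • Y ^ 3 + (0 : ZMod 5) • Y ^ 2 + (3 : ZMod 5) • Y + 1 : Matrix (Fin 4) (Fin 4) (ZMod 5)) j 0 = 0) :=
  ⟨!![2, 4, 0, 4; 1, 2, 1, 1; 1, 0, 4, 1; 1, 1, 0, 0], !![2, 1, 1, 4; 0, 0, 0, 1; 0, 2, 2, 1; 2, 2, 1, 3], by decide +kernel, by decide +kernel, by decide +kernel⟩

theorem sp1 : ∃ X Y : Matrix (Fin 4) (Fin 4) (ZMod 5), Y * X = BB (4 : ZMod 5) 1 ∧
    (∀ j, (X ^ 4 + (2 : ZMod 5) • X ^ 3 + (1 : ZMod 5) • X ^ 2 + (2 : ZMod 5) • X + 1 : Matrix (Fin 4) (Fin 4) (ZMod 5)) j 0 = 0) ∧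
    (∀ j, (Y ^ 4 + (3 : ZMod 5) • Y ^ 3 + (0 : ZMod 5) • Y ^ 2 + (3 : ZMod 5) • Y + 1 : Matrix (Fin 4) (Fin 4) (ZMod 5)) j 0 = 0) :=
  ⟨!![3, 2, 2, 0; 4, 2, 1, 3; 0, 1, 3, 4; 3, 2, 0, 0], !![0, 1, 3, 2; 0, 0, 0, 2; 1, 1, 4, 1; 4, 1, 4, 3], by decide +kernel, by decide +kernel, by decide +kernel⟩

theorem sp2 : ∃ X Y : Matrix (Fin 4) (Fin 4) (ZMod 5), Y * X = BB (2 : ZMod 5) 4 ∧
    (∀ j, (X ^ 4 + (2 : ZMod 5) • X ^ 3 + (1 : ZMod 5) • X ^ 2 + (2 : ZMod 5) • X + 1 : Matrix (Fin 4) (Fin 4) (ZMod 5)) j 0 = 0) ∧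
    (∀ j, (Y ^ 4 + (3 : ZMod 5) • Y ^ 3 + (0 : ZMod 5) • Y ^ 2 + (3 : ZMod 5) • Y + 1 : Matrix (Fin 4) (Fin 4) (ZMod 5)) j 0 = 0) :=
  ⟨!![0, 1, 3, 0; 4, 4, 3, 1; 1, 2, 1, 4; 3, 0, 0, 3], !![4, 2, 2, 0; 2, 4, 2, 1; 1, 0, 2, 1; 1, 1, 0, 2], by decide +kernel, by decide +kernel, by decide +kernel⟩

theorem sp3 : ∃ X Y : Matrix (Fin 4) (Fin 4) (ZMod 5), Y * X = BB (3 : ZMod 5) 4 ∧
    (∀ j, (X ^ 4 + (2 : ZMod 5) • X ^ 3 + (1 : ZMod 5) • X ^ 2 + (2 : ZMod 5) • X + 1 : Matrix (Fin 4) (Fin 4) (ZMod 5)) j 0 = 0) ∧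
    (∀ j, (Y ^ 4 + (3 : ZMod 5) • Y ^ 3 + (0 : ZMod 5) • Y ^ 2 + (3 : ZMod 5) • Y + 1 : Matrix (Fin 4) (Fin 4) (ZMod 5)) j 0 = 0) :=
  ⟨!![0, 4, 4, 3; 2, 1, 3, 3; 4, 0, 4, 1; 2, 2, 2, 3], !![0, 0, 1, 3; 2, 1, 0, 2; 2, 2, 4, 0; 1, 2, 3, 2], by decide +kernel, by decide +kernel, by decide +kernel⟩

theorem sp_cases : ∀ t d : ZMod 5, d ^ 2 = 1 → (∀ x : ZMod 5, x ^ 2 - t * x + d ≠ 0) →
    (t = 1 ∧ d = 1) ∨ (t = 4 ∧ d = 1) ∨ (t = 2 ∧ d = 4) ∨ (t = 3 ∧ d = 4) := by decide +kernel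

theorem cyc4 : ∀ t : ZMod 5, ∃ a : ZMod 5, a ≠ 0 ∧ ∃ b : ZMod 5, b ≠ 0 ∧ ∃ Y : ZMod 5, Y ≠ 1 ∧
    Y * (a * 2 - 2 + a * b * t - Y) = a ^ 4 * G4 3 0 3 b := by decide +kernel

theorem one4 : ∀ k : ZMod 5, k ≠ 0 → ∀ t : ZMod 5, ∃ a : ZMod 5, a ≠ 0 ∧ ∃ b : ZMod 5, b ≠ 0 ∧ ∃ Y : ZMod 5, Y ≠ 1 ∧ Y ≠ a * b * k ∧
    (a * b * k) * (Y * (a * 2 - 1 + a * b * t - Y)) = a ^ 4 * G4 3 0 3 b := by decide +kernel

theorem chk4 : Chk4 (ZMod 5) 2 1 2 3 0 3 where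
  cyc := fun t => by
    obtain ⟨a, ha, b, hb, Y, hY, h⟩ := cyc4 t
    exact ⟨a, b, Y, ha, hb, hY, h⟩
  one := fun k t hk => by
    obtain ⟨a, ha, b, hb, Y, hY, hYk, h⟩ := one4 k hk t
    exact ⟨a, b, Y, ha, hb, hY, hYk, h⟩
  two := fun t d hd hx => by
    rcases sp_cases t d hd hx with ⟨rfl, rfl⟩ | ⟨rfl, rfl⟩ | ⟨rfl, rfl⟩ | ⟨rfl, rfl⟩
    · exact sp0
    · exact sp1
    · exact sp2
    · exact sp3
  exc := by decide +kernel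

theorem irr_p : Irreducible (qt (2 : ZMod 5) 2 3 4 (-1)) :=
  qt_irr (by decide +kernel) (by decide +kernel)

theorem irr_h : Irreducible (qt (0 : ZMod 5) 4 0 3 (-1)) :=
  qt_irr (by decide +kernel) (by decide +kernel)

theorem cyc5 : ∀ t : ZMod 5, ∃ a : ZMod 5, a ≠ 0 ∧ ∃ b : ZMod 5, b ≠ 0 ∧ ∃ Y : ZMod 5, Y ≠ 1 ∧
    Y * (a * 2 - 3 + a * b * t - Y) + a ^ 5 * G5 0 4 0 3 b = 0 := by decide +kernel

theorem one5 : ∀ k : ZMod 5, k ≠ 0 → ∀ t : ZMod 5, ∃ a : ZMod 5, a ≠ 0 ∧ ∃ b : ZMod 5, b ≠ 0 ∧ ∃ Y : ZMod 5, Y ≠ 1 ∧ Y ≠ a * b * k ∧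
    (a * b * k) * (Y * (a * 2 - 2 + a * b * t - Y)) + a ^ 5 * G5 0 4 0 3 b = 0 := by decide +kernel

theorem two5 : ∀ s t : ZMod 5, ∃ a : ZMod 5, a ≠ 0 ∧ ∃ b : ZMod 5, b ≠ 0 ∧ a * b * s ≠ 1 ∧ ∃ Y : ZMod 5, Y ≠ 1 ∧ Y ≠ a * b * s - 1 ∧
    (a * b * s - 1) * (Y * (a * 2 - 1 + a * b * t - Y)) + a ^ 5 * G5 0 4 0 3 b = 0 := by decide +kernel

theorem chk5 : Chk5 (ZMod 5) 2 2 3 4 0 4 0 3 where
  cyc := fun t => by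
    obtain ⟨a, ha, b, hb, Y, hY, h⟩ := cyc5 t
    exact ⟨a, b, Y, ha, hb, hY, h⟩
  one := fun k t hk => by
    obtain ⟨a, ha, b, hb, Y, hY, hYk, h⟩ := one5 k hk t
    exact ⟨a, b, Y, ha, hb, hY, hYk, h⟩
  two := fun s t => by
    obtain ⟨a, ha, b, hb, hs, Y, hY, hYk, h⟩ := two5 s t
    exact ⟨a, b, Y, ha, hb, hY, hs, hYk, h⟩
  exc := by decide +kernel

theorem four : ∃ c d : SpecialLinearGroup (Fin 4) (ZMod 5), Pr 4 (ZMod 5) c d :=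
  four_pr (M := M) (N := N) chk4 irr_f irr_g (by rw [(Nat.card_zmod 5)]; norm_num) (by decide +kernel) (by decide +kernel)
    M_pow N_pow (by norm_num) (by norm_num)

theorem five : ∃ c d : SpecialLinearGroup (Fin 5) (ZMod 5), Pr 5 (ZMod 5) c d :=
  five_pr chk5 irr_p irr_h (q := 5) (N := 781) (Nat.card_zmod 5) (by norm_num) (by norm_num)

end Cfsg.Agent.H46.TL.QFive
end

-- part: H46/TL/QSeven
section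
/-!
# The fixed pairs over the field with 7 elements
-/

set_option autoImplicit false
set_option maxRecDepth 100000
set_option maxHeartbeats 0

namespace Cfsg.Agent.H46.TL.QSeven

open Matrix Cfsg.Agent.H962.PP

instance fact : Fact (Nat.Prime 7) := ⟨by norm_num⟩

def M : Matrix (Fin 4) (Fin 4) (ZMod 7) := !![0, 0, 0, 6; 1, 0, 0, 6; 0, 1, 0, 6; 0, 0, 1, 6]
def M2 : Matrix (Fin 4) (Fin 4) (ZMod 7) := !![0, 0, 6, 1; 0, 0, 6, 0; 1, 0, 6, 0; 0, 1, 6, 0]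
def M4 : Matrix (Fin 4) (Fin 4) (ZMod 7) := !![6, 1, 0, 0; 6, 0, 1, 0; 6, 0, 0, 1; 6, 0, 0, 0]
theorem M_pow : M ^ 5 = 1 := by
  have e1 : M ^ 1 = M := pow_one _
  have e2 : M ^ 2 = M2 := (pow_add M 1 1).trans (by rw [e1]; decide +kernel)
  have e4 : M ^ 4 = M4 := (pow_add M 2 2).trans (by rw [e2]; decide +kernel)
  have e5 : M ^ 5 = 1 := (pow_add M 4 1).trans (by rw [e4, e1]; decide +kernel)
  exact e5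

def N : Matrix (Fin 4) (Fin 4) (ZMod 7) := !![0, 0, 0, 6; 1, 0, 0, 3; 0, 1, 0, 0; 0, 0, 1, 3]
def N2 : Matrix (Fin 4) (Fin 4) (ZMod 7) := !![0, 0, 6, 4; 0, 0, 3, 1; 1, 0, 0, 3; 0, 1, 3, 2]
def N4 : Matrix (Fin 4) (Fin 4) (ZMod 7) := !![6, 4, 5, 5; 3, 1, 3, 4; 0, 3, 1, 3; 3, 2, 2, 0]
def N8 : Matrix (Fin 4) (Fin 4) (ZMod 7) := !![0, 4, 1, 5; 5, 2, 1, 0; 4, 5, 2, 1; 3, 6, 2, 1]
def N16 : Matrix (Fin 4) (Fin 4) (ZMod 7) := !![4, 1, 2, 6; 0, 1, 2, 5; 1, 0, 1, 2; 6, 5, 1, 4]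
def N24 : Matrix (Fin 4) (Fin 4) (ZMod 7) := !![3, 1, 0, 0; 0, 0, 1, 0; 3, 0, 0, 1; 6, 0, 0, 0]
theorem N_pow : N ^ 25 = 1 := by
  have e1 : N ^ 1 = N := pow_one _
  have e2 : N ^ 2 = N2 := (pow_add N 1 1).trans (by rw [e1]; decide +kernel)
  have e4 : N ^ 4 = N4 := (pow_add N 2 2).trans (by rw [e2]; decide +kernel)
  have e8 : N ^ 8 = N8 := (pow_add N 4 4).trans (by rw [e4]; decide +kernel)
  have e16 : N ^ 16 = N16 := (pow_add N 8 8).trans (by rw [e8]; decide +kernel)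
  have e24 : N ^ 24 = N24 := (pow_add N 16 8).trans (by rw [e16, e8]; decide +kernel)
  have e25 : N ^ 25 = 1 := (pow_add N 24 1).trans (by rw [e24, e1]; decide +kernel)
  exact e25

theorem irr_f : Irreducible (kt (1 : ZMod 7) 1 1) :=
  kt_irr (by decide +kernel) (by decide +kernel)

theorem irr_g : Irreducible (kt (4 : ZMod 7) 0 4) :=
  kt_irr (by decide +kernel) (by decide +kernel)

theorem sp0 : ∃ X Y : Matrix (Fin 4) (Fin 4) (ZMod 7), Y * X = BB (0 : ZMod 7) 1 ∧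
    (∀ j, (X ^ 4 + (1 : ZMod 7) • X ^ 3 + (1 : ZMod 7) • X ^ 2 + (1 : ZMod 7) • X + 1 : Matrix (Fin 4) (Fin 4) (ZMod 7)) j 0 = 0) ∧
    (∀ j, (Y ^ 4 + (4 : ZMod 7) • Y ^ 3 + (0 : ZMod 7) • Y ^ 2 + (4 : ZMod 7) • Y + 1 : Matrix (Fin 4) (Fin 4) (ZMod 7)) j 0 = 0) :=
  ⟨!![0, 5, 6, 0; 1, 4, 6, 1; 1, 3, 2, 6; 3, 5, 6, 0], !![2, 4, 4, 2; 2, 0, 0, 5; 5, 3, 4, 0; 3, 1, 1, 4], by decide +kernel, by decide +kernel, by decide +kernel⟩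

theorem sp1 : ∃ X Y : Matrix (Fin 4) (Fin 4) (ZMod 7), Y * X = BB (3 : ZMod 7) 1 ∧
    (∀ j, (X ^ 4 + (1 : ZMod 7) • X ^ 3 + (1 : ZMod 7) • X ^ 2 + (1 : ZMod 7) • X + 1 : Matrix (Fin 4) (Fin 4) (ZMod 7)) j 0 = 0) ∧
    (∀ j, (Y ^ 4 + (4 : ZMod 7) • Y ^ 3 + (0 : ZMod 7) • Y ^ 2 + (4 : ZMod 7) • Y + 1 : Matrix (Fin 4) (Fin 4) (ZMod 7)) j 0 = 0) :=
  ⟨!![3, 1, 0, 0; 2, 4, 6, 2; 6, 4, 0, 0; 2, 3, 0, 6], !![1, 0, 3, 0; 0, 0, 6, 0; 4, 0, 0, 1; 3, 6, 4, 2], by decide +kernel, by decide +kernel, by decide +kernel⟩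

theorem sp2 : ∃ X Y : Matrix (Fin 4) (Fin 4) (ZMod 7), Y * X = BB (4 : ZMod 7) 1 ∧
    (∀ j, (X ^ 4 + (1 : ZMod 7) • X ^ 3 + (1 : ZMod 7) • X ^ 2 + (1 : ZMod 7) • X + 1 : Matrix (Fin 4) (Fin 4) (ZMod 7)) j 0 = 0) ∧
    (∀ j, (Y ^ 4 + (4 : ZMod 7) • Y ^ 3 + (0 : ZMod 7) • Y ^ 2 + (4 : ZMod 7) • Y + 1 : Matrix (Fin 4) (Fin 4) (ZMod 7)) j 0 = 0) :=
  ⟨!![3, 6, 4, 1; 4, 0, 1, 0; 4, 2, 5, 3; 0, 5, 4, 5], !![4, 4, 0, 2; 3, 1, 4, 4; 1, 4, 4, 0; 4, 1, 3, 1], by decide +kernel, by decide +kernel, by decide +kernel⟩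

theorem sp3 : ∃ X Y : Matrix (Fin 4) (Fin 4) (ZMod 7), Y * X = BB (1 : ZMod 7) 6 ∧
    (∀ j, (X ^ 4 + (1 : ZMod 7) • X ^ 3 + (1 : ZMod 7) • X ^ 2 + (1 : ZMod 7) • X + 1 : Matrix (Fin 4) (Fin 4) (ZMod 7)) j 0 = 0) ∧
    (∀ j, (Y ^ 4 + (4 : ZMod 7) • Y ^ 3 + (0 : ZMod 7) • Y ^ 2 + (4 : ZMod 7) • Y + 1 : Matrix (Fin 4) (Fin 4) (ZMod 7)) j 0 = 0) :=
  ⟨!![6, 2, 4, 4; 0, 4, 5, 4; 0, 6, 1, 6; 2, 3, 2, 2], !![4, 1, 3, 2; 2, 3, 2, 5; 3, 3, 5, 5; 3, 0, 0, 5], by decide +kernel, by decide +kernel, by decide +kernel⟩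

theorem sp4 : ∃ X Y : Matrix (Fin 4) (Fin 4) (ZMod 7), Y * X = BB (3 : ZMod 7) 6 ∧
    (∀ j, (X ^ 4 + (1 : ZMod 7) • X ^ 3 + (1 : ZMod 7) • X ^ 2 + (1 : ZMod 7) • X + 1 : Matrix (Fin 4) (Fin 4) (ZMod 7)) j 0 = 0) ∧
    (∀ j, (Y ^ 4 + (4 : ZMod 7) • Y ^ 3 + (0 : ZMod 7) • Y ^ 2 + (4 : ZMod 7) • Y + 1 : Matrix (Fin 4) (Fin 4) (ZMod 7)) j 0 = 0) :=
  ⟨!![0, 2, 0, 4; 2, 0, 2, 1; 2, 0, 1, 3; 6, 0, 6, 5], !![4, 3, 0, 6; 5, 0, 1, 1; 0, 2, 0, 4; 0, 4, 6, 6], by decide +kernel, by decide +kernel, by decide +kernel⟩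

theorem sp5 : ∃ X Y : Matrix (Fin 4) (Fin 4) (ZMod 7), Y * X = BB (4 : ZMod 7) 6 ∧
    (∀ j, (X ^ 4 + (1 : ZMod 7) • X ^ 3 + (1 : ZMod 7) • X ^ 2 + (1 : ZMod 7) • X + 1 : Matrix (Fin 4) (Fin 4) (ZMod 7)) j 0 = 0) ∧
    (∀ j, (Y ^ 4 + (4 : ZMod 7) • Y ^ 3 + (0 : ZMod 7) • Y ^ 2 + (4 : ZMod 7) • Y + 1 : Matrix (Fin 4) (Fin 4) (ZMod 7)) j 0 = 0) :=
  ⟨!![0, 0, 2, 2; 6, 4, 3, 0; 0, 2, 1, 1; 1, 6, 0, 1], !![5, 0, 4, 0; 1, 4, 0, 5; 3, 3, 6, 3; 6, 2, 4, 2], by decide +kernel, by decide +kernel, by decide +kernel⟩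

theorem sp6 : ∃ X Y : Matrix (Fin 4) (Fin 4) (ZMod 7), Y * X = BB (6 : ZMod 7) 6 ∧
    (∀ j, (X ^ 4 + (1 : ZMod 7) • X ^ 3 + (1 : ZMod 7) • X ^ 2 + (1 : ZMod 7) • X + 1 : Matrix (Fin 4) (Fin 4) (ZMod 7)) j 0 = 0) ∧
    (∀ j, (Y ^ 4 + (4 : ZMod 7) • Y ^ 3 + (0 : ZMod 7) • Y ^ 2 + (4 : ZMod 7) • Y + 1 : Matrix (Fin 4) (Fin 4) (ZMod 7)) j 0 = 0) :=
  ⟨!![4, 2, 5, 6; 5, 5, 0, 5; 3, 5, 3, 0; 6, 5, 3, 1], !![2, 6, 6, 0; 6, 6, 0, 4; 4, 6, 2, 3; 1, 0, 1, 0], by decide +kernel, by decide +kernel, by decide +kernel⟩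

theorem sp_cases : ∀ t d : ZMod 7, d ^ 2 = 1 → (∀ x : ZMod 7, x ^ 2 - t * x + d ≠ 0) →
    (t = 0 ∧ d = 1) ∨ (t = 3 ∧ d = 1) ∨ (t = 4 ∧ d = 1) ∨ (t = 1 ∧ d = 6) ∨ (t = 3 ∧ d = 6) ∨ (t = 4 ∧ d = 6) ∨ (t = 6 ∧ d = 6) := by decide +kernel

theorem cyc4 : ∀ t : ZMod 7, ∃ a : ZMod 7, a ≠ 0 ∧ ∃ b : ZMod 7, b ≠ 0 ∧ ∃ Y : ZMod 7, Y ≠ 1 ∧
    Y * (a * 1 - 2 + a * b * t - Y) = a ^ 4 * G4 4 0 4 b := by decide +kernel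

theorem one4 : ∀ k : ZMod 7, k ≠ 0 → ∀ t : ZMod 7, ∃ a : ZMod 7, a ≠ 0 ∧ ∃ b : ZMod 7, b ≠ 0 ∧ ∃ Y : ZMod 7, Y ≠ 1 ∧ Y ≠ a * b * k ∧
    (a * b * k) * (Y * (a * 1 - 1 + a * b * t - Y)) = a ^ 4 * G4 4 0 4 b := by decide +kernel

theorem chk4 : Chk4 (ZMod 7) 1 1 1 4 0 4 where
  cyc := fun t => by
    obtain ⟨a, ha, b, hb, Y, hY, h⟩ := cyc4 t
    exact ⟨a, b, Y, ha, hb, hY, h⟩
  one := fun k t hk => by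
    obtain ⟨a, ha, b, hb, Y, hY, hYk, h⟩ := one4 k hk t
    exact ⟨a, b, Y, ha, hb, hY, hYk, h⟩
  two := fun t d hd hx => by
    rcases sp_cases t d hd hx with ⟨rfl, rfl⟩ | ⟨rfl, rfl⟩ | ⟨rfl, rfl⟩ | ⟨rfl, rfl⟩ | ⟨rfl, rfl⟩ | ⟨rfl, rfl⟩ | ⟨rfl, rfl⟩
    · exact sp0
    · exact sp1
    · exact sp2
    · exact sp3
    · exact sp4
    · exact sp5
    · exact sp6
  exc := by decide +kernel

theorem irr_p : Irreducible (qt (0 : ZMod 7) 2 4 3 (-1)) :=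
  qt_irr (by decide +kernel) (by decide +kernel)

theorem irr_h : Irreducible (qt (4 : ZMod 7) 6 1 2 (-1)) :=
  qt_irr (by decide +kernel) (by decide +kernel)

theorem cyc5 : ∀ t : ZMod 7, ∃ a : ZMod 7, a ≠ 0 ∧ ∃ b : ZMod 7, b ≠ 0 ∧ ∃ Y : ZMod 7, Y ≠ 1 ∧
    Y * (a * 0 - 3 + a * b * t - Y) + a ^ 5 * G5 4 6 1 2 b = 0 := by decide +kernel

theorem one5 : ∀ k : ZMod 7, k ≠ 0 → ∀ t : ZMod 7, ∃ a : ZMod 7, a ≠ 0 ∧ ∃ b : ZMod 7, b ≠ 0 ∧ ∃ Y : ZMod 7, Y ≠ 1 ∧ Y ≠ a * b * k ∧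
    (a * b * k) * (Y * (a * 0 - 2 + a * b * t - Y)) + a ^ 5 * G5 4 6 1 2 b = 0 := by decide +kernel

theorem two5 : ∀ s t : ZMod 7, ∃ a : ZMod 7, a ≠ 0 ∧ ∃ b : ZMod 7, b ≠ 0 ∧ a * b * s ≠ 1 ∧ ∃ Y : ZMod 7, Y ≠ 1 ∧ Y ≠ a * b * s - 1 ∧
    (a * b * s - 1) * (Y * (a * 0 - 1 + a * b * t - Y)) + a ^ 5 * G5 4 6 1 2 b = 0 := by decide +kernel

theorem chk5 : Chk5 (ZMod 7) 0 2 4 3 4 6 1 2 where
  cyc := fun t => by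
    obtain ⟨a, ha, b, hb, Y, hY, h⟩ := cyc5 t
    exact ⟨a, b, Y, ha, hb, hY, h⟩
  one := fun k t hk => by
    obtain ⟨a, ha, b, hb, Y, hY, hYk, h⟩ := one5 k hk t
    exact ⟨a, b, Y, ha, hb, hY, hYk, h⟩
  two := fun s t => by
    obtain ⟨a, ha, b, hb, hs, Y, hY, hYk, h⟩ := two5 s t
    exact ⟨a, b, Y, ha, hb, hY, hs, hYk, h⟩
  exc := by decide +kernel

theorem four : ∃ c d : SpecialLinearGroup (Fin 4) (ZMod 7), Pr 4 (ZMod 7) c d :=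
  four_pr (M := M) (N := N) chk4 irr_f irr_g (by rw [(Nat.card_zmod 7)]; norm_num) (by decide +kernel) (by decide +kernel)
    M_pow N_pow (by norm_num) (by norm_num)

theorem five : ∃ c d : SpecialLinearGroup (Fin 5) (ZMod 7), Pr 5 (ZMod 7) c d :=
  five_pr chk5 irr_p irr_h (q := 7) (N := 2801) (Nat.card_zmod 7) (by norm_num) (by norm_num)

end Cfsg.Agent.H46.TL.QSeven
end

-- part: H46/TL/QSevt
section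
/-!
# The fixed pairs over the field with 17 elements
-/

set_option autoImplicit false
set_option maxRecDepth 100000
set_option maxHeartbeats 0

namespace Cfsg.Agent.H46.TL.QSevt

open Matrix Cfsg.Agent.H962.PP

instance fact : Fact (Nat.Prime 17) := ⟨by norm_num⟩

def M : Matrix (Fin 4) (Fin 4) (ZMod 17) := !![0, 0, 0, 16; 1, 0, 0, 14; 0, 1, 0, 11; 0, 0, 1, 14]
def M2 : Matrix (Fin 4) (Fin 4) (ZMod 17) := !![0, 0, 16, 3; 0, 0, 14, 8; 1, 0, 11, 15; 0, 1, 14, 3]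
def M4 : Matrix (Fin 4) (Fin 4) (ZMod 17) := !![16, 3, 14, 11; 14, 8, 11, 13; 11, 15, 7, 9; 14, 3, 6, 6]
def M8 : Matrix (Fin 4) (Fin 4) (ZMod 17) := !![11, 9, 13, 16; 10, 4, 14, 10; 11, 13, 14, 8; 8, 4, 1, 11]
def M16 : Matrix (Fin 4) (Fin 4) (ZMod 17) := !![6, 11, 8, 2; 10, 5, 1, 14; 10, 8, 2, 13; 6, 9, 15, 8]
def M24 : Matrix (Fin 4) (Fin 4) (ZMod 17) := !![8, 6, 6, 3; 11, 9, 7, 15; 10, 13, 11, 8; 11, 11, 14, 3]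
def M28 : Matrix (Fin 4) (Fin 4) (ZMod 17) := !![14, 1, 0, 0; 11, 0, 1, 0; 14, 0, 0, 1; 16, 0, 0, 0]
theorem M_pow : M ^ 29 = 1 := by
  have e1 : M ^ 1 = M := pow_one _
  have e2 : M ^ 2 = M2 := (pow_add M 1 1).trans (by rw [e1]; decide +kernel)
  have e4 : M ^ 4 = M4 := (pow_add M 2 2).trans (by rw [e2]; decide +kernel)
  have e8 : M ^ 8 = M8 := (pow_add M 4 4).trans (by rw [e4]; decide +kernel)
  have e16 : M ^ 16 = M16 := (pow_add M 8 8).trans (by rw [e8]; decide +kernel)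
  have e24 : M ^ 24 = M24 := (pow_add M 16 8).trans (by rw [e16, e8]; decide +kernel)
  have e28 : M ^ 28 = M28 := (pow_add M 24 4).trans (by rw [e24, e4]; decide +kernel)
  have e29 : M ^ 29 = 1 := (pow_add M 28 1).trans (by rw [e28, e1]; decide +kernel)
  exact e29

def N : Matrix (Fin 4) (Fin 4) (ZMod 17) := !![0, 0, 0, 16; 1, 0, 0, 3; 0, 1, 0, 7; 0, 0, 1, 3]
def N2 : Matrix (Fin 4) (Fin 4) (ZMod 17) := !![0, 0, 16, 14; 0, 0, 3, 8; 1, 0, 7, 7; 0, 1, 3, 16]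
def N4 : Matrix (Fin 4) (Fin 4) (ZMod 17) := !![16, 14, 1, 13; 3, 8, 11, 13; 7, 7, 1, 5; 3, 16, 4, 13]
def N8 : Matrix (Fin 4) (Fin 4) (ZMod 17) := !![4, 7, 2, 3; 1, 0, 1, 10; 2, 3, 3, 14; 10, 15, 14, 11]
def N16 : Matrix (Fin 4) (Fin 4) (ZMod 17) := !![6, 11, 12, 7; 4, 7, 9, 8; 4, 12, 8, 11; 6, 5, 10, 4]
def N24 : Matrix (Fin 4) (Fin 4) (ZMod 17) := !![10, 13, 4, 16; 2, 5, 1, 7; 1, 13, 11, 8; 4, 13, 1, 14]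
def N28 : Matrix (Fin 4) (Fin 4) (ZMod 17) := !![3, 1, 0, 0; 7, 0, 1, 0; 3, 0, 0, 1; 16, 0, 0, 0]
theorem N_pow : N ^ 29 = 1 := by
  have e1 : N ^ 1 = N := pow_one _
  have e2 : N ^ 2 = N2 := (pow_add N 1 1).trans (by rw [e1]; decide +kernel)
  have e4 : N ^ 4 = N4 := (pow_add N 2 2).trans (by rw [e2]; decide +kernel)
  have e8 : N ^ 8 = N8 := (pow_add N 4 4).trans (by rw [e4]; decide +kernel)
  have e16 : N ^ 16 = N16 := (pow_add N 8 8).trans (by rw [e8]; decide +kernel)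
  have e24 : N ^ 24 = N24 := (pow_add N 16 8).trans (by rw [e16, e8]; decide +kernel)
  have e28 : N ^ 28 = N28 := (pow_add N 24 4).trans (by rw [e24, e4]; decide +kernel)
  have e29 : N ^ 29 = 1 := (pow_add N 28 1).trans (by rw [e28, e1]; decide +kernel)
  exact e29

theorem irr_f : Irreducible (kt (3 : ZMod 17) 6 3) :=
  kt_irr (by decide +kernel) (by decide +kernel)

theorem irr_g : Irreducible (kt (14 : ZMod 17) 10 14) :=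
  kt_irr (by decide +kernel) (by decide +kernel)

theorem sp0 : ∃ X Y : Matrix (Fin 4) (Fin 4) (ZMod 17), Y * X = BB (1 : ZMod 17) 1 ∧
    (∀ j, (X ^ 4 + (3 : ZMod 17) • X ^ 3 + (6 : ZMod 17) • X ^ 2 + (3 : ZMod 17) • X + 1 : Matrix (Fin 4) (Fin 4) (ZMod 17)) j 0 = 0) ∧
    (∀ j, (Y ^ 4 + (14 : ZMod 17) • Y ^ 3 + (10 : ZMod 17) • Y ^ 2 + (14 : ZMod 17) • Y + 1 : Matrix (Fin 4) (Fin 4) (ZMod 17)) j 0 = 0) :=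
  ⟨!![11, 16, 4, 9; 2, 1, 8, 2; 8, 13, 12, 13; 16, 8, 7, 7], !![12, 13, 1, 13; 7, 7, 7, 10; 11, 2, 7, 11; 14, 8, 12, 11], by decide +kernel, by decide +kernel, by decide +kernel⟩

theorem sp1 : ∃ X Y : Matrix (Fin 4) (Fin 4) (ZMod 17), Y * X = BB (3 : ZMod 17) 1 ∧
    (∀ j, (X ^ 4 + (3 : ZMod 17) • X ^ 3 + (6 : ZMod 17) • X ^ 2 + (3 : ZMod 17) • X + 1 : Matrix (Fin 4) (Fin 4) (ZMod 17)) j 0 = 0) ∧
    (∀ j, (Y ^ 4 + (14 : ZMod 17) • Y ^ 3 + (10 : ZMod 17) • Y ^ 2 + (14 : ZMod 17) • Y + 1 : Matrix (Fin 4) (Fin 4) (ZMod 17)) j 0 = 0) :=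
  ⟨!![0, 8, 10, 6; 16, 9, 13, 16; 15, 12, 0, 5; 11, 2, 0, 5], !![12, 13, 0, 12; 11, 2, 13, 15; 0, 0, 15, 12; 8, 7, 15, 8], by decide +kernel, by decide +kernel, by decide +kernel⟩

theorem sp2 : ∃ X Y : Matrix (Fin 4) (Fin 4) (ZMod 17), Y * X = BB (4 : ZMod 17) 1 ∧
    (∀ j, (X ^ 4 + (3 : ZMod 17) • X ^ 3 + (6 : ZMod 17) • X ^ 2 + (3 : ZMod 17) • X + 1 : Matrix (Fin 4) (Fin 4) (ZMod 17)) j 0 = 0) ∧
    (∀ j, (Y ^ 4 + (14 : ZMod 17) • Y ^ 3 + (10 : ZMod 17) • Y ^ 2 + (14 : ZMod 17) • Y + 1 : Matrix (Fin 4) (Fin 4) (ZMod 17)) j 0 = 0) :=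
  ⟨!![14, 15, 13, 14; 11, 4, 10, 5; 0, 12, 9, 15; 3, 8, 15, 4], !![4, 8, 3, 3; 12, 15, 5, 14; 1, 13, 9, 10; 3, 3, 2, 9], by decide +kernel, by decide +kernel, by decide +kernel⟩

theorem sp3 : ∃ X Y : Matrix (Fin 4) (Fin 4) (ZMod 17), Y * X = BB (7 : ZMod 17) 1 ∧
    (∀ j, (X ^ 4 + (3 : ZMod 17) • X ^ 3 + (6 : ZMod 17) • X ^ 2 + (3 : ZMod 17) • X + 1 : Matrix (Fin 4) (Fin 4) (ZMod 17)) j 0 = 0) ∧
    (∀ j, (Y ^ 4 + (14 : ZMod 17) • Y ^ 3 + (10 : ZMod 17) • Y ^ 2 + (14 : ZMod 17) • Y + 1 : Matrix (Fin 4) (Fin 4) (ZMod 17)) j 0 = 0) :=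
  ⟨!![8, 8, 10, 4; 9, 16, 3, 9; 16, 4, 3, 0; 2, 15, 10, 4], !![10, 13, 8, 16; 12, 10, 14, 8; 6, 6, 3, 10; 10, 9, 2, 14], by decide +kernel, by decide +kernel, by decide +kernel⟩

theorem sp4 : ∃ X Y : Matrix (Fin 4) (Fin 4) (ZMod 17), Y * X = BB (10 : ZMod 17) 1 ∧
    (∀ j, (X ^ 4 + (3 : ZMod 17) • X ^ 3 + (6 : ZMod 17) • X ^ 2 + (3 : ZMod 17) • X + 1 : Matrix (Fin 4) (Fin 4) (ZMod 17)) j 0 = 0) ∧
    (∀ j, (Y ^ 4 + (14 : ZMod 17) • Y ^ 3 + (10 : ZMod 17) • Y ^ 2 + (14 : ZMod 17) • Y + 1 : Matrix (Fin 4) (Fin 4) (ZMod 17)) j 0 = 0) :=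
  ⟨!![11, 2, 5, 1; 15, 7, 12, 11; 15, 0, 11, 6; 0, 11, 14, 2], !![0, 10, 7, 9; 13, 2, 1, 5; 4, 8, 14, 5; 14, 14, 12, 4], by decide +kernel, by decide +kernel, by decide +kernel⟩

theorem sp5 : ∃ X Y : Matrix (Fin 4) (Fin 4) (ZMod 17), Y * X = BB (13 : ZMod 17) 1 ∧
    (∀ j, (X ^ 4 + (3 : ZMod 17) • X ^ 3 + (6 : ZMod 17) • X ^ 2 + (3 : ZMod 17) • X + 1 : Matrix (Fin 4) (Fin 4) (ZMod 17)) j 0 = 0) ∧
    (∀ j, (Y ^ 4 + (14 : ZMod 17) • Y ^ 3 + (10 : ZMod 17) • Y ^ 2 + (14 : ZMod 17) • Y + 1 : Matrix (Fin 4) (Fin 4) (ZMod 17)) j 0 = 0) :=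
  ⟨!![10, 12, 13, 8; 6, 13, 2, 8; 5, 2, 1, 1; 0, 15, 3, 7], !![6, 6, 8, 7; 6, 1, 4, 6; 3, 9, 7, 7; 15, 2, 5, 6], by decide +kernel, by decide +kernel, by decide +kernel⟩

theorem sp6 : ∃ X Y : Matrix (Fin 4) (Fin 4) (ZMod 17), Y * X = BB (14 : ZMod 17) 1 ∧
    (∀ j, (X ^ 4 + (3 : ZMod 17) • X ^ 3 + (6 : ZMod 17) • X ^ 2 + (3 : ZMod 17) • X + 1 : Matrix (Fin 4) (Fin 4) (ZMod 17)) j 0 = 0) ∧
    (∀ j, (Y ^ 4 + (14 : ZMod 17) • Y ^ 3 + (10 : ZMod 17) • Y ^ 2 + (14 : ZMod 17) • Y + 1 : Matrix (Fin 4) (Fin 4) (ZMod 17)) j 0 = 0) :=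
  ⟨!![9, 15, 15, 6; 15, 1, 3, 1; 3, 1, 1, 13; 12, 4, 12, 3], !![6, 14, 2, 3; 3, 7, 10, 5; 11, 16, 5, 13; 6, 1, 3, 2], by decide +kernel, by decide +kernel, by decide +kernel⟩

theorem sp7 : ∃ X Y : Matrix (Fin 4) (Fin 4) (ZMod 17), Y * X = BB (16 : ZMod 17) 1 ∧
    (∀ j, (X ^ 4 + (3 : ZMod 17) • X ^ 3 + (6 : ZMod 17) • X ^ 2 + (3 : ZMod 17) • X + 1 : Matrix (Fin 4) (Fin 4) (ZMod 17)) j 0 = 0) ∧
    (∀ j, (Y ^ 4 + (14 : ZMod 17) • Y ^ 3 + (10 : ZMod 17) • Y ^ 2 + (14 : ZMod 17) • Y + 1 : Matrix (Fin 4) (Fin 4) (ZMod 17)) j 0 = 0) :=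
  ⟨!![12, 6, 11, 12; 13, 7, 1, 12; 6, 6, 6, 7; 7, 1, 4, 6], !![3, 11, 0, 6; 8, 15, 14, 0; 1, 4, 15, 12; 3, 10, 13, 4], by decide +kernel, by decide +kernel, by decide +kernel⟩

theorem sp8 : ∃ X Y : Matrix (Fin 4) (Fin 4) (ZMod 17), Y * X = BB (1 : ZMod 17) 16 ∧
    (∀ j, (X ^ 4 + (3 : ZMod 17) • X ^ 3 + (6 : ZMod 17) • X ^ 2 + (3 : ZMod 17) • X + 1 : Matrix (Fin 4) (Fin 4) (ZMod 17)) j 0 = 0) ∧
    (∀ j, (Y ^ 4 + (14 : ZMod 17) • Y ^ 3 + (10 : ZMod 17) • Y ^ 2 + (14 : ZMod 17) • Y + 1 : Matrix (Fin 4) (Fin 4) (ZMod 17)) j 0 = 0) :=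
  ⟨!![11, 11, 15, 3; 12, 7, 10, 16; 3, 4, 0, 1; 8, 11, 7, 13], !![7, 14, 6, 16; 13, 10, 4, 4; 5, 7, 0, 6; 7, 13, 5, 3], by decide +kernel, by decide +kernel, by decide +kernel⟩

theorem sp9 : ∃ X Y : Matrix (Fin 4) (Fin 4) (ZMod 17), Y * X = BB (4 : ZMod 17) 16 ∧
    (∀ j, (X ^ 4 + (3 : ZMod 17) • X ^ 3 + (6 : ZMod 17) • X ^ 2 + (3 : ZMod 17) • X + 1 : Matrix (Fin 4) (Fin 4) (ZMod 17)) j 0 = 0) ∧
    (∀ j, (Y ^ 4 + (14 : ZMod 17) • Y ^ 3 + (10 : ZMod 17) • Y ^ 2 + (14 : ZMod 17) • Y + 1 : Matrix (Fin 4) (Fin 4) (ZMod 17)) j 0 = 0) :=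
  ⟨!![3, 7, 7, 4; 6, 0, 2, 5; 11, 12, 16, 15; 10, 14, 0, 12], !![3, 11, 9, 3; 10, 1, 4, 4; 1, 6, 2, 16; 16, 11, 14, 14], by decide +kernel, by decide +kernel, by decide +kernel⟩

theorem sp10 : ∃ X Y : Matrix (Fin 4) (Fin 4) (ZMod 17), Y * X = BB (5 : ZMod 17) 16 ∧
    (∀ j, (X ^ 4 + (3 : ZMod 17) • X ^ 3 + (6 : ZMod 17) • X ^ 2 + (3 : ZMod 17) • X + 1 : Matrix (Fin 4) (Fin 4) (ZMod 17)) j 0 = 0) ∧
    (∀ j, (Y ^ 4 + (14 : ZMod 17) • Y ^ 3 + (10 : ZMod 17) • Y ^ 2 + (14 : ZMod 17) • Y + 1 : Matrix (Fin 4) (Fin 4) (ZMod 17)) j 0 = 0) :=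
  ⟨!![0, 11, 14, 4; 0, 0, 16, 7; 11, 7, 9, 5; 4, 8, 15, 5], !![14, 9, 0, 0; 7, 3, 14, 0; 9, 16, 10, 15; 6, 4, 1, 10], by decide +kernel, by decide +kernel, by decide +kernel⟩

theorem sp11 : ∃ X Y : Matrix (Fin 4) (Fin 4) (ZMod 17), Y * X = BB (6 : ZMod 17) 16 ∧
    (∀ j, (X ^ 4 + (3 : ZMod 17) • X ^ 3 + (6 : ZMod 17) • X ^ 2 + (3 : ZMod 17) • X + 1 : Matrix (Fin 4) (Fin 4) (ZMod 17)) j 0 = 0) ∧
    (∀ j, (Y ^ 4 + (14 : ZMod 17) • Y ^ 3 + (10 : ZMod 17) • Y ^ 2 + (14 : ZMod 17) • Y + 1 : Matrix (Fin 4) (Fin 4) (ZMod 17)) j 0 = 0) :=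
  ⟨!![4, 7, 13, 6; 13, 0, 14, 13; 10, 13, 1, 0; 13, 16, 13, 9], !![13, 10, 16, 9; 4, 5, 16, 9; 7, 16, 5, 12; 1, 6, 11, 14], by decide +kernel, by decide +kernel, by decide +kernel⟩

theorem sp12 : ∃ X Y : Matrix (Fin 4) (Fin 4) (ZMod 17), Y * X = BB (11 : ZMod 17) 16 ∧
    (∀ j, (X ^ 4 + (3 : ZMod 17) • X ^ 3 + (6 : ZMod 17) • X ^ 2 + (3 : ZMod 17) • X + 1 : Matrix (Fin 4) (Fin 4) (ZMod 17)) j 0 = 0) ∧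
    (∀ j, (Y ^ 4 + (14 : ZMod 17) • Y ^ 3 + (10 : ZMod 17) • Y ^ 2 + (14 : ZMod 17) • Y + 1 : Matrix (Fin 4) (Fin 4) (ZMod 17)) j 0 = 0) :=
  ⟨!![7, 10, 10, 10; 9, 9, 3, 7; 11, 8, 15, 5; 1, 9, 0, 0], !![5, 2, 11, 13; 10, 4, 5, 10; 8, 13, 0, 14; 8, 8, 9, 11], by decide +kernel, by decide +kernel, by decide +kernel⟩

theorem sp13 : ∃ X Y : Matrix (Fin 4) (Fin 4) (ZMod 17), Y * X = BB (12 : ZMod 17) 16 ∧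
    (∀ j, (X ^ 4 + (3 : ZMod 17) • X ^ 3 + (6 : ZMod 17) • X ^ 2 + (3 : ZMod 17) • X + 1 : Matrix (Fin 4) (Fin 4) (ZMod 17)) j 0 = 0) ∧
    (∀ j, (Y ^ 4 + (14 : ZMod 17) • Y ^ 3 + (10 : ZMod 17) • Y ^ 2 + (14 : ZMod 17) • Y + 1 : Matrix (Fin 4) (Fin 4) (ZMod 17)) j 0 = 0) :=
  ⟨!![7, 12, 7, 13; 0, 13, 16, 2; 14, 1, 16, 13; 1, 13, 16, 12], !![7, 11, 9, 12; 15, 4, 13, 3; 12, 11, 1, 4; 4, 7, 12, 8], by decide +kernel, by decide +kernel, by decide +kernel⟩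

theorem sp14 : ∃ X Y : Matrix (Fin 4) (Fin 4) (ZMod 17), Y * X = BB (13 : ZMod 17) 16 ∧
    (∀ j, (X ^ 4 + (3 : ZMod 17) • X ^ 3 + (6 : ZMod 17) • X ^ 2 + (3 : ZMod 17) • X + 1 : Matrix (Fin 4) (Fin 4) (ZMod 17)) j 0 = 0) ∧
    (∀ j, (Y ^ 4 + (14 : ZMod 17) • Y ^ 3 + (10 : ZMod 17) • Y ^ 2 + (14 : ZMod 17) • Y + 1 : Matrix (Fin 4) (Fin 4) (ZMod 17)) j 0 = 0) :=
  ⟨!![11, 10, 12, 5; 8, 2, 16, 6; 14, 3, 15, 8; 7, 16, 9, 3], !![2, 10, 16, 2; 3, 3, 4, 1; 11, 2, 0, 12; 12, 10, 15, 15], by decide +kernel, by decide +kernel, by decide +kernel⟩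

theorem sp15 : ∃ X Y : Matrix (Fin 4) (Fin 4) (ZMod 17), Y * X = BB (16 : ZMod 17) 16 ∧
    (∀ j, (X ^ 4 + (3 : ZMod 17) • X ^ 3 + (6 : ZMod 17) • X ^ 2 + (3 : ZMod 17) • X + 1 : Matrix (Fin 4) (Fin 4) (ZMod 17)) j 0 = 0) ∧
    (∀ j, (Y ^ 4 + (14 : ZMod 17) • Y ^ 3 + (10 : ZMod 17) • Y ^ 2 + (14 : ZMod 17) • Y + 1 : Matrix (Fin 4) (Fin 4) (ZMod 17)) j 0 = 0) :=
  ⟨!![12, 8, 11, 9; 11, 8, 8, 6; 16, 6, 11, 0; 15, 14, 12, 0], !![8, 5, 4, 14; 10, 2, 13, 13; 12, 2, 16, 7; 10, 16, 2, 11], by decide +kernel, by decide +kernel, by decide +kernel⟩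

theorem sp_cases : ∀ t d : ZMod 17, d ^ 2 = 1 → (∀ x : ZMod 17, x ^ 2 - t * x + d ≠ 0) →
    (t = 1 ∧ d = 1) ∨ (t = 3 ∧ d = 1) ∨ (t = 4 ∧ d = 1) ∨ (t = 7 ∧ d = 1) ∨ (t = 10 ∧ d = 1) ∨ (t = 13 ∧ d = 1) ∨ (t = 14 ∧ d = 1) ∨ (t = 16 ∧ d = 1) ∨ (t = 1 ∧ d = 16) ∨ (t = 4 ∧ d = 16) ∨ (t = 5 ∧ d = 16) ∨ (t = 6 ∧ d = 16) ∨ (t = 11 ∧ d = 16) ∨ (t = 12 ∧ d = 16) ∨ (t = 13 ∧ d = 16) ∨ (t = 16 ∧ d = 16) := by decide +kernel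

theorem cyc4 : ∀ t : ZMod 17, ∃ a : ZMod 17, a ≠ 0 ∧ ∃ b : ZMod 17, b ≠ 0 ∧ ∃ Y : ZMod 17, Y ≠ 1 ∧
    Y * (a * 3 - 2 + a * b * t - Y) = a ^ 4 * G4 14 10 14 b := by decide +kernel

theorem one4 : ∀ k : ZMod 17, k ≠ 0 → ∀ t : ZMod 17, ∃ a : ZMod 17, a ≠ 0 ∧ ∃ b : ZMod 17, b ≠ 0 ∧ ∃ Y : ZMod 17, Y ≠ 1 ∧ Y ≠ a * b * k ∧
    (a * b * k) * (Y * (a * 3 - 1 + a * b * t - Y)) = a ^ 4 * G4 14 10 14 b := by (delta Cfsg.Agent.H46.TL.G4; set_option synthInstance.maxSize 100000 in exact Cfsg.Agent.Lib.Refl.of (by decide +kernel))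

theorem chk4 : Chk4 (ZMod 17) 3 6 3 14 10 14 where
  cyc := fun t => by
    obtain ⟨a, ha, b, hb, Y, hY, h⟩ := cyc4 t
    exact ⟨a, b, Y, ha, hb, hY, h⟩
  one := fun k t hk => by
    obtain ⟨a, ha, b, hb, Y, hY, hYk, h⟩ := one4 k hk t
    exact ⟨a, b, Y, ha, hb, hY, hYk, h⟩
  two := fun t d hd hx => by
    rcases sp_cases t d hd hx with ⟨rfl, rfl⟩ | ⟨rfl, rfl⟩ | ⟨rfl, rfl⟩ | ⟨rfl, rfl⟩ | ⟨rfl, rfl⟩ | ⟨rfl, rfl⟩ | ⟨rfl, rfl⟩ | ⟨rfl, rfl⟩ | ⟨rfl, rfl⟩ | ⟨rfl, rfl⟩ | ⟨rfl, rfl⟩ | ⟨rfl, rfl⟩ | ⟨rfl, rfl⟩ | ⟨rfl, rfl⟩ | ⟨rfl, rfl⟩ | ⟨rfl, rfl⟩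
    · exact sp0
    · exact sp1
    · exact sp2
    · exact sp3
    · exact sp4
    · exact sp5
    · exact sp6
    · exact sp7
    · exact sp8
    · exact sp9
    · exact sp10
    · exact sp11
    · exact sp12
    · exact sp13
    · exact sp14
    · exact sp15
  exc := by decide +kernel

theorem irr_p : Irreducible (qt (0 : ZMod 17) 0 0 4 (-1)) :=
  qt_irr (by decide +kernel) (by decide +kernel)

theorem irr_h : Irreducible (qt (0 : ZMod 17) 0 0 4 (-1)) :=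
  qt_irr (by decide +kernel) (by decide +kernel)

theorem cyc5 : ∀ t : ZMod 17, ∃ a : ZMod 17, a ≠ 0 ∧ ∃ b : ZMod 17, b ≠ 0 ∧ ∃ Y : ZMod 17, Y ≠ 1 ∧
    Y * (a * 0 - 3 + a * b * t - Y) + a ^ 5 * G5 0 0 0 4 b = 0 := by decide +kernel

theorem one5 : ∀ k : ZMod 17, k ≠ 0 → ∀ t : ZMod 17, ∃ a : ZMod 17, a ≠ 0 ∧ ∃ b : ZMod 17, b ≠ 0 ∧ ∃ Y : ZMod 17, Y ≠ 1 ∧ Y ≠ a * b * k ∧
    (a * b * k) * (Y * (a * 0 - 2 + a * b * t - Y)) + a ^ 5 * G5 0 0 0 4 b = 0 := by (delta Cfsg.Agent.H46.TL.G5; set_option synthInstance.maxSize 100000 in exact Cfsg.Agent.Lib.Refl.of (by decide +kernel))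

theorem two5 : ∀ s t : ZMod 17, ∃ a : ZMod 17, a ≠ 0 ∧ ∃ b : ZMod 17, b ≠ 0 ∧ a * b * s ≠ 1 ∧ ∃ Y : ZMod 17, Y ≠ 1 ∧ Y ≠ a * b * s - 1 ∧
    (a * b * s - 1) * (Y * (a * 0 - 1 + a * b * t - Y)) + a ^ 5 * G5 0 0 0 4 b = 0 := by (delta Cfsg.Agent.H46.TL.G5; set_option synthInstance.maxSize 100000 in exact Cfsg.Agent.Lib.Refl.of (by decide +kernel))

theorem chk5 : Chk5 (ZMod 17) 0 0 0 4 0 0 0 4 where
  cyc := fun t => by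
    obtain ⟨a, ha, b, hb, Y, hY, h⟩ := cyc5 t
    exact ⟨a, b, Y, ha, hb, hY, h⟩
  one := fun k t hk => by
    obtain ⟨a, ha, b, hb, Y, hY, hYk, h⟩ := one5 k hk t
    exact ⟨a, b, Y, ha, hb, hY, hYk, h⟩
  two := fun s t => by
    obtain ⟨a, ha, b, hb, hs, Y, hY, hYk, h⟩ := two5 s t
    exact ⟨a, b, Y, ha, hb, hY, hs, hYk, h⟩
  exc := by decide +kernel

theorem four : ∃ c d : SpecialLinearGroup (Fin 4) (ZMod 17), Pr 4 (ZMod 17) c d :=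
  four_pr (M := M) (N := N) chk4 irr_f irr_g (by rw [(Nat.card_zmod 17)]; norm_num) (by decide +kernel) (by decide +kernel)
    M_pow N_pow (by norm_num) (by norm_num)

theorem five : ∃ c d : SpecialLinearGroup (Fin 5) (ZMod 17), Pr 5 (ZMod 17) c d :=
  five_pr chk5 irr_p irr_h (q := 17) (N := 88741) (Nat.card_zmod 17) (by norm_num) (by norm_num)

end Cfsg.Agent.H46.TL.QSevt
end

-- part: H46/TL/Main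
section
/-!
# Fixed pairs in `SL₄(q)` and `SL₅(q)`, `q = 4, 5, 7, 17`

`tl_four`, `tl_five` : `c d` of orders prime to 6 with irreducible characteristic polynomials and every nonscalar element
is a product of a conjugate of `c` and a conjugate of `d`.
-/

set_option autoImplicit false

namespace Cfsg.Agent.H46.TL

open Matrix

universe u

theorem pr_of_card {n p : ℕ} [Fact p.Prime] {F : Type u} [Field F] [Finite F] (hF : Nat.card F = p)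
    (h : ∃ c d : SpecialLinearGroup (Fin n) (ZMod p), Pr n (ZMod p) c d) :
    ∃ c d : SpecialLinearGroup (Fin n) F, Pr n F c d := by
  let _ : Fintype F := Fintype.ofFinite F
  have hc : Fintype.card (ZMod p) = Fintype.card F := by rw [ZMod.card, ← Nat.card_eq_fintype_card, hF]
  obtain ⟨c, d, hcd⟩ := h
  exact ⟨_, _, hcd.map (FiniteField.ringEquivOfCardEq hc)⟩

theorem pr_of_four {n : ℕ} {F : Type u} [Field F] [Finite F] (hF : Nat.card F = 4)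
    (h : ∃ c d : SpecialLinearGroup (Fin n) Lib.FieldFour.F4, Pr n Lib.FieldFour.F4 c d) :
    ∃ c d : SpecialLinearGroup (Fin n) F, Pr n F c d := by
  let _ : Fintype F := Fintype.ofFinite F
  obtain ⟨c, d, hcd⟩ := h
  exact ⟨_, _, hcd.map (Lib.FieldFour.equivOfCard (by rw [← Nat.card_eq_fintype_card, hF])).symm⟩

/-- the four fields -/
def Q4 (F : Type u) : Prop := Nat.card F = 4 ∨ Nat.card F = 5 ∨ Nat.card F = 7 ∨ Nat.card F = 17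

theorem pr_four (F : Type u) [Field F] [Finite F] (h : Q4 F) : ∃ c d : SpecialLinearGroup (Fin 4) F, Pr 4 F c d := by
  rcases h with h | h | h | h
  · exact pr_of_four h QFour.four
  · exact pr_of_card h QFive.four
  · exact pr_of_card h QSeven.four
  · exact pr_of_card h QSevt.four

theorem pr_five (F : Type u) [Field F] [Finite F] (h : Q4 F) : ∃ c d : SpecialLinearGroup (Fin 5) F, Pr 5 F c d := by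
  rcases h with h | h | h | h
  · exact pr_of_four h QFour.five
  · exact pr_of_card h QFive.five
  · exact pr_of_card h QSeven.five
  · exact pr_of_card h QSevt.five

/-- **`SL₄(q)`, `q = 4, 5, 7, 17`** -/
theorem tl_four (F : Type u) [Field F] [Finite F] (h : Q4 F) : ∃ c d : SpecialLinearGroup (Fin 4) F,
    Irreducible (c : Matrix (Fin 4) (Fin 4) F).charpoly ∧ Irreducible (d : Matrix (Fin 4) (Fin 4) F).charpoly ∧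
    (orderOf c).Coprime 6 ∧ (orderOf d).Coprime 6 ∧
    ∀ A : SpecialLinearGroup (Fin 4) F, (∀ a : F, (A : Matrix (Fin 4) (Fin 4) F) ≠ a • (1 : Matrix (Fin 4) (Fin 4) F)) →
      ∃ g h : SpecialLinearGroup (Fin 4) F, A = (g * c * g⁻¹) * (h * d * h⁻¹) := by
  obtain ⟨c, d, hcd⟩ := pr_four F h
  exact ⟨c, d, hcd.irrc, hcd.irrd, hcd.ordc, hcd.ordd, hcd.tlc⟩

/-- **`SL₅(q)`, `q = 4, 5, 7, 17`** -/
theorem tl_five (F : Type u) [Field F] [Finite F] (h : Q4 F) : ∃ c d : SpecialLinearGroup (Fin 5) F,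
    Irreducible (c : Matrix (Fin 5) (Fin 5) F).charpoly ∧ Irreducible (d : Matrix (Fin 5) (Fin 5) F).charpoly ∧
    (orderOf c).Coprime 6 ∧ (orderOf d).Coprime 6 ∧
    ∀ A : SpecialLinearGroup (Fin 5) F, (∀ a : F, (A : Matrix (Fin 5) (Fin 5) F) ≠ a • (1 : Matrix (Fin 5) (Fin 5) F)) →
      ∃ g h : SpecialLinearGroup (Fin 5) F, A = (g * c * g⁻¹) * (h * d * h⁻¹) := by
  obtain ⟨c, d, hcd⟩ := pr_five F h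
  exact ⟨c, d, hcd.irrc, hcd.irrd, hcd.ordc, hcd.ordd, hcd.tlc⟩

end Cfsg.Agent.H46.TL
end
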